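import Groth.Agent.H25FinCov.Trace
import Groth.Agent.H29Disc.Generic
import Groth.Agent.H22Alg.FiniteDegree
import Groth.Agent.H11Tilde.Local
import Groth.Agent.LeadFF.Coh

/-!
# The structure sheaf is a direct summand of a finite flat algebra of invertible rank
-/

set_option autoImplicit false
set_option linter.style.haveILetI false
set_option backward.isDefEq.respectTransparency false
universe u

open CategoryTheory CategoryTheory.Limits AlgebraicGeometry TopologicalSpace Opposite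
open Groth.Agent Groth.Agent.H29Disc

noncomputable section

namespace Groth.Agent.H25Index

theorem exists_retraction {X Y : Scheme.{u}} (f : X ⟶ Y) [IsFinite f] [Flat f] [IsLocallyNoetherian Y]
    (d : ℕ) (hd : ∀ y, f.finrank y = d) (w : Γ(Y, ⊤)) (hw : (d : Γ(Y, ⊤)) * w = 1) :
    ∃ (σ : Coh.structureModule Y ⟶ (Scheme.Modules.pushforward f).obj (Coh.structureModule X))
      (τ : (Scheme.Modules.pushforward f).obj (Coh.structureModule X) ⟶ Coh.structureModule Y), σ ≫ τ = 𝟙 _ := by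
  classical
  let P := (Scheme.Modules.pushforward f).obj (Coh.structureModule X)
  let D := (RelSpec.QCAlg.directImage f).toModule
  obtain ⟨φ, hφ⟩ := H17.PrinOmega.exists_hom_of_basis P D (fun _ => True)
    (fun W x hx => ⟨W, trivial, hx, le_rfl⟩)
    (fun U _ => { toFun := fun s => s, map_add' := fun _ _ => rfl, map_smul' := fun _ _ => rfl })
    (fun _ _ _ _ _ _ => rfl)
  haveI : IsIso φ := by
    obtain ⟨ψ, hψ⟩ := H17.PrinOmega.exists_hom_of_basis D P (fun _ => True)
      (fun W x hx => ⟨W, trivial, hx, le_rfl⟩)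
      (fun U _ => { toFun := fun s => s, map_add' := fun _ _ => rfl, map_smul' := fun _ _ => rfl })
      (fun _ _ _ _ _ _ => rfl)
    refine ⟨ψ, Scheme.Modules.hom_ext _ _ fun U => ?_, Scheme.Modules.hom_ext _ _ fun U => ?_⟩
    · ext s
      exact (congrArg (ψ.app U) (hφ U trivial s)).trans (hψ U trivial _)
    · ext s
      exact (congrArg (φ.app U) (hψ U trivial s)).trans (hφ U trivial _)
  have hP : FlatMod.IsFinLocFree P := isFinLocFree_pushO f
  have hD : FlatMod.IsFinLocFree D := fun x => by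
    obtain ⟨U, n, hx, ⟨e⟩⟩ := hP x
    exact ⟨U, n, hx, ⟨((Scheme.Modules.restrictFunctor U.ι).mapIso (asIso φ)).symm ≪≫ e⟩⟩
  obtain ⟨τ₀, hτ⟩ := H25FinCov.exists_trace _ hD
  let τ := φ ≫ τ₀
  let s : Γ(X, ⊤) := f.app ⊤ w
  let σ : Coh.structureModule Y ⟶ P := H11Tilde.homOfGlobal P (s : Γ(P, ⊤))
  refine ⟨σ, τ, ?_⟩
  have h1 : τ.app ⊤ (s : Γ(P, ⊤)) = (1 : Γ(Y, ⊤)) := by
    refine H11Tilde.eq_of_locally _ _ fun y _ => ?_
    obtain ⟨U, n, hyU, ⟨e⟩⟩ := hP y
    obtain ⟨V, hV, hyV, hle⟩ := exists_isAffineOpen_mem_and_subset (U := U) (x := y) hyU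
    refine ⟨V, le_top, hyV, ?_⟩
    letI := alg f V
    obtain ⟨hfree, hfin⟩ := H8Props.FinLocFree.free_finite_of_chart P e hle
    haveI : Module.Free Γ(Y, V) Γ(X, f ⁻¹ᵁ V) := hfree.of_equiv (fnEquiv f V)
    haveI : Module.Finite Γ(Y, V) Γ(X, f ⁻¹ᵁ V) := Module.Finite.equiv (fnEquiv f V)
    haveI : Nonempty V := ⟨⟨y, hyV⟩⟩
    have hrk : Module.finrank Γ(Y, V) Γ(X, f ⁻¹ᵁ V) = d := by
      have h3 := H22Alg.FiniteDegree.finrank_eq_rankAtStalk f hV ⟨y, hyV⟩
      rw [Module.rankAtStalk_eq_finrank_of_free, hd] at h3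
      exact h3.symm
    rw [← H11Tilde.app_map_apply]
    show τ₀.app V (φ.app V (P.presheaf.map (homOfLE (le_top : V ≤ ⊤)).op (s : Γ(P, ⊤)))) = _
    rw [hφ V trivial]
    refine (hτ V hV (by assumption) (by assumption) _).trans ?_
    have hs : (X.presheaf.map ((TopologicalSpace.Opens.map f.base).map (homOfLE (le_top : V ≤ ⊤))).op s) =
        algebraMap Γ(Y, V) Γ(X, f ⁻¹ᵁ V) (Y.presheaf.map (homOfLE le_top).op w) := by
      show _ = f.app V (Y.presheaf.map (homOfLE le_top).op w)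
      rw [← ConcreteCategory.comp_apply, ← ConcreteCategory.comp_apply, f.naturality]
      exact rfl
    refine (congrArg (Algebra.trace Γ(Y, V) Γ(X, f ⁻¹ᵁ V)) hs).trans ?_
    rw [Algebra.trace_algebraMap, hrk, nsmul_eq_mul,
      ← map_natCast (Y.presheaf.map (homOfLE (le_top : V ≤ ⊤)).op).hom d]
    exact ((map_mul (Y.presheaf.map (homOfLE (le_top : V ≤ ⊤)).op).hom _ _).symm.trans
      (congrArg (Y.presheaf.map (homOfLE (le_top : V ≤ ⊤)).op).hom hw))
  refine Scheme.Modules.hom_ext _ _ fun V => ?_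
  ext r
  show τ.app V ((show Γ(Y, V) from r) • P.presheaf.map (homOfLE le_top).op (s : Γ(P, ⊤))) = r
  rw [Scheme.Modules.Hom.app_smul, H11Tilde.app_map_apply, h1]
  show (show Γ(Y, V) from r) * Y.presheaf.map (homOfLE le_top).op (1 : Γ(Y, ⊤)) = r
  rw [map_one]
  exact mul_one (show Γ(Y, V) from r)

end Groth.Agent.H25Index
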