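import Groth.Agent.H25Index.Main
import Groth.Agent.H25Index.Split
import Groth.Agent.H25AbCube.Formula
import Groth.Agent.H25AbCube.Degree
import Groth.Agent.H25AbCube.PoincareSplit
import Groth.Agent.H10Coh.SerreVanishing2

/-!
# The index of an ample class is zero
-/

set_option autoImplicit false
set_option linter.style.haveILetI false
set_option linter.unusedSectionVars false
set_option backward.isDefEq.respectTransparency false
set_option synthInstance.maxHeartbeats 400000
set_option maxHeartbeats 1000000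
universe u

open CategoryTheory CategoryTheory.Limits MonoidalCategory CartesianMonoidalCategory MonObj GrpObj AlgebraicGeometry
  TopologicalSpace Opposite
open Groth.Agent Groth.Agent.H25AbCube Groth.Agent.H25Pic0

noncomputable section

attribute [local instance 10000] H10Coh.hasSheafifyAb H10Coh.hasWeakSheafifyAb H10Coh.hasExtAb H10Coh.enoughInjAb

namespace Groth.Agent.H25Index

/-- Nonzero cohomology stays nonzero on a cover of invertible degree. -/
theorem nontrivial_HH_pullback {X Y : Scheme.{u}} (f : X ⟶ Y) [IsFinite f] [Flat f] [IsLocallyNoetherian Y]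
    (d : ℕ) (hd : ∀ y, f.finrank y = d) (w : Γ(Y, ⊤)) (hw : (d : Γ(Y, ⊤)) * w = 1)
    (L : Y.Modules) (hL : PicF.IsInvertible L) (n : ℕ) (h : Nontrivial (Coh.HH Y L n)) :
    Nontrivial (Coh.HH X ((Scheme.Modules.pullback f).obj L) n) := by
  by_contra hc
  haveI := not_nontrivial_iff_subsingleton.1 hc
  obtain ⟨σ, τ, hστ⟩ := exists_retraction f d hd w hw
  let O := Coh.structureModule X
  haveI : O.IsQuasicoherent := (H11Ample.isCoh_of_isInvertible H11Ample.isInvertible_structureModule).1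
  have hp := H11Ample.isInvertible_pullback f hL
  haveI := H10Coh.PF.isIso_ψ_of_isFinLocFree f (H23Para.isFinLocFree_of_isInvertible hL) O
  let G := (H10Coh.PF.TR ((Scheme.Modules.pullback f).obj L)).obj O
  haveI : G.IsQuasicoherent :=
    (H11Ample.isCoh_of_isInvertible (H11Ample.isInvertible_tensor H11Ample.isInvertible_structureModule hp)).1
  haveI : Subsingleton (H10Coh.HnM G n ⊤) := by
    haveI := H10Coh.subsingleton_HH_of_iso (H10Coh.Tw.leftUnitIso ((Scheme.Modules.pullback f).obj L)).symm n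
      ‹Subsingleton (Coh.HH X ((Scheme.Modules.pullback f).obj L) n)›
    exact @Equiv.subsingleton _ _ (H10Coh.HHEquiv G n).symm.toEquiv (by assumption)
  haveI : Subsingleton (H10Coh.HnM G n (f ⁻¹ᵁ ⊤)) := ‹Subsingleton (H10Coh.HnM G n ⊤)›
  haveI : Subsingleton (H10Coh.HnM ((Scheme.Modules.pushforward f).obj G) n ⊤) :=
    (H10Coh.affineLerayEquiv f G n ⊤).toEquiv.subsingleton
  let T := H10Coh.PF.TR L ⋙ H10Coh.shF Y
  let eO : T.obj (Coh.structureModule Y) ≅ H10Coh.sh L := (H10Coh.shF Y).mapIso (H10Coh.Tw.leftUnitIso L)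
  let eG : T.obj ((Scheme.Modules.pushforward f).obj O) ≅ H10Coh.sh ((Scheme.Modules.pushforward f).obj G) :=
    (H10Coh.shF Y).mapIso (asIso (H16Derived.ProjFormula.ψ f O L))
  haveI : Subsingleton (H10Coh.HnM L n ⊤) := by
    refine H10Coh.Tw.subsingleton_of_sum_eq_id
      (P := fun _ : Fin 1 => H10Coh.sh ((Scheme.Modules.pushforward f).obj G))
      (fun _ => eO.inv ≫ T.map σ ≫ eG.hom) (fun _ => eG.inv ≫ T.map τ ≫ eO.hom) ?_ fun _ =>
        ‹Subsingleton (H10Coh.HnM ((Scheme.Modules.pushforward f).obj G) n ⊤)›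
    simp only [Finset.univ_unique, Finset.sum_singleton, Category.assoc, Iso.hom_inv_id_assoc]
    rw [← T.map_comp_assoc, hστ, T.map_id, Category.id_comp]
    exact eO.inv_hom_id
  exact not_subsingleton (Coh.HH Y L n) (H10Coh.HHEquiv L n).toEquiv.subsingleton

theorem subsingleton_HH_pullback {P E : Scheme.{u}} (e : P ≅ E) (F : E.Modules) [F.IsQuasicoherent]
    [((Scheme.Modules.pullback e.hom).obj F).IsQuasicoherent] (q : ℕ) (h : Subsingleton (Coh.HH E F q)) :
    Subsingleton (Coh.HH P ((Scheme.Modules.pullback e.hom).obj F) q) :=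
  H4TopDual.subsingleton_HH_of_pullback_iso e.symm _ q (H10Coh.subsingleton_HH_of_iso
    ((((Scheme.Modules.pullbackComp e.inv e.hom).app F) ≪≫
      (Scheme.Modules.pullbackCongr e.inv_hom_id).app F ≪≫ (Scheme.Modules.pullbackId _).app F)).symm q h)

variable {k : Type u} [Field k] [IsAlgClosed k] {A : Over (Spec (CommRingCat.of k))} [GrpObj A] [IsProper A.hom]
  [GeometricallyIntegral A.hom]

/-- Translation of a class does not change the vanishing of cohomology. -/
theorem subsingleton_HH_transl (L M : A.left.Modules) (hL : PicF.IsInvertible L) (hM : PicF.IsInvertible M)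
    (x : 𝟙_ (Over (Spec (CommRingCat.of k))) ⟶ A) (h : pc M hM = transl (pc L hL) x) (n : ℕ)
    (hs : Subsingleton (Coh.HH A.left L n)) : Subsingleton (Coh.HH A.left M n) := by
  let t : A ≅ A :=
    { hom := 𝟙 A * (toUnit A ≫ x)
      inv := 𝟙 A * (toUnit A ≫ x⁻¹)
      hom_inv_id := by
        rw [MonObj.comp_mul, Category.comp_id, ← Category.assoc, comp_toUnit, _root_.mul_assoc, ← MonObj.comp_mul,
          mul_inv_cancel, MonObj.comp_one, _root_.mul_one]
      inv_hom_id := by
        rw [MonObj.comp_mul, Category.comp_id, ← Category.assoc, comp_toUnit, _root_.mul_assoc, ← MonObj.comp_mul,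
          inv_mul_cancel, MonObj.comp_one, _root_.mul_one] }
  have hp := H11Ample.isInvertible_pullback ((Over.forget _).mapIso t).hom hL
  haveI : L.IsQuasicoherent := (H11Ample.isCoh_of_isInvertible hL).1
  haveI : ((Scheme.Modules.pullback ((Over.forget _).mapIso t).hom).obj L).IsQuasicoherent :=
    (H11Ample.isCoh_of_isInvertible hp).1
  obtain ⟨e⟩ := (pc_eq_iff hp hM).1 ((pullP_pc _ L hL hp).trans h.symm)
  exact H10Coh.subsingleton_HH_of_iso e n (subsingleton_HH_pullback ((Over.forget _).mapIso t) L n hs)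

/-- Ample classes have index zero. -/
theorem ample_vanishing (L : A.left.Modules) (hLa : CohB1.IsAmple L) :
    (∀ j : ℕ, 0 < j → Subsingleton (Coh.HH A.left L j)) ∧ Nontrivial (Coh.HH A.left L 0) := by
  haveI : IsCommMonObj A := isCommMonObj_of_av
  haveI : IsLocallyNoetherian A.left := LocallyOfFiniteType.isLocallyNoetherian A.hom
  haveI : CompactSpace A.left := QuasiCompact.compactSpace_of_compactSpace A.hom
  haveI : IsNoetherian A.left := {}
  haveI : IsIntegral A.left := GeometricallyIntegral.isIntegral_of_subsingleton A.hom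
  obtain ⟨g, hg⟩ := H25Grp.exists_nat_dim A.hom
  obtain ⟨i, -, hvan, hne, -⟩ := exists_index L hLa.1 (finite_fixing L hLa) g hg
  suffices hi : i = 0 by subst hi; exact ⟨fun j hj => hvan j hj.ne', hne⟩
  by_contra hi
  let ℓ := pc L hLa.1
  haveI : IsNoetherianRing (CommRingCat.of k) := inferInstanceAs (IsNoetherianRing k)
  obtain ⟨k₀, hk₀⟩ := H10Coh.Tw.exists_vanishing_ample A.hom hLa (Coh.structureModule A.left)
    (H11Ample.isCoh_of_isInvertible H11Ample.isInvertible_structureModule)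
  obtain ⟨n, hn, hnk, hn0⟩ := exists_prime_gt k k₀
  let φ : A ⟶ A := (𝟙 A) ^ n
  haveI : IsFinite φ.left := isFinite_pow hn.pos
  haveI : Flat φ.left := flat_pow hn.pos
  have hnk' : k₀ ≤ n * n := hnk.le.trans (Nat.le_mul_of_pos_left n hn.pos)
  let w : k →+* Γ(A.left, ⊤) := (A.hom.appTop.hom).comp (Scheme.ΓSpecIso (CommRingCat.of k)).inv.hom
  have h1 := nontrivial_HH_pullback φ.left (n ^ (2 * g)) (finrank_pow hn.pos g hg) (w ((n ^ (2 * g) : ℕ) : k)⁻¹)
    (by rw [← map_natCast w, ← map_mul, mul_inv_cancel₀ (by rw [Nat.cast_pow]; exact pow_ne_zero _ hn0), map_one])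
    L hLa.1 i hne
  let Lm := CohB1.tensorPow L (n * n)
  have hLm : CohB1.IsAmple Lm := (H11Ample.isAmple_tensorPow_iff hLa.1 (n * n) (Nat.mul_pos hn.pos hn.pos)).1 hLa
  have hpm : pc Lm hLm.1 = (n * n) • ℓ := pc_tensorPow L hLa.1 (n * n)
  let v := n.choose 2 • (ev ℓ ((𝟙 A)⁻¹) - ℓ)
  have hinv : ∀ a : 𝟙_ (Over (Spec (CommRingCat.of k))) ⟶ A, transl v a = v := by
    intro a
    have hphi : transl (ev ℓ ((𝟙 A)⁻¹)) a - ev ℓ ((𝟙 A)⁻¹) = transl ℓ a - ℓ := by
      have h1 : transl (ev ℓ ((𝟙 A)⁻¹)) a = ev (transl ℓ a⁻¹) ((𝟙 A)⁻¹) := by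
        rw [transl, transl, ev_comp, ev_comp]
        simp only [MonObj.comp_mul, GrpObj.comp_inv, Category.comp_id, _root_.mul_inv]
        rw [← Category.assoc, comp_toUnit]
      have h2 : transl ℓ a⁻¹ - ℓ = - (transl ℓ a - ℓ) := by
        rw [eq_neg_iff_add_eq_zero, ← phi_mul, inv_mul_cancel, transl, MonObj.comp_one, _root_.mul_one,
          show ev ℓ (𝟙 A) = ℓ from pullP_id _, sub_self]
      have h3 : ev (transl ℓ a - ℓ) ((𝟙 A)⁻¹) = - (transl ℓ a - ℓ) := by
        rw [ev_inv (phi_additive ℓ a), show ev (transl ℓ a - ℓ) (𝟙 A) = transl ℓ a - ℓ from pullP_id _]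
      rw [h1]
      calc ev (transl ℓ a⁻¹) ((𝟙 A)⁻¹) - ev ℓ ((𝟙 A)⁻¹) = ev (transl ℓ a⁻¹ - ℓ) ((𝟙 A)⁻¹) := (map_sub _ _ _).symm
        _ = - ev (transl ℓ a - ℓ) ((𝟙 A)⁻¹) := by rw [h2]; exact map_neg _ _
        _ = _ := by rw [h3, neg_neg]
    show ev (n.choose 2 • _) _ = _
    rw [ev, map_nsmul, map_sub]
    show n.choose 2 • (transl _ a - transl ℓ a) = _
    rw [sub_eq_sub_iff_sub_eq_sub.1 hphi]
  obtain ⟨x, hx⟩ := exists_of_ample Lm hLm v (ev_mul_of_invariant v hinv _ _)
  have hfo : ev ℓ φ = transl (pc Lm hLm.1) x := by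
    rw [eq_add_of_sub_eq hx, hpm, H25AbCube.ev_pow ℓ n]
    have hc : n.choose 2 + n.choose 2 + n = n * n := by
      have h : n * (n - 1) / 2 * 2 = n * (n - 1) := Nat.div_mul_cancel (Nat.even_mul_pred_self n).two_dvd
      have h' : n * (n - 1) + n = n * n := by rw [← Nat.mul_succ, Nat.succ_eq_add_one, Nat.sub_add_cancel hn.pos]
      rw [Nat.choose_two_right]; omega
    simp only [v]
    rw [smul_sub, ← hc, add_nsmul, add_nsmul, smul_add]
    abel
  have hp := H11Ample.isInvertible_pullback φ.left hLa.1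
  have hs : Subsingleton (Coh.HH A.left Lm i) := by
    haveI := hk₀ (n * n) hnk' i (Nat.pos_of_ne_zero hi)
    refine H10Coh.subsingleton_HH_of_iso (H10Coh.Tw.leftUnitIso Lm) i ?_
    exact (H10Coh.HHEquiv _ i).toEquiv.subsingleton
  haveI := subsingleton_HH_transl Lm _ hLm.1 hp x ((pullP_pc _ L hLa.1 hp).trans hfo) i hs
  exact not_subsingleton (Coh.HH A.left ((Scheme.Modules.pullback φ.left).obj L) i) ‹_›

end Groth.Agent.H25Index
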