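import Groth.Agent.H25Euler.Additive
import Groth.Agent.H29RR.Pencil

/-!
# Inequalities between the dimensions of cohomology groups
-/

set_option autoImplicit false
set_option linter.style.haveILetI false
set_option linter.unusedSectionVars false
universe u

open CategoryTheory CategoryTheory.Limits AlgebraicGeometry Opposite TopologicalSpace Abelian

namespace Groth.Agent.H25Index

attribute [local instance 10000] H10Coh.hasSheafifyAb H10Coh.hasWeakSheafifyAb H10Coh.hasExtAb H10Coh.enoughInjAb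

variable {k : Type u} [Field k] {X : Scheme.{u}} [X.Over (Spec (CommRingCat.of k))]

/-- The dimension of a cohomology group of a module. -/
noncomputable def hd (k : Type u) [Field k] [X.Over (Spec (CommRingCat.of k))] (M : X.Modules) (n : ℕ) : ℕ :=
  Module.finrank k (Coh.HH X M n)

variable [IsProper (X ↘ Spec (CommRingCat.of k))]

theorem finite_HH (M : X.Modules) (hM : Coh.IsCoh M) (n : ℕ) : Module.Finite k (Coh.HH X M n) :=
  H10Coh.finite_HH_proper k X M hM n

theorem hd_congr {M N : X.Modules} (e : M ≅ N) (n : ℕ) : hd k M n = hd k N n :=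
  (LinearEquiv.ofLinearMap (Canon.HHlin k e.hom n) (Canon.HHlin k e.inv n)
    (LinearMap.ext fun x => by rw [LinearMap.comp_apply, ← H29RR.hhlin_comp, e.inv_hom_id, H29RR.hhlin_id]; rfl)
    (LinearMap.ext fun x => by
      rw [LinearMap.comp_apply, ← H29RR.hhlin_comp, e.hom_inv_id, H29RR.hhlin_id]; rfl)).finrank_eq

/-- The three inequalities of a short exact sequence. -/
theorem hd_shortExact {S : ShortComplex X.Modules} (hS : S.ShortExact)
    (h₁ : Coh.IsCoh S.X₁) (h₂ : Coh.IsCoh S.X₂) (h₃ : Coh.IsCoh S.X₃) (n : ℕ) :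
    hd k S.X₂ n ≤ hd k S.X₁ n + hd k S.X₃ n ∧ hd k S.X₁ n ≤ hd k S.X₂ n + hd k S.X₃ (n - 1) ∧
      hd k S.X₃ n ≤ hd k S.X₂ n + hd k S.X₁ (n + 1) := by
  let σ := H10Coh.actSeq (H10Coh.globA (A := k)) S
  have hS' := H10Coh.shortExact_sh hS
  letI := fun n => σ.a₁.mod n (⊤ : X.Opens)
  letI := fun n => σ.a₂.mod n (⊤ : X.Opens)
  letI := fun n => σ.a₃.mod n (⊤ : X.Opens)
  have hf : ∀ (M : X.Modules), Coh.IsCoh M → ∀ n, H10Coh.FinH (H10Coh.globA (A := k) (X := X)) M n ⊤ :=
    fun M hM n => (H10Coh.finite_HH_iff_finH M n).1 (H10Coh.finite_HH_proper k X M hM n)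
  haveI : ∀ n, FiniteDimensional k (H10Coh.Hn (S.map (H10Coh.shF X)).X₁ n ⊤) := hf _ h₁
  haveI : ∀ n, FiniteDimensional k (H10Coh.Hn (S.map (H10Coh.shF X)).X₂ n ⊤) := hf _ h₂
  haveI : ∀ n, FiniteDimensional k (H10Coh.Hn (S.map (H10Coh.shF X)).X₃ n ⊤) := hf _ h₃
  let f := fun n => H10Coh.ActSh.map σ.comm₁₂ n (⊤ : X.Opens)
  let g := fun n => H10Coh.ActSh.map σ.comm₂₃ n (⊤ : X.Opens)
  let δ := fun n => σ.delta hS' n (⊤ : X.Opens)
  haveI := hS'.mono_f
  have h0 : Function.Injective (f 0) := Ext.postcomp_mk₀_injective_of_mono _ (S.map (H10Coh.shF X)).f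
  have hB : ∀ n, LinearMap.ker (g n) ≤ LinearMap.range (f n) := fun n x hx =>
    Ext.covariant_sequence_exact₂ _ hS' x hx
  have hC : ∀ n, LinearMap.ker (δ n) ≤ LinearMap.range (g n) := fun n x hx =>
    Ext.covariant_sequence_exact₃ _ hS' x rfl hx
  have hA : ∀ n, LinearMap.ker (f (n + 1)) ≤ LinearMap.range (δ n) := fun n x hx =>
    Ext.covariant_sequence_exact₁ _ hS' x hx rfl
  have key : ∀ n,
      Module.finrank k (H10Coh.Hn (S.map (H10Coh.shF X)).X₂ n ⊤) ≤
          Module.finrank k (H10Coh.Hn (S.map (H10Coh.shF X)).X₁ n ⊤) +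
            Module.finrank k (H10Coh.Hn (S.map (H10Coh.shF X)).X₃ n ⊤) ∧
        Module.finrank k (H10Coh.Hn (S.map (H10Coh.shF X)).X₁ n ⊤) ≤
          Module.finrank k (H10Coh.Hn (S.map (H10Coh.shF X)).X₂ n ⊤) +
            Module.finrank k (H10Coh.Hn (S.map (H10Coh.shF X)).X₃ (n - 1) ⊤) ∧
        Module.finrank k (H10Coh.Hn (S.map (H10Coh.shF X)).X₃ n ⊤) ≤
          Module.finrank k (H10Coh.Hn (S.map (H10Coh.shF X)).X₂ n ⊤) +
            Module.finrank k (H10Coh.Hn (S.map (H10Coh.shF X)).X₁ (n + 1) ⊤) := by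
    intro n
    refine ⟨?_, ?_, ?_⟩
    · have h := LinearMap.finrank_range_add_finrank_ker (g n)
      have h1 := (Submodule.finrank_mono (hB n)).trans (LinearMap.finrank_range_le (f n))
      have h2 := Submodule.finrank_le (LinearMap.range (g n))
      omega
    · rcases n with _ | m
      · exact (LinearMap.finrank_le_finrank_of_injective h0).trans (Nat.le_add_right _ _)
      · have h := LinearMap.finrank_range_add_finrank_ker (f (m + 1))
        have h1 := (Submodule.finrank_mono (hA m)).trans (LinearMap.finrank_range_le (δ m))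
        have h2 := Submodule.finrank_le (LinearMap.range (f (m + 1)))
        rw [Nat.add_sub_cancel]
        omega
    · have h := LinearMap.finrank_range_add_finrank_ker (δ n)
      have h1 := (Submodule.finrank_mono (hC n)).trans (LinearMap.finrank_range_le (g n))
      have h2 := Submodule.finrank_le (LinearMap.range (δ n))
      omega
  simp only [hd, H25Euler.finrank_HH]
  exact key n

/-- A morphism changes the dimension of cohomology at most by its kernel and cokernel. -/
theorem hd_compare [IsLocallyNoetherian X] {M N : X.Modules} (φ : M ⟶ N) (hM : Coh.IsCoh M) (hN : Coh.IsCoh N)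
    (n : ℕ) :
    hd k M n ≤ hd k N n + (hd k (kernel φ) n + hd k (cokernel φ) (n - 1)) ∧
      hd k N n ≤ hd k M n + (hd k (kernel φ) (n + 1) + hd k (cokernel φ) n) := by
  have hK := H10Coh.isCoh_kernel φ hM hN.1
  have hC := H10Coh.isCoh_cokernel φ hM.1 hN
  have hI : Coh.IsCoh (Abelian.image φ) := H10Coh.isCoh_kernel (cokernel.π φ) hN hC.1
  have hS₁ : (ShortComplex.mk (kernel.ι φ) (Abelian.factorThruImage φ)
      (by rw [← cancel_mono (Abelian.image.ι φ), Category.assoc, Abelian.image.fac, kernel.condition,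
        zero_comp])).ShortExact :=
    { exact := ShortComplex.exact_of_f_is_kernel _ (KernelFork.IsLimit.ofι' _ _ fun g hg =>
        ⟨kernel.lift φ g (by rw [← Abelian.image.fac φ, ← Category.assoc, hg, zero_comp]), kernel.lift_ι _ _ _⟩)
      epi_g := inferInstanceAs (Epi (Abelian.factorThruImage φ)) }
  have hS₂ : (ShortComplex.mk (Abelian.image.ι φ) (cokernel.π φ) (kernel.condition _)).ShortExact :=
    { exact := ShortComplex.exact_kernel _ }
  obtain ⟨a1, -, -⟩ := hd_shortExact (k := k) hS₁ hK hM hI n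
  obtain ⟨-, -, a3⟩ := hd_shortExact (k := k) hS₁ hK hM hI n
  obtain ⟨b1, b2, -⟩ := hd_shortExact (k := k) hS₂ hI hN hC n
  dsimp only at a1 a3 b1 b2
  constructor <;> omega

omit [IsProper (X ↘ Spec (CommRingCat.of k))] in
theorem hd_sum_equiv (M : X.Modules) (r : ℕ) (n : ℕ) :
    Nonempty (Coh.HH X (⨁ fun _ : Fin r => M) n ≃ₗ[k] (Fin r → Coh.HH X M n)) := by
  classical
  let F := fun _ : Fin r => M
  refine ⟨LinearEquiv.ofLinearMap (LinearMap.pi fun i => Canon.HHlin k (biproduct.π F i) n)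
    (∑ i, (Canon.HHlin k (biproduct.ι F i) n).comp (LinearMap.proj i)) (LinearMap.ext fun v => funext fun i => ?_)
    (LinearMap.ext fun x => ?_)⟩
  · simp only [LinearMap.coe_comp, Function.comp_apply, LinearMap.pi_apply, LinearMap.coe_sum, Finset.sum_apply,
      map_sum, LinearMap.coe_proj, Function.eval, LinearMap.id_apply, ← H29RR.hhlin_comp]
    rw [Finset.sum_eq_single i]
    · rw [biproduct.ι_π_self]; exact H29RR.hhlin_id _ _ _
    · intro j _ hji
      rw [biproduct.ι_π_ne _ hji]; exact H29RR.hhlin_zero _ _ _ _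
    · exact fun h => absurd (Finset.mem_univ i) h
  · simp only [LinearMap.coe_comp, Function.comp_apply, LinearMap.coe_sum, Finset.sum_apply, LinearMap.coe_proj,
      Function.eval, LinearMap.pi_apply, LinearMap.id_apply, ← H29RR.hhlin_comp, ← H29RR.hhlin_sum,
      biproduct.total]
    exact H29RR.hhlin_id _ _ _

theorem hd_sum (M : X.Modules) (hM : Coh.IsCoh M) (r n : ℕ) : hd k (⨁ fun _ : Fin r => M) n = r * hd k M n := by
  haveI := finite_HH (k := k) M hM n
  obtain ⟨e⟩ := hd_sum_equiv (k := k) M r n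
  rw [hd, e.finrank_eq, Module.finrank_pi_fintype, Finset.sum_const, Finset.card_univ, Fintype.card_fin,
    smul_eq_mul]
  rfl

theorem euler_sum (M : X.Modules) (hM : Coh.IsCoh M) (r : ℕ) :
    Curv2.euler k X (⨁ fun _ : Fin r => M) = r * Curv2.euler k X M := by
  haveI : CompactSpace X := QuasiCompact.compactSpace_of_compactSpace (X ↘ Spec (CommRingCat.of k))
  haveI : QuasiSeparatedSpace X := quasiSeparatedSpace_of_quasiSeparated (X ↘ Spec (CommRingCat.of k))
  obtain ⟨N, hN⟩ : ∃ d : ℕ, ∀ (M : X.Modules), Coh.IsQCoh M → ∀ p : ℕ, d ≤ p → Subsingleton (Coh.HH X M p) :=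
    H10Coh.exists_bound
  rw [H25Euler.euler_eq_sum M N (hN _ hM.1), H25Euler.euler_eq_sum _ N fun p hp => ?_, Finset.mul_sum]
  · refine Finset.sum_congr rfl fun i _ => ?_
    rw [show Module.finrank k (Coh.HH X (⨁ fun _ : Fin r => M) i) = r * hd k M i from hd_sum M hM r i, hd]
    push_cast
    ring
  · haveI := hN _ hM.1 p hp
    obtain ⟨e⟩ := hd_sum_equiv (k := k) M r p
    exact e.toEquiv.subsingleton

end Groth.Agent.H25Index
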