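import Groth.Agent.H25Index.IndexIsogeny
import Groth.Agent.H25AbCube.GeomTate
import Groth.Agent.H28Int.FieldExt

/-!
# Index theory over an arbitrary field
-/

set_option autoImplicit false
set_option linter.style.haveILetI false
set_option linter.unusedSectionVars false
set_option backward.isDefEq.respectTransparency false
set_option synthInstance.maxHeartbeats 400000
set_option maxHeartbeats 1000000
universe u

open CategoryTheory CategoryTheory.Limits MonoidalCategory CartesianMonoidalCategory MonObj GrpObj AlgebraicGeometry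
  TopologicalSpace Opposite
open Groth.Agent Groth.Agent.H25AbCube Groth.Agent.H25Pic0 Groth.Agent.H25AbCube.GeomTate

noncomputable section

attribute [local instance] Functor.grpObjObj

namespace Groth.Agent.H25Index

variable {k : Type u} [Field k] {X Y : Over (Spec (CommRingCat.of k))} [GrpObj X] [IsProper X.hom]
  [GeometricallyIntegral X.hom] [GrpObj Y] [IsProper Y.hom] [GeometricallyIntegral Y.hom]

/-- The algebraic closure. -/
abbrev Kbar (k : Type u) [Field k] : Type u := AlgebraicClosure k

/-- The base change of a scheme to the algebraic closure. -/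
abbrev gX (X : Over (Spec (CommRingCat.of k))) : Over (Spec (CommRingCat.of (Kbar k))) := (bc k (Kbar k)).obj X

/-- The projection from the base change. -/
abbrev gp (X : Over (Spec (CommRingCat.of k))) : (gX X).left ⟶ X.left := pullback.fst X.hom (σ k (Kbar k))

/-- The base change of a module. -/
abbrev gM (M : X.left.Modules) : (gX X).left.Modules := (Scheme.Modules.pullback (gp X)).obj M

theorem hd_gM (M : X.left.Modules) (hM : Coh.IsCoh M) (j : ℕ) :
    @hd (gX X).left (Kbar k) _ ⟨(gX X).hom⟩ (gM M) j = @hd X.left k _ ⟨X.hom⟩ M j := by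
  letI : X.left.Over (Spec (CommRingCat.of k)) := ⟨X.hom⟩
  letI : (gX X).left.Over (Spec (CommRingCat.of (Kbar k))) := ⟨(gX X).hom⟩
  haveI : IsProper (X.left ↘ Spec (CommRingCat.of k)) := ‹IsProper X.hom›
  exact H28Int.FieldExt.finrank_HH_bc (Kbar k) (IsPullback.of_hasPullback X.hom (σ k (Kbar k))) hM j

theorem euler_gM (M : X.left.Modules) (hM : Coh.IsCoh M) :
    @Curv2.euler (Kbar k) _ (gX X).left ⟨(gX X).hom⟩ (gM M) = @Curv2.euler k _ X.left ⟨X.hom⟩ M := by
  letI : X.left.Over (Spec (CommRingCat.of k)) := ⟨X.hom⟩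
  letI : (gX X).left.Over (Spec (CommRingCat.of (Kbar k))) := ⟨(gX X).hom⟩
  haveI : IsProper (X.left ↘ Spec (CommRingCat.of k)) := ‹IsProper X.hom›
  exact H28Int.FieldExt.euler_bc (Kbar k) (IsPullback.of_hasPullback X.hom (σ k (Kbar k))) hM

theorem subsingleton_gM_iff (M : X.left.Modules) (hM : PicF.IsInvertible M) (j : ℕ) :
    Subsingleton (Coh.HH (gX X).left (gM M) j) ↔ Subsingleton (Coh.HH X.left M j) := by
  letI : X.left.Over (Spec (CommRingCat.of k)) := ⟨X.hom⟩
  letI : (gX X).left.Over (Spec (CommRingCat.of (Kbar k))) := ⟨(gX X).hom⟩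
  haveI : IsProper (X.left ↘ Spec (CommRingCat.of k)) := ‹IsProper X.hom›
  haveI : IsProper ((gX X).left ↘ Spec (CommRingCat.of (Kbar k))) := inferInstanceAs (IsProper (gX X).hom)
  haveI := finite_HH (k := k) M (H11Ample.isCoh_of_isInvertible hM) j
  haveI := finite_HH (k := Kbar k) (gM M)
    (H11Ample.isCoh_of_isInvertible (H11Ample.isInvertible_pullback _ hM)) j
  have h := hd_gM M (H11Ample.isCoh_of_isInvertible hM) j
  constructor
  · intro hs
    rw [show hd (Kbar k) (gM M) j = 0 from Module.finrank_zero_of_subsingleton] at h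
    exact Module.finrank_zero_iff.1 h.symm
  · intro hs
    rw [show hd k M j = 0 from Module.finrank_zero_of_subsingleton] at h
    exact Module.finrank_zero_iff.1 h

theorem nontrivial_gM_iff (M : X.left.Modules) (hM : PicF.IsInvertible M) (j : ℕ) :
    Nontrivial (Coh.HH (gX X).left (gM M) j) ↔ Nontrivial (Coh.HH X.left M j) := by
  rw [← not_subsingleton_iff_nontrivial, ← not_subsingleton_iff_nontrivial, subsingleton_gM_iff M hM]

/-- Concentrated classes with nonzero cohomology are nondegenerate. -/
theorem fixFinite_of_concentrated {k : Type u} [Field k] [IsAlgClosed k] {A : Over (Spec (CommRingCat.of k))}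
    [GrpObj A] [IsProper A.hom] [GeometricallyIntegral A.hom] (L : A.left.Modules) (hL : PicF.IsInvertible L)
    (i : ℕ) (hvan : ∀ j, j ≠ i → Subsingleton (Coh.HH A.left L j)) (hne : Nontrivial (Coh.HH A.left L i)) :
    FixFinite (pc L hL) := by
  by_contra h
  have h0 := euler_eq_zero L hL (Set.not_finite.1 fun h' => h h')
  rw [euler_eq_of_concentrated L i hvan] at h0
  have hp := hd_pos L (H11Ample.isCoh_of_isInvertible hL) i hne
  rcases mul_eq_zero.1 h0 with h1 | h1
  · exact pow_ne_zero _ (by norm_num) h1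
  · omega

/-- The base change of a module with concentrated cohomology. -/
theorem gM_concentrated (L : X.left.Modules) (hL : PicF.IsInvertible L) (i : ℕ)
    (hvan : ∀ j, j ≠ i → Subsingleton (Coh.HH X.left L j)) (hne : Nontrivial (Coh.HH X.left L i)) :
    (∀ j, j ≠ i → Subsingleton (Coh.HH (gX X).left (gM L) j)) ∧ Nontrivial (Coh.HH (gX X).left (gM L) i) ∧
      FixFinite (pc (gM L) (H11Ample.isInvertible_pullback (gp X) hL)) := by
  have h1 : ∀ j, j ≠ i → Subsingleton (Coh.HH (gX X).left (gM L) j) := fun j hj =>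
    (subsingleton_gM_iff L hL j).2 (hvan j hj)
  have h2 := (nontrivial_gM_iff L hL i).2 hne
  exact ⟨h1, h2, fixFinite_of_concentrated _ _ i h1 h2⟩

/-- Concentrated cohomology stays concentrated along an isogeny. -/
theorem concentrated_pullback (f : X ⟶ Y) [IsMonHom f] [IsFinite f.left] [Flat f.left] [Surjective f.left]
    (L : Y.left.Modules) (hL : PicF.IsInvertible L) (i : ℕ)
    (hvan : ∀ j, j ≠ i → Subsingleton (Coh.HH Y.left L j)) (hne : Nontrivial (Coh.HH Y.left L i)) :
    (∀ j, j ≠ i → Subsingleton (Coh.HH X.left ((Scheme.Modules.pullback f.left).obj L) j)) ∧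
      Nontrivial (Coh.HH X.left ((Scheme.Modules.pullback f.left).obj L) i) := by
  let fK := (bc k (Kbar k)).map f
  have sq := isPullback_map (Ω := Kbar k) X f
  haveI : IsFinite fK.left := MorphismProperty.of_isPullback (P := @IsFinite) sq ‹_›
  haveI : Flat fK.left := MorphismProperty.of_isPullback (P := @Flat) sq ‹_›
  haveI : Surjective fK.left := MorphismProperty.of_isPullback (P := @Surjective) sq ‹_›
  haveI : IsMonHom fK := inferInstance
  obtain ⟨h1, h2, h3⟩ := gM_concentrated L hL i hvan hne
  have hp := H11Ample.isInvertible_pullback f.left hL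
  obtain ⟨-, h1', h2'⟩ := index_pullback fK (gM L) (H11Ample.isInvertible_pullback (gp Y) hL) h3 i h2 h1
  let e : (Scheme.Modules.pullback fK.left).obj (gM L) ≅ gM ((Scheme.Modules.pullback f.left).obj L) :=
    (Scheme.Modules.pullbackComp fK.left (gp Y)).app L ≪≫ (Scheme.Modules.pullbackCongr sq.w.symm).app L ≪≫
      ((Scheme.Modules.pullbackComp (gp X) f.left).app L).symm
  refine ⟨fun j hj => (subsingleton_gM_iff _ hp j).1 (H10Coh.subsingleton_HH_of_iso e j (h1' j hj)), ?_⟩
  refine (nontrivial_gM_iff _ hp i).1 (not_subsingleton_iff_nontrivial.1 fun hs => ?_)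
  exact not_subsingleton_iff_nontrivial.2 h2' (H10Coh.subsingleton_HH_of_iso e.symm i hs)

/-- The index of the opposite class. -/
theorem concentrated_dual (L L' : X.left.Modules) (hL : PicF.IsInvertible L)
    (hLL' : Nonempty (CohB1.tensorMod L L' ≅ Coh.structureModule X.left)) (g : ℕ)
    (hg : topologicalKrullDim X.left = g) (i : ℕ)
    (hvan : ∀ j, j ≠ i → Subsingleton (Coh.HH X.left L j)) (hne : Nontrivial (Coh.HH X.left L i)) :
    i ≤ g ∧ (∀ j, j ≠ g - i → Subsingleton (Coh.HH X.left L' j)) ∧ Nontrivial (Coh.HH X.left L' (g - i)) := by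
  obtain ⟨hL', hsum⟩ := pc_of_tensor_trivial L L' hL hLL'
  obtain ⟨h1, h2, h3⟩ := gM_concentrated L hL i hvan hne
  have hK : topologicalKrullDim (gX X).left = g := by
    haveI : IsCommMonObj X := isCommMonObj_of_av
    exact dim_bc (Ω := Kbar k) X hg
  obtain ⟨i', hi', h1', h2', h4⟩ := exists_index (gM L) _ h3 g hK
  obtain rfl : i' = i := by
    by_contra hne'
    exact not_subsingleton_iff_nontrivial.2 h2' (h1 i' hne')
  have hn : pc (gM L') (H11Ample.isInvertible_pullback (gp X) hL') =
      - pc (gM L) (H11Ample.isInvertible_pullback (gp X) hL) := by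
    rw [pullP_pc _ L hL, pullP_pc _ L' hL', eq_neg_iff_add_eq_zero, add_comm, ← map_add, hsum, map_zero]
  obtain ⟨h5, h6⟩ := h4 _ _ hn
  exact ⟨hi', fun j hj => (subsingleton_gM_iff L' hL' j).1 (h5 j hj), (nontrivial_gM_iff L' hL' (g - i')).1 h6⟩

end Groth.Agent.H25Index
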