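import Groth.Agent.H25Euler.RankCoeff
import Groth.Agent.H25Par.Rank
import Groth.Agent.H11Tilde.Local
import Groth.Agent.H06EGA9.StructureStalk

/-!
# A map from a free module which is bijective at a point
-/

set_option autoImplicit false
set_option linter.style.haveILetI false
set_option linter.unusedSectionVars false
universe u

open CategoryTheory CategoryTheory.Limits AlgebraicGeometry Opposite TopologicalSpace

noncomputable section

namespace Groth.Agent.H25Index

variable {X : Scheme.{u}} [IsLocallyNoetherian X]

/-- A module with free stalk of rank `r` spanned by global germs receives a map from `O ^ r` bijective there. -/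
theorem exists_free_iso_at (M : X.Modules) (x : X) (r : ℕ)
    (hfree : Module.Free (X.presheaf.stalk x) (M.presheaf.stalk x))
    (hfin : Module.Finite (X.presheaf.stalk x) (M.presheaf.stalk x))
    (hr : Module.finrank (X.presheaf.stalk x) (M.presheaf.stalk x) = r)
    (hspan : Submodule.span (X.presheaf.stalk x)
      (Set.range fun g : Γ(M, ⊤) => M.presheaf.germ ⊤ x trivial g) = ⊤) :
    ∃ φ : (⨁ fun _ : Fin r => Coh.structureModule X) ⟶ M,
      IsIso ((DerSch.stalkFunctor X x).map φ) := by
  classical
  haveI := hfree; haveI := hfin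
  haveI := Module.finitePresentation_of_projective (X.presheaf.stalk x) (M.presheaf.stalk x)
  obtain ⟨κ, a, b, hb⟩ := Module.exists_basis_of_span_of_flat (fun g : Γ(M, ⊤) => M.presheaf.germ ⊤ x trivial g) hspan
  haveI : Fintype κ := @Fintype.ofFinite κ (Module.Finite.finite_basis b)
  have hc : Fintype.card κ = r := (Module.finrank_eq_card_basis b).symm.trans hr
  let ε : Fin r ≃ κ := (Fintype.equivFinOfCardEq hc).symm
  let F := fun _ : Fin r => Coh.structureModule X
  let φ : (⨁ F) ⟶ M := biproduct.desc fun i => H11Tilde.homOfGlobal M (a (ε i))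
  refine ⟨φ, ?_⟩
  let S := DerSch.stalkFunctor X x
  let one : (S.obj (Coh.structureModule X) : Type u) := H06EGA9.oneStalk x
  let e : Fin r → (S.obj (⨁ F) : Type u) := fun i => (S.map (biproduct.ι F i)).hom one
  have he : ∀ i, (S.map φ).hom (e i) = b (ε i) := fun i => by
    rw [hb]
    show ((S.map (biproduct.ι F i)) ≫ S.map φ).hom one = _
    rw [← Functor.map_comp, biproduct.ι_desc]
    refine (H06Mod.stalkLin_germ (H11Tilde.homOfGlobal M (a (ε i))) x ⊤ trivial _).trans ?_
    refine (congrArg (M.presheaf.germ ⊤ x trivial) (H11Tilde.homOfGlobal_app M (a (ε i)) ⊤ (1 : Γ(X, ⊤)))).trans ?_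
    refine (congrArg (M.presheaf.germ ⊤ x trivial) (one_smul Γ(X, ⊤) _)).trans ?_
    exact TopCat.Presheaf.germ_res_apply M.presheaf (homOfLE (le_top : (⊤ : X.Opens) ≤ ⊤)) x trivial _
  have hz : ∀ z : (S.obj (⨁ F) : Type u), ∃ c : Fin r → X.presheaf.stalk x, z = ∑ i, c i • e i := fun z => by
    choose c hc' using fun i => (H06EGA9.bijective_smul_oneStalk x).2 ((S.map (biproduct.π F i)).hom z)
    refine ⟨c, ?_⟩
    have hid : (S.map (∑ i, biproduct.π F i ≫ biproduct.ι F i)).hom z = z := by
      rw [biproduct.total, CategoryTheory.Functor.map_id]; rfl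
    refine hid.symm.trans ?_
    rw [Functor.map_sum, ModuleCat.hom_sum, LinearMap.sum_apply]
    refine Finset.sum_congr rfl fun i _ => ?_
    rw [Functor.map_comp]
    show (S.map (biproduct.ι F i)).hom ((S.map (biproduct.π F i)).hom z) = _
    rw [← hc' i]
    exact map_smul _ _ _
  rw [ConcreteCategory.isIso_iff_bijective]
  constructor
  · refine (injective_iff_map_eq_zero (S.map φ).hom).2 fun z h => ?_
    obtain ⟨c, rfl⟩ := hz z
    simp only [map_sum, map_smul, he] at h
    have hc0 := Fintype.linearIndependent_iff.1 (b.linearIndependent.comp ε ε.injective) c h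
    simp [hc0]
  · intro y
    refine ⟨∑ i, b.repr y (ε i) • e i, ?_⟩
    show (S.map φ).hom _ = y
    simp only [map_sum, map_smul, he]
    exact (Equiv.sum_comp ε fun j => b.repr y j • b j).trans (b.sum_repr y)

end Groth.Agent.H25Index
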