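import Groth.Agent.H25Index.HHIneq
import Groth.Agent.H25Index.FreeAt
import Groth.Agent.H25Euler.Exists
import Groth.Agent.H10Coh.TensorTilde

/-!
# Comparison of a module tensored with a free one up to smaller support
-/

set_option autoImplicit false
set_option linter.style.haveILetI false
set_option linter.unusedSectionVars false
set_option backward.isDefEq.respectTransparency false
set_option maxHeartbeats 1000000
universe u

open CategoryTheory CategoryTheory.Limits AlgebraicGeometry Opposite TopologicalSpace MonoidalCategory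
open Groth.Agent

noncomputable section

namespace Groth.Agent.H25Index

variable {X : Scheme.{u}}

/-- Tensoring with `M` on the right. -/
abbrev TR (M : X.Modules) : X.Modules ⥤ X.Modules := (DCoh.tensorBi (X := X)).flip.obj M

theorem exact_TR {M : X.Modules} (hM : FlatMod.IsFinLocFree M) :
    PreservesFiniteLimits (TR M) ∧ PreservesFiniteColimits (TR M) :=
  ((Functor.exact_tfae (TR M)).out 0 3).1
    (fun _ hS => H16Derived.KFlat.Stalk.isFlatObj_of_isFlat (H16Derived.KFlat.Stalk.isFlat_of_isFinLocFree hM) _ hS)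

theorem nonempty_kernel_TR {M : X.Modules} (hM : FlatMod.IsFinLocFree M) {F G : X.Modules} (φ : F ⟶ G) :
    Nonempty ((TR M).obj (kernel φ) ≅ kernel ((TR M).map φ)) ∧
      Nonempty ((TR M).obj (cokernel φ) ≅ cokernel ((TR M).map φ)) := by
  obtain ⟨h1, h2⟩ := exact_TR hM
  exact ⟨⟨PreservesKernel.iso (TR M) φ⟩, ⟨PreservesCokernel.iso (TR M) φ⟩⟩

theorem finLocFree_of_invertible {M : X.Modules} (hM : PicF.IsInvertible M) : FlatMod.IsFinLocFree M :=
  H28Pinch.isFinLocFree_of_isInvertible hM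

variable {k : Type u} [Field k] [X.Over (Spec (CommRingCat.of k))] [IsProper (X ↘ Spec (CommRingCat.of k))]

/-- The Euler characteristics of source and target differ by those of kernel and cokernel. -/
theorem euler_compare [IsLocallyNoetherian X] {M N : X.Modules} (φ : M ⟶ N) (hM : Coh.IsCoh M) (hN : Coh.IsCoh N) :
    Curv2.euler k X M - Curv2.euler k X N = Curv2.euler k X (kernel φ) - Curv2.euler k X (cokernel φ) := by
  have hK := H10Coh.isCoh_kernel φ hM hN.1
  have hC := H10Coh.isCoh_cokernel φ hM.1 hN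
  have hI : Coh.IsCoh (Abelian.image φ) := H10Coh.isCoh_kernel (cokernel.π φ) hN hC.1
  have hS₁ : (ShortComplex.mk (kernel.ι φ) (Abelian.factorThruImage φ)
      (by rw [← cancel_mono (Abelian.image.ι φ), Category.assoc, Abelian.image.fac, kernel.condition,
        zero_comp])).ShortExact :=
    { exact := ShortComplex.exact_of_f_is_kernel _ (KernelFork.IsLimit.ofι' _ _ fun g hg =>
        ⟨kernel.lift φ g (by rw [← Abelian.image.fac φ, ← Category.assoc, hg, zero_comp]), kernel.lift_ι _ _ _⟩)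
      epi_g := inferInstanceAs (Epi (Abelian.factorThruImage φ)) }
  have hS₂ : (ShortComplex.mk (Abelian.image.ι φ) (cokernel.π φ) (kernel.condition _)).ShortExact :=
    { exact := ShortComplex.exact_kernel _ }
  have e1 := H25Euler.euler_add (k := k) hS₁ hK hM hI
  have e2 := H25Euler.euler_add (k := k) hS₂ hI hN hC
  dsimp only at e1 e2
  rw [e1, e2]
  generalize Curv2.euler k X (kernel φ) = a
  generalize Curv2.euler k X (Abelian.image φ) = b
  generalize Curv2.euler k X (cokernel φ) = c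
  ring

omit [IsProper (X ↘ Spec (CommRingCat.of k))] in
theorem spans_of_spanning (M : X.Modules) {ι : Type u} (g : ι → Γ(M, ⊤))
    (hg : ∀ (W : X.Opens) (t : Γ(M, W)), ∀ x ∈ W, ∃ (V : X.Opens) (hV : V ≤ W), x ∈ V ∧
      M.presheaf.map (homOfLE hV).op t ∈ Submodule.span Γ(X, V)
        (Set.range fun i => M.presheaf.map (homOfLE (le_top : V ≤ ⊤)).op (g i))) (x : X) :
    Submodule.span (X.presheaf.stalk x) (Set.range fun g : Γ(M, ⊤) => M.presheaf.germ ⊤ x trivial g) = ⊤ := by
  refine eq_top_iff.2 fun a _ => ?_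
  obtain ⟨W, hW, t, rfl⟩ := M.presheaf.exists_germ_eq a
  obtain ⟨V, hV, hxV, hspan⟩ := hg W t _ hW
  rw [← TopCat.Presheaf.germ_res_apply M.presheaf (homOfLE hV) _ hxV]
  generalize M.presheaf.map (homOfLE hV).op t = u at hspan ⊢
  induction hspan using Submodule.span_induction with
  | mem y hy =>
    obtain ⟨i, rfl⟩ := hy
    rw [TopCat.Presheaf.germ_res_apply]
    exact Submodule.subset_span ⟨g i, rfl⟩
  | zero => rw [map_zero]; exact zero_mem _
  | add a b _ _ ha hb => rw [map_add]; exact add_mem ha hb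
  | smul c a _ ha => rw [H06Mod.germ_smul]; exact Submodule.smul_mem _ _ ha

omit [X.Over (Spec (CommRingCat.of k))] [IsProper (X ↘ Spec (CommRingCat.of k))] in
/-- `G ^ r` and `G ⊗ E` are comparable near a point where `E` has rank `r`. -/
theorem exists_compare [IsNoetherian X] {H : X.Modules} (hH : CohB1.IsAmple H) {E : X.Modules}
    (hE : Coh.IsCoh E) (hEf : FlatMod.IsFinLocFree E) (r : ℕ) (ξ : X)
    (hr : Module.finrank (X.presheaf.stalk ξ) (E.presheaf.stalk ξ) = r) {G : X.Modules} (hG : Coh.IsCoh G) :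
    ∃ (N : X.Modules) (α : (⨁ fun _ : Fin r => G) ⟶ N) (β : (TR E).obj G ⟶ N), Coh.IsCoh N ∧
      CohB1.support N ⊆ CohB1.support G ∧ IsIso ((DerSch.stalkFunctor X ξ).map α) ∧
      IsIso ((DerSch.stalkFunctor X ξ).map β) := by
  haveI : CompactSpace X := hH.2.1
  obtain ⟨n₀, hn₀⟩ := H11Ample.eventually_spanning hH hE
  obtain ⟨a, s, ha, hξs, -, -⟩ := H11Ample.exists_affine_gen_nhd_finite hH (Set.finite_singleton ξ) (U := ⊤)
    (fun _ _ => trivial)
  obtain ⟨ι, _, g, hg⟩ := hn₀ ((n₀ + 1) * a) (by nlinarith)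
  let P := CohB1.tensorPow H ((n₀ + 1) * a)
  have hP := H11Ample.isInvertible_tensorPow hH.1 ((n₀ + 1) * a)
  let M := CohB1.tensorMod E P
  obtain ⟨φ', -⟩ := H11Ample.exists_iso_mul hH.1 a (n₀ + 1)
  obtain ⟨σ, hσ⟩ := H11Ample.exists_section_of_eq (mul_comm a (n₀ + 1)) (φ'.hom.app ⊤ (H11Ample.spow s (n₀ + 1)))
  have hξσ : ξ ∈ H11Ample.gen P σ := by
    rw [hσ, H11Ample.gen_iso, H11Ample.gen_spow (H11Ample.isInvertible_tensorPow hH.1 a) s (n₀ + 1) (Nat.succ_pos n₀)]
    exact hξs rfl
  have hM : Coh.IsCoh M := H11Ample.isCoh_tensor hE hP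
  let R := X.presheaf.stalk ξ
  let S := DerSch.stalkFunctor X ξ
  haveI : Module.Flat R (S.obj E) := H16Derived.KFlat.Stalk.isFlat_of_isFinLocFree hEf ξ
  haveI : Module.Finite R (S.obj E) := H29Ref.finite_stalk E hE.2 ξ
  haveI : Module.Free R (S.obj E) := Module.free_of_flat_of_isLocalRing
  obtain ⟨V, e, hV, he⟩ := H11Ample.exists_gen hP ξ
  let φL := LinearEquiv.ofBijective (LinearMap.toSpanSingleton R _ (P.presheaf.germ V ξ hV e)) (he _ hV)
  have eM : S.obj M ≃ₗ[R] S.obj E :=
    ((H16Derived.KFlat.Stalk.rightIso P ξ).app E).toLinearEquiv.trans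
      ((TensorProduct.congr (LinearEquiv.refl R (S.obj E)) φL.symm).trans (TensorProduct.rid R (S.obj E)))
  obtain ⟨φ, hφ⟩ := exists_free_iso_at M ξ r (Module.Free.of_equiv eM.symm) (Module.Finite.equiv eM.symm)
    (eM.finrank_eq.trans hr) (spans_of_spanning M g hg ξ)
  let B := (DCoh.tensorBi (X := X)).obj G
  let N := B.obj M
  have hN : Coh.IsCoh N := H10Coh.TT.isCoh_tensorMod hG hM
  refine ⟨N, (biproduct.mapIso fun _ => (H10Coh.Tw.rightUnitIso G).symm ≪≫
      eqToIso (H25Euler.tensorBi_obj_obj G _).symm).hom ≫ (B.mapBiproduct _).inv ≫ B.map φ,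
    H25Euler.mulHom ((TR E).obj G) (H11Tilde.homOfGlobal P σ) ≫ (H10Coh.Tw.assoc G E P).hom, ?_, ?_, ?_, ?_⟩
  · exact hN
  · exact H25Euler.support_tensor_subset G M
  · haveI : IsIso (S.map (B.map φ)) := by
      show IsIso ((B ⋙ S).map φ)
      rw [NatIso.isIso_map_iff (H16Derived.KFlat.Stalk.leftIso G ξ) φ]
      exact inferInstanceAs (IsIso ((tensorLeft _).map _))
    simp only [Functor.map_comp]
    infer_instance
  · haveI : IsIso (S.map (H25Euler.mulHom ((TR E).obj G) (H11Tilde.homOfGlobal P σ))) :=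
      H25Euler.isIso_stalk_mulHom _ _ hξσ
    rw [Functor.map_comp]
    infer_instance

end Groth.Agent.H25Index
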