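import Groth.Agent.H25Euler.Degree
import Groth.Agent.LeadDev.Rules

/-!
# Induction on the dimension of the support of a coherent module
-/

set_option autoImplicit false
set_option linter.style.haveILetI false
universe u

open CategoryTheory CategoryTheory.Limits AlgebraicGeometry Opposite TopologicalSpace

namespace Groth.Agent.H25Index

variable {X : Scheme.{u}} [IsNoetherian X]

/-- Induction on the dimension of the support, one generic point at a time. -/
theorem dim_induction (P : ℕ → X.Modules → Prop)
    (hiso : ∀ d (M N : X.Modules), Nonempty (M ≅ N) → P d M → P d N)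
    (hzero : ∀ d (M : X.Modules), IsZero M → P d M)
    (hext : ∀ d (S : ShortComplex X.Modules), S.ShortExact → Coh.IsCoh S.X₁ → Coh.IsCoh S.X₂ → Coh.IsCoh S.X₃ →
      P d S.X₁ → P d S.X₃ → P d S.X₂)
    (main : ∀ d (G : X.Modules) (ξ : X), Coh.IsCoh G → CohB1.support G ⊆ closure {ξ} →
      (∀ M, Coh.IsCoh M → CohB1.support M ⊆ CohB1.support G → ξ ∉ CohB1.support M → P d M) → P (d + 1) G) :
    ∀ (d : ℕ) (G : X.Modules), Coh.IsCoh G → topologicalKrullDim (CohB1.support G) < (d : WithBot ℕ∞) → P d G := by
  intro d
  induction d with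
  | zero =>
    intro G hG hdim
    refine hzero 0 G ?_
    have hempty : IsEmpty (CohB1.support G) := by
      by_contra hne
      rw [not_isEmpty_iff] at hne
      haveI := hne
      refine absurd hdim (not_lt.2 ?_)
      obtain ⟨x⟩ := hne
      haveI : Nonempty (IrreducibleCloseds (CohB1.support G)) :=
        ⟨⟨closure {x}, isIrreducible_singleton.closure, isClosed_closure⟩⟩
      exact Order.krullDim_nonneg
    exact H16Derived.KFlat.Stalk.isZero_of_stalk fun x =>
      (ModuleCat.isZero_iff_subsingleton).2 (by by_contra hx; exact hempty.false ⟨x, hx⟩)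
  | succ d ih =>
    intro G hG hdim
    refine LeadDev.devissage (P (d + 1)) (hiso _) (hzero _) (hext _) (CohB1.support G)
      (fun Z i hi hZ hr I ι hι hI => ?_)
      (fun Z i hi hZ I ι hι hI hne h => LeadDev.range_subset_of_support Z i hi hZ I ι hι hI hne _ h)
      G hG Set.Subset.rfl
    haveI : I.IsQuasicoherent := hI
    let G' := (Coh.push i).obj I
    have hG' : Coh.IsCoh G' := H10Coh.isCoh_of_mono ((Coh.push i).map ι)
      (H10Coh.isQuasicoherent_pushforward i I) (LeadDev.isCoh_push_structure i)
    let ξ := i (genericPoint Z)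
    have hcl : Set.range i = closure {ξ} := LeadDev.range_eq_closure i rfl
    have hsupp : CohB1.support G' ⊆ Set.range i := fun x hx => by
      by_contra h
      exact LeadDev.notMem_support_push i I h hx
    refine main d G' ξ hG' (hcl ▸ hsupp) fun M hM hMs hξ => ih M hM ?_
    let Y : Set X := closure {ξ}
    haveI : QuasiSober Y := isClosed_closure.isClosedEmbedding_subtypeVal.quasiSober
    have hY : topologicalKrullDim Y < ((d + 1 : ℕ) : WithBot ℕ∞) := by
      refine lt_of_le_of_lt ?_ hdim
      have hYG : Y ⊆ CohB1.support G := hcl.ge.trans hr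
      exact Topology.IsInducing.topologicalKrullDim_le
        (f := Set.inclusion hYG) (Topology.IsEmbedding.inclusion hYG).isInducing
    have hMY : CohB1.support M ⊆ Y := (hMs.trans hsupp).trans hcl.le
    have h := H25Euler.dim_lt_of_forall_ne (Y := Y) (Subtype.val ⁻¹' CohB1.support M)
      ((H10Coh.isClosed_support M hM.2).preimage continuous_subtype_val)
      (fun y hy => ⟨⟨ξ, subset_closure rfl⟩, Topology.IsInducing.subtypeVal.specializes_iff.1
        (specializes_iff_mem_closure.2 y.2), hξ⟩) hY
    let e : CohB1.support M ≃ₜ (Subtype.val ⁻¹' CohB1.support M : Set Y) :=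
      { toFun := fun x => ⟨⟨x.1, hMY x.2⟩, x.2⟩
        invFun := fun x => ⟨x.1.1, x.2⟩
        left_inv := fun _ => rfl
        right_inv := fun _ => rfl }
    rwa [e.isHomeomorph.topologicalKrullDim_eq]

end Groth.Agent.H25Index
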