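import Groth.Agent.H25Index.Kernel
import Groth.Agent.H25Index.Compare
import Groth.Agent.H25Index.DimInduction
import Groth.Agent.H28Int.Push
import Groth.Agent.H25Grp.Isogeny

/-!
# The Euler characteristic is multiplicative along isogenies
-/

set_option autoImplicit false
set_option linter.style.haveILetI false
set_option linter.unusedSectionVars false
set_option backward.isDefEq.respectTransparency false
set_option maxHeartbeats 1000000
universe u

open CategoryTheory CategoryTheory.Limits MonoidalCategory CartesianMonoidalCategory AlgebraicGeometry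
  TopologicalSpace Opposite MonObj GrpObj
open Groth.Agent

noncomputable section

namespace Groth.Agent.H25Index

theorem support_sum_subset {X : Scheme.{u}} (M : X.Modules) (r : ℕ) :
    CohB1.support (⨁ fun _ : Fin r => M) ⊆ CohB1.support M := by
  intro x hx
  by_contra h
  obtain ⟨e⟩ := stalk_sum M r x
  haveI : Subsingleton ((DerSch.stalkFunctor X x).obj M) := not_not.1 fun hh => h hh
  exact hx e.toEquiv.subsingleton

/-- A module killed by twisting up to copies, and so the Euler characteristic of twists. -/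
theorem euler_tensor_of_square {k : Type u} [Field k] {X : Scheme.{u}} [X.Over (Spec (CommRingCat.of k))]
    [IsProper (X ↘ Spec (CommRingCat.of k))] {H : X.Modules} (hH : CohB1.IsAmple H) (E : X.Modules)
    (hEf : FlatMod.IsFinLocFree E) (r : ℕ) (hr0 : r ≠ 0)
    (hr : ∀ x : X, Module.finrank (X.presheaf.stalk x) (E.presheaf.stalk x) = r)
    (ψ : CohB1.tensorMod E E ≅ ⨁ fun _ : Fin r => E) (g : ℕ) (hg : topologicalKrullDim X ≤ g) (G : X.Modules) (hG : Coh.IsCoh G) :
    Curv2.euler k X ((TR E).obj G) = r * Curv2.euler k X G := by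
  haveI : CompactSpace X := QuasiCompact.compactSpace_of_compactSpace (X ↘ Spec (CommRingCat.of k))
  haveI : IsLocallyNoetherian X := LocallyOfFiniteType.isLocallyNoetherian (X ↘ Spec (CommRingCat.of k))
  haveI : IsNoetherian X := {}
  have hE : Coh.IsCoh E := H16Derived.KFlat.Stalk.isCoh_of_isFinLocFree hEf
  have hTc : ∀ M, Coh.IsCoh M → Coh.IsCoh ((TR E).obj M) := fun M hM => H10Coh.TT.isCoh_tensorMod hM hE
  let δ : X.Modules → ℤ := fun M => Curv2.euler k X ((TR E).obj M) - r * Curv2.euler k X M
  suffices h : ∀ (d : ℕ) (G : X.Modules), Coh.IsCoh G →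
      topologicalKrullDim (CohB1.support G) < (d : WithBot ℕ∞) → δ G = 0 by
    have := h (g + 1) G hG (lt_of_le_of_lt ((Topology.IsInducing.topologicalKrullDim_le
      (f := (Subtype.val : CohB1.support G → X)) Topology.IsInducing.subtypeVal).trans hg)
      (by exact_mod_cast Nat.lt_succ_self g))
    exact sub_eq_zero.1 this
  refine dim_induction (fun _ M => δ M = 0) (fun _ M N ⟨e⟩ h => ?_) (fun _ M hM => ?_)
    (fun _ S hS h1 h2 h3 q1 q3 => ?_) (fun d G ξ hG hGξ ih => ?_)
  · simp only [δ] at h ⊢
    rwa [← H25Euler.euler_congr ((TR E).mapIso e), ← H25Euler.euler_congr e]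
  · simp only [δ]
    rw [H25Euler.euler_eq_zero_of_isZero hM, H25Euler.euler_eq_zero_of_isZero ((TR E).map_isZero hM), mul_zero,
      sub_zero]
  · obtain ⟨_, _⟩ := exact_TR hEf
    have hS' : (S.map (TR E)).ShortExact :=
      H16Derived.KFlat.Stalk.isFlatObj_of_isFlat (H16Derived.KFlat.Stalk.isFlat_of_isFinLocFree hEf) _ hS
    have e1 := H25Euler.euler_add (k := k) hS h1 h2 h3
    have a1 : Coh.IsCoh (S.map (TR E)).X₁ := by rw [ShortComplex.map_X₁]; exact hTc _ h1
    have a2 : Coh.IsCoh (S.map (TR E)).X₂ := by rw [ShortComplex.map_X₂]; exact hTc _ h2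
    have a3 : Coh.IsCoh (S.map (TR E)).X₃ := by rw [ShortComplex.map_X₃]; exact hTc _ h3
    have e2 := H25Euler.euler_add (k := k) hS' a1 a2 a3
    simp only [δ] at q1 q3 ⊢
    rw [ShortComplex.map_X₁, ShortComplex.map_X₂, ShortComplex.map_X₃] at e2
    linear_combination e2 - (r : ℤ) * e1 + q1 + q3
  · obtain ⟨N, α, β, hN, hNs, hα, hβ⟩ := exists_compare hH hE hEf r ξ (hr ξ) hG
    have hGr : Coh.IsCoh (⨁ fun _ : Fin r => G) := LeadDev.isCoh_biproduct G hG
    have hsmall : ∀ {M : X.Modules} (φ : M ⟶ N), Coh.IsCoh M → CohB1.support M ⊆ CohB1.support G →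
        IsIso ((DerSch.stalkFunctor X ξ).map φ) → δ M = δ N := by
      intro M φ hM hMs hφ
      obtain ⟨hk1, hk2⟩ := H25Euler.notMem_support_kernel_cokernel φ hφ
      have hK := H10Coh.isCoh_kernel φ hM hN.1
      have hC := H10Coh.isCoh_cokernel φ hM.1 hN
      have q1 := ih _ hK ((LeadDev.support_subset_of_mono (kernel.ι φ)).trans hMs) hk1
      have q2 := ih _ hC ((LeadDev.support_subset_of_epi (cokernel.π φ)).trans hNs) hk2
      obtain ⟨⟨a⟩, ⟨b⟩⟩ := nonempty_kernel_TR hEf φ
      have e1 := euler_compare (k := k) φ hM hN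
      have e2 := euler_compare (k := k) ((TR E).map φ) (hTc _ hM) (hTc _ hN)
      rw [← H25Euler.euler_congr a, ← H25Euler.euler_congr b] at e2
      simp only [δ] at q1 q2 ⊢
      linear_combination e2 - (r : ℤ) * e1 + q1 - q2
    have h1 := hsmall α hGr (support_sum_subset G r) hα
    have h2 := hsmall β (hTc _ hG) (H25Euler.support_tensor_subset G E) hβ
    haveI : ((DCoh.tensorBi (X := X)).obj G).Additive := inferInstance
    have e3 : (TR E).obj ((TR E).obj G) ≅ ⨁ fun _ : Fin r => (TR E).obj G :=
      H10Coh.Tw.assoc G E E ≪≫ eqToIso (H25Euler.tensorBi_obj_obj G _).symm ≪≫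
        ((DCoh.tensorBi (X := X)).obj G).mapIso ψ ≪≫ ((DCoh.tensorBi (X := X)).obj G).mapBiproduct _
    have h3 : δ ((TR E).obj G) = 0 := by
      simp only [δ]
      rw [H25Euler.euler_congr e3, euler_sum _ (hTc _ hG), sub_self]
    have e4 : (TR E).obj (⨁ fun _ : Fin r => G) ≅ ⨁ fun _ : Fin r => (TR E).obj G :=
      (TR E).mapBiproduct _ ≪≫ biproduct.mapIso fun _ => Iso.refl _
    have h4 : δ (⨁ fun _ : Fin r => G) = r * δ G := by
      have a1 := euler_sum (k := k) ((TR E).obj G) (hTc _ hG) r
      have a2 := euler_sum (k := k) G hG r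
      have a3 := H25Euler.euler_congr (k := k) e4
      simp only [δ]
      linear_combination a3 + a1 - (r : ℤ) * a2
    have h5 : (r : ℤ) * δ G = 0 := by rw [← h4, h1, ← h2, h3]
    exact (mul_eq_zero.1 h5).resolve_left (Int.natCast_ne_zero.2 hr0)

variable {k : Type u} [Field k] {A B : Over (Spec (CommRingCat.of k))} [GrpObj A] [GrpObj B]

/-- The Euler characteristic of the inverse image along an isogeny of degree `d`. -/
theorem euler_pullback [IsProper B.hom] {H : B.left.Modules} (hH : CohB1.IsAmple H) (f : A ⟶ B) [IsMonHom f]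
    [IsFinite f.left] [Flat f.left] (g : ℕ) (hg : topologicalKrullDim B.left ≤ g) (d : ℕ) (hd0 : d ≠ 0) (hd : ∀ y, f.left.finrank y = d)
    (L : B.left.Modules) (hL : PicF.IsInvertible L) :
    @Curv2.euler k _ A.left ⟨A.hom⟩ ((Scheme.Modules.pullback f.left).obj L) =
      d * @Curv2.euler k _ B.left ⟨B.hom⟩ L := by
  letI : A.left.Over (Spec (CommRingCat.of k)) := ⟨A.hom⟩
  letI : B.left.Over (Spec (CommRingCat.of k)) := ⟨B.hom⟩
  haveI : IsProper (B.left ↘ Spec (CommRingCat.of k)) := ‹IsProper B.hom›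
  haveI : IsLocallyNoetherian B.left := LocallyOfFiniteType.isLocallyNoetherian B.hom
  let E := (Coh.push f.left).obj (Coh.structureModule A.left)
  obtain ⟨r, ⟨ψ⟩, hr⟩ := exists_tensor_push_self f
  haveI : Nonempty B.left := ⟨(1 : 𝟙_ (Over (Spec (CommRingCat.of k))) ⟶ B).left (IsLocalRing.closedPoint k)⟩
  obtain rfl : r = d := (hr (Classical.arbitrary _) (by rw [hd]; exact hd0)).symm.trans (hd _)
  have h := euler_tensor_of_square (k := k) hH E (H29Disc.isFinLocFree_pushO f.left) r hd0
    (fun x => (finrank_stalk_push f.left x).trans (hd x)) ψ g hg L (H11Ample.isCoh_of_isInvertible hL)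
  rw [← h]
  haveI : (Coh.structureModule A.left).IsQuasicoherent :=
    (H11Ample.isCoh_of_isInvertible H11Ample.isInvertible_structureModule).1
  have hp := H11Ample.isInvertible_pullback f.left hL
  haveI := H10Coh.PF.isIso_ψ_of_isFinLocFree f.left (finLocFree_of_invertible hL) (Coh.structureModule A.left)
  haveI : (CohB1.tensorMod (Coh.structureModule A.left) ((Scheme.Modules.pullback f.left).obj L)).IsQuasicoherent :=
    (H11Ample.isCoh_of_isInvertible (H11Ample.isInvertible_tensor H11Ample.isInvertible_structureModule hp)).1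
  refine Eq.trans ?_ (H25Euler.euler_congr (H10Coh.Tw.commIso L E ≪≫
    asIso (H16Derived.ProjFormula.ψ f.left (Coh.structureModule A.left) L))).symm
  refine Eq.trans ?_ (H28Int.Push.euler_push k f.left (Over.w f)
    (CohB1.tensorMod (Coh.structureModule A.left) ((Scheme.Modules.pullback f.left).obj L))).symm
  exact H25Euler.euler_congr (H10Coh.Tw.leftUnitIso _).symm

end Groth.Agent.H25Index
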