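import Groth.Agent.H25Index.Compare
import Groth.Agent.H25Index.EulerIsogeny
import Groth.Agent.H11Ample.Tensor

/-!
# Cohomology of powers grows at most like the dimension of the support
-/

set_option autoImplicit false
set_option linter.style.haveILetI false
set_option linter.unusedSectionVars false
set_option backward.isDefEq.respectTransparency false
set_option maxHeartbeats 1000000
universe u

open CategoryTheory CategoryTheory.Limits MonoidalCategory CartesianMonoidalCategory AlgebraicGeometry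
  TopologicalSpace Opposite
open Groth.Agent

noncomputable section

namespace Groth.Agent.H25Index

/-- `(n + 1) ^ (d - 1)`, read as zero for `d = 0`. -/
def wt : ℕ → ℕ → ℕ
  | 0, _ => 0
  | d + 1, n => (n + 1) ^ d

theorem wt_mono : ∀ (d : ℕ) {m n : ℕ}, m ≤ n → wt d m ≤ wt d n
  | 0, _, _, _ => le_rfl
  | d + 1, _, _, h => Nat.pow_le_pow_left (Nat.succ_le_succ h) d

theorem wt_add : ∀ (d n b : ℕ), wt d (n + b) ≤ (b + 1) ^ d * wt d n
  | 0, _, _ => Nat.zero_le _
  | d + 1, n, b => by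
    show (n + b + 1) ^ d ≤ (b + 1) ^ (d + 1) * (n + 1) ^ d
    refine (Nat.pow_le_pow_left (show n + b + 1 ≤ (b + 1) * (n + 1) by nlinarith) d).trans ?_
    rw [mul_pow]
    exact Nat.mul_le_mul_right _ (Nat.pow_le_pow_right (Nat.succ_pos b) (Nat.le_succ d))

theorem succ_mul_wt : ∀ (d n : ℕ), (n + 1) * wt d n ≤ wt (d + 1) n
  | 0, n => by simp [wt]
  | d + 1, n => by
    show (n + 1) * (n + 1) ^ d ≤ (n + 1) ^ (d + 1)
    rw [pow_succ']

/-- Bounded differences bound a sequence. -/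
theorem bound_of_steps (f : ℕ → ℕ) (b : ℕ) (hb : 0 < b) (C d : ℕ) (h : ∀ n, f (n + b) ≤ f n + C * wt d n) :
    ∃ C', ∀ n, f n ≤ C' * wt (d + 1) n := by
  let M := ∑ m ∈ Finset.range b, f m
  have hM : ∀ n, f n ≤ M + n * C * wt d n := by
    intro n
    induction n using Nat.strong_induction_on with
    | _ n ih =>
      rcases lt_or_ge n b with hn | hn
      · exact (Finset.single_le_sum (f := f) (fun _ _ => Nat.zero_le _) (Finset.mem_range.2 hn)).trans
          (Nat.le_add_right _ _)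
      · obtain ⟨m, rfl⟩ := Nat.exists_eq_add_of_le' hn
        refine (h m).trans ((Nat.add_le_add_right (ih m (by omega)) _).trans ?_)
        have h1 := wt_mono d (show m ≤ m + b by omega)
        have h2 : (m + 1) * (C * wt d m) ≤ (m + b) * (C * wt d (m + b)) :=
          Nat.mul_le_mul (by omega) (Nat.mul_le_mul_left C h1)
        nlinarith
  refine ⟨M + C, fun n => (hM n).trans ?_⟩
  have h1 := succ_mul_wt d n
  have h2 : 1 ≤ wt (d + 1) n := Nat.one_le_pow _ _ (Nat.succ_pos n)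
  nlinarith

theorem support_TR_subset {X : Scheme.{u}} (M F : X.Modules) :
    CohB1.support ((TR M).obj F) ⊆ CohB1.support F :=
  H25Euler.support_tensor_subset F M

variable {k : Type u} [Field k] {X : Scheme.{u}} [X.Over (Spec (CommRingCat.of k))]
  [IsProper (X ↘ Spec (CommRingCat.of k))]

/-- A map which is bijective at a point changes twisted cohomology at most by the smaller support. -/
theorem hd_compare_twist [IsLocallyNoetherian X] (L : X.Modules) (hL : PicF.IsInvertible L) {G : X.Modules}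
    {ξ : X} {d : ℕ}
    (ih : ∀ M, Coh.IsCoh M → CohB1.support M ⊆ CohB1.support G → ξ ∉ CohB1.support M →
      ∀ j, ∃ C, ∀ n, hd k ((TR (CohB1.tensorPow L n)).obj M) j ≤ C * wt d n)
    {M N : X.Modules} (φ : M ⟶ N) (hM : Coh.IsCoh M) (hN : Coh.IsCoh N)
    (hMs : CohB1.support M ⊆ CohB1.support G) (hNs : CohB1.support N ⊆ CohB1.support G)
    (hφ : IsIso ((DerSch.stalkFunctor X ξ).map φ)) (j : ℕ) :
    ∃ C, ∀ n, hd k ((TR (CohB1.tensorPow L n)).obj M) j ≤ hd k ((TR (CohB1.tensorPow L n)).obj N) j + C * wt d n ∧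
      hd k ((TR (CohB1.tensorPow L n)).obj N) j ≤ hd k ((TR (CohB1.tensorPow L n)).obj M) j + C * wt d n := by
  obtain ⟨hk1, hk2⟩ := H25Euler.notMem_support_kernel_cokernel φ hφ
  have hK := H10Coh.isCoh_kernel φ hM hN.1
  have hC := H10Coh.isCoh_cokernel φ hM.1 hN
  have qK := ih _ hK ((LeadDev.support_subset_of_mono (kernel.ι φ)).trans hMs) hk1
  have qC := ih _ hC ((LeadDev.support_subset_of_epi (cokernel.π φ)).trans hNs) hk2
  obtain ⟨a, ha⟩ := qK j
  obtain ⟨b, hb⟩ := qC (j - 1)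
  obtain ⟨a', ha'⟩ := qK (j + 1)
  obtain ⟨b', hb'⟩ := qC j
  refine ⟨a + b + a' + b', fun n => ?_⟩
  have hP := H11Ample.isInvertible_tensorPow hL n
  obtain ⟨⟨eK⟩, ⟨eC⟩⟩ := nonempty_kernel_TR (finLocFree_of_invertible hP) φ
  obtain ⟨c1, c2⟩ := hd_compare (k := k) ((TR (CohB1.tensorPow L n)).map φ)
    (H10Coh.TT.isCoh_tensorMod hM (H11Ample.isCoh_of_isInvertible hP))
    (H10Coh.TT.isCoh_tensorMod hN (H11Ample.isCoh_of_isInvertible hP)) j
  rw [← hd_congr eK, ← hd_congr eC] at c1 c2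
  have := ha n
  have := hb n
  have := ha' n
  have := hb' n
  constructor <;> nlinarith

/-- Growth of the cohomology of twists. -/
theorem growth [IsNoetherian X] {H : X.Modules} (hH : CohB1.IsAmple H) (L : X.Modules) (hL : PicF.IsInvertible L) :
    ∀ (d : ℕ) (G : X.Modules), Coh.IsCoh G → topologicalKrullDim (CohB1.support G) < (d : WithBot ℕ∞) →
      ∀ j, ∃ C, ∀ n, hd k ((TR (CohB1.tensorPow L n)).obj G) j ≤ C * wt d n := by
  haveI : CompactSpace X := hH.2.1
  refine dim_induction _ (fun d M N ⟨e⟩ h j => ?_) (fun d M hM j => ⟨0, fun n => ?_⟩)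
    (fun d S hS h1 h2 h3 q1 q3 j => ?_) (fun d G ξ hG hGξ ih j => ?_)
  · obtain ⟨C, hC⟩ := h j
    exact ⟨C, fun n => (hd_congr ((TR (CohB1.tensorPow L n)).mapIso e) j).symm.trans_le (hC n)⟩
  · have hz := (TR (CohB1.tensorPow L n)).map_isZero hM
    have h0 : ∀ x : Coh.HH X ((TR (CohB1.tensorPow L n)).obj M) j, x = 0 := fun x => by
      rw [← H29RR.hhlin_id (k := k) _ j x, hz.eq_of_src (𝟙 _) 0, H29RR.hhlin_zero]
    haveI : Subsingleton (Coh.HH X ((TR (CohB1.tensorPow L n)).obj M) j) := subsingleton_of_forall_eq 0 h0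
    rw [hd, Module.finrank_zero_of_subsingleton]
    exact Nat.zero_le _
  · obtain ⟨a, ha⟩ := q1 j
    obtain ⟨b, hb⟩ := q3 j
    refine ⟨a + b, fun n => ?_⟩
    let T := TR (CohB1.tensorPow L n)
    have hP := H11Ample.isInvertible_tensorPow hL n
    have hS' : (S.map T).ShortExact := H16Derived.KFlat.Stalk.isFlatObj_of_isFlat
      (H16Derived.KFlat.Stalk.isFlat_of_isFinLocFree (finLocFree_of_invertible hP)) _ hS
    have a1 : Coh.IsCoh (S.map T).X₁ := by
      rw [ShortComplex.map_X₁]; exact H10Coh.TT.isCoh_tensorMod h1 (H11Ample.isCoh_of_isInvertible hP)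
    have a2 : Coh.IsCoh (S.map T).X₂ := by
      rw [ShortComplex.map_X₂]; exact H10Coh.TT.isCoh_tensorMod h2 (H11Ample.isCoh_of_isInvertible hP)
    have a3 : Coh.IsCoh (S.map T).X₃ := by
      rw [ShortComplex.map_X₃]; exact H10Coh.TT.isCoh_tensorMod h3 (H11Ample.isCoh_of_isInvertible hP)
    obtain ⟨c, -, -⟩ := hd_shortExact (k := k) hS' a1 a2 a3 j
    rw [ShortComplex.map_X₁, ShortComplex.map_X₂, ShortComplex.map_X₃] at c
    refine c.trans ?_
    rw [add_mul]
    exact Nat.add_le_add (ha n) (hb n)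
  · obtain ⟨N, hN0, hN⟩ := H11Ample.eventually_ample_tensor hH hL
    obtain ⟨hQa, -⟩ := hN N le_rfl
    let Q₁ := CohB1.tensorPow H N
    let P₁ := CohB1.tensorMod Q₁ L
    have hQ₁ : CohB1.IsAmple Q₁ := (H11Ample.isAmple_tensorPow_iff hH.1 N hN0).1 hH
    obtain ⟨b₁, s, hb₁, hs, -, -⟩ := H11Ample.exists_affine_gen_nhd_finite hQa (Set.finite_singleton ξ) (U := ⊤)
      (fun _ _ => trivial)
    obtain ⟨b₂, t, hb₂, ht, -, -⟩ := H11Ample.exists_affine_gen_nhd_finite hQ₁ (Set.finite_singleton ξ) (U := ⊤)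
      (fun _ _ => trivial)
    obtain ⟨φs, -⟩ := H11Ample.exists_iso_mul hQa.1 b₁ b₂
    obtain ⟨φt, -⟩ := H11Ample.exists_iso_mul hQ₁.1 b₂ b₁
    obtain ⟨σ, hσ⟩ := H11Ample.exists_section_of_eq (L := Q₁) (mul_comm b₂ b₁) (φt.hom.app ⊤ (H11Ample.spow t b₁))
    let τ := φs.hom.app ⊤ (H11Ample.spow s b₂)
    let b := b₁ * b₂
    let Q := CohB1.tensorPow Q₁ b
    let P := CohB1.tensorPow P₁ b
    have hξσ : ξ ∈ H11Ample.gen Q σ := by
      rw [hσ, H11Ample.gen_iso, H11Ample.gen_spow (H11Ample.isInvertible_tensorPow hQ₁.1 b₂) t b₁ hb₁]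
      exact ht rfl
    have hξτ : ξ ∈ H11Ample.gen P τ := by
      rw [show H11Ample.gen P τ = _ from H11Ample.gen_iso _ _,
        H11Ample.gen_spow (H11Ample.isInvertible_tensorPow hQa.1 b₁) s b₂ hb₂]
      exact hs rfl
    have hQi := H11Ample.isInvertible_tensorPow hQ₁.1 b
    have hPi := H11Ample.isInvertible_tensorPow hQa.1 b
    obtain ⟨C₁, hC₁⟩ := hd_compare_twist (k := k) L hL ih
      (H25Euler.mulHom G (H11Tilde.homOfGlobal Q σ)) hG (H11Ample.isCoh_tensor hG hQi) Set.Subset.rfl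
      (H25Euler.support_tensor_subset G Q) (H25Euler.isIso_stalk_mulHom G _ hξσ) j
    obtain ⟨C₂, hC₂⟩ := hd_compare_twist (k := k) L hL ih
      (H25Euler.mulHom G (H11Tilde.homOfGlobal P τ)) hG (H11Ample.isCoh_tensor hG hPi) Set.Subset.rfl
      (H25Euler.support_tensor_subset G P) (H25Euler.isIso_stalk_mulHom G _ hξτ) j
    refine bound_of_steps _ b (Nat.mul_pos hb₁ hb₂) ((b + 1) ^ d * C₁ + C₂) d fun n => ?_
    obtain ⟨eP⟩ := H11Ample.exists_iso_tensorPow_tensor hQ₁.1 hL b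
    obtain ⟨eL, -⟩ := H11Ample.exists_iso_add hL b n
    let Lb := CohB1.tensorPow L b
    let Ln := CohB1.tensorPow L n
    have i1 : CohB1.tensorMod Q (CohB1.tensorPow L (n + b)) ≅ CohB1.tensorMod Q (CohB1.tensorMod Lb Ln) :=
      eqToIso (H25Euler.tensorBi_obj_obj Q _).symm ≪≫
        ((DCoh.tensorBi (X := X)).obj Q).mapIso (eqToIso (congrArg (CohB1.tensorPow L) (add_comm n b)) ≪≫ eL.symm) ≪≫
        eqToIso (H25Euler.tensorBi_obj_obj Q _)
    have i2 : CohB1.tensorMod (CohB1.tensorMod Q Lb) Ln ≅ CohB1.tensorMod P Ln :=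
      eqToIso (H25Euler.tensorBi_flip_obj _ Ln).symm ≪≫ (TR Ln).mapIso eP ≪≫
        eqToIso (H25Euler.tensorBi_flip_obj _ Ln)
    have i3 : CohB1.tensorMod Q (CohB1.tensorPow L (n + b)) ≅ CohB1.tensorMod P Ln :=
      i1 ≪≫ (H10Coh.Tw.assoc Q Lb Ln).symm ≪≫ i2
    have i4 : CohB1.tensorMod G (CohB1.tensorMod Q (CohB1.tensorPow L (n + b))) ≅
        CohB1.tensorMod G (CohB1.tensorMod P Ln) :=
      eqToIso (H25Euler.tensorBi_obj_obj G _).symm ≪≫ ((DCoh.tensorBi (X := X)).obj G).mapIso i3 ≪≫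
        eqToIso (H25Euler.tensorBi_obj_obj G _)
    have e : (TR (CohB1.tensorPow L (n + b))).obj (CohB1.tensorMod G Q) ≅
        (TR (CohB1.tensorPow L n)).obj (CohB1.tensorMod G P) :=
      eqToIso (H25Euler.tensorBi_flip_obj _ _) ≪≫ H10Coh.Tw.assoc G Q (CohB1.tensorPow L (n + b)) ≪≫ i4 ≪≫
        (H10Coh.Tw.assoc G P Ln).symm ≪≫ eqToIso (H25Euler.tensorBi_flip_obj _ _).symm
    have h1 := (hC₁ (n + b)).1
    have h2 := (hC₂ n).2
    rw [hd_congr e] at h1
    have h3 := wt_add d n b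
    have h4 : C₁ * wt d (n + b) ≤ C₁ * ((b + 1) ^ d * wt d n) := Nat.mul_le_mul_left _ h3
    calc hd k ((TR (CohB1.tensorPow L (n + b))).obj G) j
        ≤ hd k ((TR (CohB1.tensorPow L n)).obj (CohB1.tensorMod G P)) j + C₁ * wt d (n + b) := h1
      _ ≤ hd k ((TR (CohB1.tensorPow L n)).obj G) j + C₂ * wt d n + C₁ * ((b + 1) ^ d * wt d n) :=
        Nat.add_le_add h2 h4
      _ = _ := by ring

end Groth.Agent.H25Index
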