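import Groth.Agent.H25Index.Degenerate
import Groth.Agent.H25Index.Growth
import Groth.Agent.H25AbCube.KerCard
import Groth.Agent.H25Pic0.QuasiSection
import Groth.Agent.H25AbCube.Formula

/-!
# Nondegenerate classes under multiples and isogenies
-/

set_option autoImplicit false
set_option linter.style.haveILetI false
set_option linter.unusedSectionVars false
set_option backward.isDefEq.respectTransparency false
set_option synthInstance.maxHeartbeats 400000
set_option maxHeartbeats 1000000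
universe u

open CategoryTheory CategoryTheory.Limits MonoidalCategory CartesianMonoidalCategory MonObj GrpObj AlgebraicGeometry
  TopologicalSpace Opposite
open Groth.Agent Groth.Agent.H25AbCube Groth.Agent.H25Pic0

noncomputable section

namespace Groth.Agent.H25Index

variable {k : Type u} [Field k] [IsAlgClosed k] {A B : Over (Spec (CommRingCat.of k))} [GrpObj A] [IsProper A.hom]
  [GeometricallyIntegral A.hom] [GrpObj B] [IsProper B.hom] [GeometricallyIntegral B.hom]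

/-- The points fixing a class. -/
abbrev FixFinite (ℓ : PC A.left) : Prop :=
  Set.Finite {a : 𝟙_ (Over (Spec (CommRingCat.of k))) ⟶ A | transl ℓ a = ℓ}

theorem finite_pow_preimage {N : ℕ} (hN : 0 < N) {T : Set (𝟙_ (Over (Spec (CommRingCat.of k))) ⟶ A)}
    (hT : T.Finite) : Set.Finite {a : 𝟙_ (Over (Spec (CommRingCat.of k))) ⟶ A | a ^ N ∈ T} := by
  haveI : IsCommMonObj A := isCommMonObj_of_av
  refine hT.preimage' fun a _ => ?_
  rcases Set.eq_empty_or_nonempty
      ((fun b : 𝟙_ (Over (Spec (CommRingCat.of k))) ⟶ A => b ^ N) ⁻¹' {a}) with e | ⟨b₀, hb₀⟩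
  · rw [e]; exact Set.finite_empty
  haveI : Finite ↥(AbDual.torsPts A N (pt1 k)) := finite_torsPts hN
  refine (Set.finite_range (fun t : ↥(AbDual.torsPts A N (pt1 k)) =>
    b₀ * (show 𝟙_ (Over (Spec (CommRingCat.of k))) ⟶ A from t.1))).subset fun b hb => ?_
  refine ⟨⟨b₀⁻¹ * b, (AbDual.mem_torsPts A (show pt1 k ⟶ A from b₀⁻¹ * b)).2 ?_⟩, mul_inv_cancel_left b₀ b⟩
  show (b₀⁻¹ * b) ^ N = 1
  rw [mul_pow, inv_pow, show b ^ N = a from hb, show b₀ ^ N = a from hb₀, inv_mul_cancel]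

theorem fixFinite_nsmul {ℓ : PC A.left} (h : FixFinite ℓ) {m : ℕ} (hm : 0 < m) : FixFinite (m • ℓ) := by
  haveI : IsCommMonObj A := isCommMonObj_of_av
  refine (finite_pow_preimage hm h).subset fun a ha => ?_
  show transl ℓ (a ^ m) = ℓ
  rw [← sub_eq_zero, phi_pow, smul_sub, sub_eq_zero]
  exact ((map_nsmul _ m ℓ).symm.trans ha)

/-- The inverse image of a nondegenerate class along an isogeny is nondegenerate. -/
theorem fixFinite_ev (f : A ⟶ B) [IsMonHom f] [IsFinite f.left] [Flat f.left] [Surjective f.left] (d : ℕ)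
    (hd : ∀ y, f.left.finrank y = d) {ℓ : PC B.left} (h : FixFinite ℓ) : FixFinite (ev ℓ f) := by
  haveI : IsCommMonObj A := isCommMonObj_of_av
  haveI : IsCommMonObj B := isCommMonObj_of_av
  obtain ⟨N, hN, s, hs, hsf⟩ := exists_quasi_section f
  have hker : Finite ↥(ptsKer f) := (card_ptsKer_dvd f hd).1
  refine ((finite_pow_preimage hN h).preimage' fun b _ => ?_).subset
    (show {a : 𝟙_ (Over (Spec (CommRingCat.of k))) ⟶ A | transl (ev ℓ f) a = ev ℓ f} ⊆
      (fun a => a ≫ f) ⁻¹' {b | transl ℓ (b ^ N) = ℓ} from fun a ha => ?_)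
  · rcases Set.eq_empty_or_nonempty
        ((fun a : 𝟙_ (Over (Spec (CommRingCat.of k))) ⟶ A => a ≫ f) ⁻¹' {b}) with e | ⟨a₀, ha₀⟩
    · rw [e]; exact Set.finite_empty
    refine (Set.finite_range (fun t : ↥(ptsKer f) =>
      a₀ * (show 𝟙_ (Over (Spec (CommRingCat.of k))) ⟶ A from t.1))).subset fun a ha => ?_
    refine ⟨⟨a₀⁻¹ * a, ?_⟩, mul_inv_cancel_left a₀ a⟩
    show (a₀⁻¹ * a) ≫ f = 1
    rw [MonObj.mul_comp, GrpObj.inv_comp, show a ≫ f = b from ha, show a₀ ≫ f = b from ha₀, inv_mul_cancel]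
  · show transl ℓ ((a ≫ f) ^ N) = ℓ
    have hv := phi_additive ℓ (a ≫ f)
    have h1 : ev (transl ℓ (a ≫ f) - ℓ) f = 0 := by
      rw [ev, map_sub, sub_eq_zero]
      exact (transl_pullP f ℓ a).symm.trans ha
    have h2 := congrArg (fun u => ev u s) h1
    simp only [ev_comp, hsf, H25Pic0.ev_pow hv,
      show ev (transl ℓ (a ≫ f) - ℓ) (𝟙 B) = transl ℓ (a ≫ f) - ℓ from pullP_id _] at h2
    rw [← sub_eq_zero, phi_pow]
    exact h2.trans (map_zero _)

/-- Multiplication by `n` pulls a nondegenerate class back to a translate of `n ^ 2` times it. -/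
theorem exists_transl_pow {ℓ : PC A.left} (h : FixFinite ℓ) {n : ℕ} (hn : 0 < n) :
    ∃ x : 𝟙_ (Over (Spec (CommRingCat.of k))) ⟶ A, ev ℓ ((𝟙 A) ^ n) = transl ((n * n) • ℓ) x := by
  haveI : IsCommMonObj A := isCommMonObj_of_av
  let v := n.choose 2 • (ev ℓ ((𝟙 A)⁻¹) - ℓ)
  have hinv : ∀ a : 𝟙_ (Over (Spec (CommRingCat.of k))) ⟶ A, transl v a = v := by
    intro a
    have hphi : transl (ev ℓ ((𝟙 A)⁻¹)) a - ev ℓ ((𝟙 A)⁻¹) = transl ℓ a - ℓ := by
      have h1 : transl (ev ℓ ((𝟙 A)⁻¹)) a = ev (transl ℓ a⁻¹) ((𝟙 A)⁻¹) := by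
        rw [transl, transl, ev_comp, ev_comp]
        simp only [MonObj.comp_mul, GrpObj.comp_inv, Category.comp_id, _root_.mul_inv]
        rw [← Category.assoc, comp_toUnit]
      have h2 : transl ℓ a⁻¹ - ℓ = - (transl ℓ a - ℓ) := by
        rw [eq_neg_iff_add_eq_zero, ← phi_mul, inv_mul_cancel, transl, MonObj.comp_one, _root_.mul_one,
          show ev ℓ (𝟙 A) = ℓ from pullP_id _, sub_self]
      have h3 : ev (transl ℓ a - ℓ) ((𝟙 A)⁻¹) = - (transl ℓ a - ℓ) := by
        rw [ev_inv (phi_additive ℓ a), show ev (transl ℓ a - ℓ) (𝟙 A) = transl ℓ a - ℓ from pullP_id _]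
      rw [h1]
      calc ev (transl ℓ a⁻¹) ((𝟙 A)⁻¹) - ev ℓ ((𝟙 A)⁻¹) = ev (transl ℓ a⁻¹ - ℓ) ((𝟙 A)⁻¹) := (map_sub _ _ _).symm
        _ = - ev (transl ℓ a - ℓ) ((𝟙 A)⁻¹) := by rw [h2]; exact map_neg _ _
        _ = _ := by rw [h3, neg_neg]
    show ev (n.choose 2 • _) _ = _
    rw [ev, map_nsmul, map_sub]
    show n.choose 2 • (transl _ a - transl ℓ a) = _
    rw [sub_eq_sub_iff_sub_eq_sub.1 hphi]
  obtain ⟨M, hM, hMe⟩ := exists_rep ((n * n) • ℓ)
  obtain ⟨x, hx⟩ := exists_transl_sub_eq M hM (by rw [hMe]; exact fixFinite_nsmul h (Nat.mul_pos hn hn)) v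
    (ev_mul_of_invariant v hinv _ _)
  refine ⟨x, ?_⟩
  rw [← hMe, eq_add_of_sub_eq hx, hMe, H25AbCube.ev_pow ℓ n]
  have hc : n.choose 2 + n.choose 2 + n = n * n := by
    have h : n * (n - 1) / 2 * 2 = n * (n - 1) := Nat.div_mul_cancel (Nat.even_mul_pred_self n).two_dvd
    have h' : n * (n - 1) + n = n * n := by rw [← Nat.mul_succ, Nat.succ_eq_add_one, Nat.sub_add_cancel hn]
    rw [Nat.choose_two_right]; omega
  simp only [v]
  rw [smul_sub, ← hc, add_nsmul, add_nsmul, smul_add]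
  abel

/-- The Euler characteristic is translation invariant. -/
theorem euler_transl (L M : A.left.Modules) (hL : PicF.IsInvertible L) (hM : PicF.IsInvertible M)
    (x : 𝟙_ (Over (Spec (CommRingCat.of k))) ⟶ A) (h : pc M hM = transl (pc L hL) x) :
    @Curv2.euler k _ A.left ⟨A.hom⟩ M = @Curv2.euler k _ A.left ⟨A.hom⟩ L := by
  letI : A.left.Over (Spec (CommRingCat.of k)) := ⟨A.hom⟩
  haveI : IsProper (A.left ↘ Spec (CommRingCat.of k)) := ‹IsProper A.hom›
  obtain ⟨P, hP, hPc⟩ := exists_rep (transl (pc L hL) x - pc L hL)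
  have hT := H11Ample.isInvertible_tensor hP hL
  obtain ⟨e⟩ := (pc_eq_iff hT hM).1 (by rw [pc_tensor hP hL, hPc, h, sub_add_cancel])
  rw [← H25Euler.euler_congr (k := k) e]
  exact H12Pic.AlgEquivEuler.euler_twist_of_algEquiv k (algEquivZero_phi _ x P hP hPc)
    (H11Ample.isCoh_of_isInvertible hL)

end Groth.Agent.H25Index
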