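import Groth.Agent.H25Index.Class
import Groth.Agent.H25AbCube.TopDeg
import Groth.Agent.H25AbCube.AdjointDeg

/-!
# Multiples of a nondegenerate class keep the index
-/

set_option autoImplicit false
set_option linter.style.haveILetI false
set_option linter.unusedSectionVars false
set_option backward.isDefEq.respectTransparency false
set_option synthInstance.maxHeartbeats 400000
set_option maxHeartbeats 1000000
universe u

open CategoryTheory CategoryTheory.Limits MonoidalCategory CartesianMonoidalCategory MonObj GrpObj AlgebraicGeometry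
  TopologicalSpace Opposite
open Groth.Agent Groth.Agent.H25AbCube Groth.Agent.H25Pic0

noncomputable section

namespace Groth.Agent.H25Index

variable {k : Type u} [Field k] [IsAlgClosed k] {A B : Over (Spec (CommRingCat.of k))} [GrpObj A] [IsProper A.hom]
  [GeometricallyIntegral A.hom] [GrpObj B] [IsProper B.hom] [GeometricallyIntegral B.hom]

theorem additive'_add {u v : PC A.left} (hu : Additive' u) (hv : Additive' v) : Additive' (u + v) := by
  show ev (u + v) _ = ev (u + v) _ + ev (u + v) _
  simp only [ev, map_add]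
  simp only [Additive', ev] at hu hv
  rw [hu, hv]
  abel

theorem additive'_of_th {D : PC A.left} (h : th D (fst A A) (snd A A) = 0) : Additive' D := by
  rw [th, sub_sub, sub_eq_zero] at h
  exact h

theorem additive'_ev {D : PC B.left} (hD : Additive' D) (f : A ⟶ B) [IsMonHom f] : Additive' (ev D f) := by
  show ev (ev D f) _ = ev (ev D f) _ + ev (ev D f) _
  rw [ev_comp, ev_comp, ev_comp, MonObj.mul_comp, ev_mul hD]

/-- The index of a positive multiple. -/
theorem IsIndex.nsmul {w : PC A.left} {i : ℕ} (h : IsIndex w i) : ∀ {m : ℕ}, 0 < m → IsIndex (m • w) i := by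
  intro m
  induction m using Nat.strong_induction_on generalizing w i with
  | _ m ih =>
    intro hm
    rcases Nat.exists_eq_succ_of_ne_zero hm.ne' with ⟨q, rfl⟩
    rcases Nat.eq_zero_or_pos q with rfl | hq
    · rwa [one_nsmul]
    haveI : IsCommMonObj A := isCommMonObj_of_av
    haveI : GeometricallyIntegral (A ⊗ A).hom := H25Rig.geometricallyIntegral_tensor A A
    haveI : IsProper (A ⊗ A).hom := inferInstance
    haveI : IsCommMonObj (A ⊗ A) := isCommMonObj_of_av
    haveI : IsIntegral A.left := GeometricallyIntegral.isIntegral_of_subsingleton A.hom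
    haveI : IsIntegral (A ⊗ A).left := GeometricallyIntegral.isIntegral_of_subsingleton (A ⊗ A).hom
    let p := fst A A
    let r := snd A A
    let ψ : A ⊗ A ⟶ A ⊗ A := lift (p * (r ^ q)⁻¹) (p * r)
    let ψ' : A ⊗ A ⟶ A ⊗ A := lift (p * r ^ q) (p⁻¹ * r)
    have hone : ∀ (a b : A ⊗ A ⟶ A) (T : Over (Spec (CommRingCat.of k))) (t : T ⟶ A ⊗ A),
        t ≫ (a * b) = (t ≫ a) * (t ≫ b) := fun a b T t => MonObj.comp_mul t a b
    haveI : IsMonHom ψ := H25Rig.isMonHom_of_one_hom ψ (CartesianMonoidalCategory.hom_ext _ _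
      (by simp [ψ, p, r, MonObj.comp_pow, MonObj.comp_mul, GrpObj.comp_inv, MonObj.one_eq_one, MonObj.one_comp])
      (by simp [ψ, p, r, MonObj.comp_mul, GrpObj.comp_inv, MonObj.one_eq_one, MonObj.one_comp]))
    haveI : IsMonHom ψ' := H25Rig.isMonHom_of_one_hom ψ' (CartesianMonoidalCategory.hom_ext _ _
      (by simp [ψ', p, r, MonObj.comp_pow, MonObj.comp_mul, GrpObj.comp_inv, MonObj.one_eq_one, MonObj.one_comp])
      (by simp [ψ', p, r, MonObj.comp_mul, GrpObj.comp_inv, MonObj.one_eq_one, MonObj.one_comp]))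
    have h1 : ψ ≫ ψ' = (𝟙 (A ⊗ A)) ^ (q + 1) := by
      refine CartesianMonoidalCategory.hom_ext _ _ ?_ ?_ <;>
        rw [MonObj.pow_comp, Category.id_comp, Category.assoc]
      · simp only [ψ', lift_fst, MonObj.comp_mul, MonObj.comp_pow, p, r, ψ, lift_snd]
        rw [pow_succ', mul_pow, _root_.mul_comm (fst A A ^ q), _root_.mul_assoc, inv_mul_cancel_left]
      · simp only [ψ', lift_snd, MonObj.comp_mul, GrpObj.comp_inv, p, r, ψ, lift_fst]
        rw [pow_succ, _root_.mul_inv_rev, _root_.inv_inv, _root_.mul_assoc, inv_mul_cancel_left]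
    have h2 : ψ' ≫ ψ = (𝟙 (A ⊗ A)) ^ (q + 1) := by
      refine CartesianMonoidalCategory.hom_ext _ _ ?_ ?_ <;>
        rw [MonObj.pow_comp, Category.id_comp, Category.assoc]
      · simp only [ψ, lift_fst, MonObj.comp_mul, GrpObj.comp_inv, MonObj.comp_pow, p, r, ψ', lift_snd]
        rw [pow_succ', mul_pow, inv_pow, _root_.mul_inv_rev, _root_.inv_inv]
        rw [_root_.mul_comm (snd A A ^ q)⁻¹, _root_.mul_assoc, mul_inv_cancel_comm_assoc]
      · simp only [ψ, lift_snd, MonObj.comp_mul, p, r, ψ', lift_fst]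
        rw [pow_succ, _root_.mul_assoc, _root_.mul_comm ((fst A A)⁻¹) (snd A A), ← _root_.mul_assoc (snd A A ^ q),
          _root_.mul_left_comm, mul_inv_cancel, _root_.mul_one]
    haveI hN : IsFinite ((𝟙 (A ⊗ A)) ^ (q + 1) : A ⊗ A ⟶ A ⊗ A).left := isFinite_pow (Nat.succ_pos q)
    haveI : IsFinite ψ.left := by
      haveI : IsFinite (ψ.left ≫ ψ'.left) := by rw [← Over.comp_left, h1]; exact hN
      haveI : IsProper (ψ'.left ≫ (A ⊗ A).hom) := by rw [Over.w ψ']; infer_instance
      haveI : IsProper ψ'.left := IsProper.of_comp ψ'.left (A ⊗ A).hom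
      exact IsFinite.of_comp ψ.left ψ'.left
    haveI : Surjective ψ.left := by
      haveI : Surjective (ψ'.left ≫ ψ.left) := by
        rw [← Over.comp_left, h2]; exact surjective_pow (Nat.succ_pos q)
      exact Surjective.of_comp ψ'.left ψ.left
    obtain ⟨g, hg⟩ := H25Grp.exists_nat_dim A.hom
    haveI : Flat ψ.left := flat_of_finite ψ (dim_tensor hg hg) (dim_tensor hg hg)
    have hq' := ih q (Nat.lt_succ_self q) h hq
    obtain ⟨i', hi'⟩ := exists_isIndex (fixFinite_nsmul h.1 hm)
    have hqm := ih q (Nat.lt_succ_self q) hi' hq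
    have hW := (h.prod hq').pullback ψ
    have hV := hi'.prod hqm
    let D : PC A.left := ev w ((𝟙 A) ^ q)⁻¹ - (q * q) • w
    have hD : Additive' D := by
      refine additive'_of_th ?_
      have e : ∀ (u v : PC A.left), th (u - v) (fst A A) (snd A A) =
          th u (fst A A) (snd A A) - th v (fst A A) (snd A A) := fun u v => by
        simp only [th, ev, map_sub]; abel
      have e2 : ∀ (n : ℕ) (u : PC A.left), th (n • u) (fst A A) (snd A A) = n • th u (fst A A) (snd A A) :=
        fun n u => by simp only [th, ev, map_nsmul, smul_sub]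
      have e3 : th (ev w ((𝟙 A) ^ q)⁻¹) (fst A A) (snd A A) = th w (fst A A ^ q)⁻¹ (snd A A ^ q)⁻¹ := by
        simp only [th, ev_comp, GrpObj.comp_inv, MonObj.comp_pow, Category.comp_id]
        rw [mul_pow, _root_.mul_inv]
      rw [e, e2, e3, th_inv_right, th_comm, th_inv_right, th_comm, neg_neg, th_pow_left, th_comm, th_pow_left,
        th_comm, ← mul_nsmul, sub_self]
    have hdiff : (ev ((q + 1) • w) p + ev (q • ((q + 1) • w)) r) - ev (ev w p + ev (q • w) r) ψ = - ev D r := by
      have hs : ∀ (n : ℕ) (u : PC A.left) {T : Over (Spec (CommRingCat.of k))} (f : T ⟶ A),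
          ev (n • u) f = n • ev u f := fun n u T f => map_nsmul _ _ _
      have ha : ∀ (u v : PC (A ⊗ A).left) {T : Over (Spec (CommRingCat.of k))} (f : T ⟶ A ⊗ A),
          ev (u + v) f = ev u f + ev v f := fun u v T f => map_add _ _ _
      have hψ1 : ψ ≫ p = p * (r ^ q)⁻¹ := lift_fst _ _
      have hψ2 : ψ ≫ r = p * r := lift_snd _ _
      have ht : ∀ a b : A ⊗ A ⟶ A, ev w (a * b) = th w a b + ev w a + ev w b := fun a b => by
        rw [th]; abel
      have hDr : ev D r = ev w (r ^ q)⁻¹ - (q * q) • ev w r := by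
        simp only [D]
        rw [show ∀ (u v : PC A.left), ev (u - v) r = ev u r - ev v r from fun u v => map_sub _ _ _, hs, ev_comp,
          GrpObj.comp_inv, MonObj.comp_pow, Category.comp_id]
      rw [ha, ev_comp, ev_comp, hψ1, hψ2, hs, hs, hs, hs, ht, ht, th_inv_right, th_comm w p (r ^ q), th_pow_left,
        th_comm w r p, hDr]
      simp only [add_nsmul, one_nsmul, smul_add, ← mul_nsmul]
      abel
    haveI : IsMonHom r := inferInstanceAs (IsMonHom (snd A A))
    have hadd : Additive' ((ev ((q + 1) • w) p + ev (q • ((q + 1) • w)) r) - ev (ev w p + ev (q • w) r) ψ) := by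
      rw [hdiff, show - ev D r = ev (-D) r from (map_neg _ _).symm]
      refine additive'_ev ?_ r
      show ev (-D) _ = ev (-D) _ + ev (-D) _
      simp only [ev, map_neg]
      simp only [Additive', ev] at hD
      rw [hD]; abel
    have heq := hV.unique (hW.congr hadd)
    obtain rfl : i' = i := by omega
    exact hi'

end Groth.Agent.H25Index
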