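import Mathlib

/-!
# Counting real roots by the drops of a step function
-/

set_option autoImplicit false
set_option linter.style.haveILetI false

open Polynomial Finset

noncomputable section

namespace Groth.Agent.H25Index.RootCount

/-- The number of roots, with multiplicity, in an open interval. -/
def cnt (P : ℝ[X]) (x y : ℝ) : ℕ := Multiset.card (P.roots.filter fun t => x < t ∧ t < y)

/-- A function on the rational non-roots which can only drop where the polynomial is small. -/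
structure Drops (P : ℝ[X]) (J : ℚ → ℕ) : Prop where
  step : ∀ x y : ℚ, ∃ R : ℕ, 0 < R ∧ ∃ C : ℝ, ∀ (a : ℤ) (b : ℕ), 0 < b → x ≤ (a : ℚ) / b → (a : ℚ) / b ≤ y →
    P.eval ((a : ℝ) / b) ≠ 0 → P.eval (((a + R : ℤ) : ℝ) / b) ≠ 0 →
    J (((a + R : ℤ) : ℚ) / b) < J ((a : ℚ) / b) → (b : ℝ) * |P.eval ((a : ℝ) / b)| ≤ C
  jump : ∀ (x y : ℚ) (μ : ℕ), ∃ R : ℕ, ∃ C : ℝ, ∀ (a : ℤ) (b : ℕ), 0 < b → x ≤ (a : ℚ) / b → (a : ℚ) / b ≤ y →
    P.eval ((a : ℝ) / b) ≠ 0 →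
    (∀ r : ℕ, 1 ≤ r → r ≤ R → P.eval (((a + 3 * r : ℤ) : ℝ) / b) ≠ 0 ∧
      J (((a + 3 * r : ℤ) : ℚ) / b) + μ < J ((a : ℚ) / b)) →
    (b : ℝ) ^ (μ + 1) * |P.eval ((a : ℝ) / b)| ≤ C

variable {P : ℝ[X]} {J : ℚ → ℕ}

theorem exists_drop {f : ℕ → ℕ} {M : ℕ} (h : f M < f 0) : ∃ m < M, f (m + 1) < f m := by
  induction M with
  | zero => exact absurd h (lt_irrefl _)
  | succ M ih =>
    by_cases hM : f (M + 1) < f M
    · exact ⟨M, Nat.lt_succ_self M, hM⟩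
    · obtain ⟨m, hm, hm'⟩ := ih ((not_lt.1 hM).trans_lt h)
      exact ⟨m, hm.trans (Nat.lt_succ_self M), hm'⟩

theorem exists_lower (Q : ℝ[X]) {x y : ℝ} (hxy : x ≤ y) (h : ∀ t ∈ Set.Icc x y, Q.eval t ≠ 0) :
    ∃ c : ℝ, 0 < c ∧ ∀ t ∈ Set.Icc x y, c ≤ |Q.eval t| := by
  obtain ⟨t₀, ht₀, hmin⟩ := isCompact_Icc.exists_isMinOn (Set.nonempty_Icc.2 hxy) Q.continuous.abs.continuousOn
  exact ⟨|Q.eval t₀|, abs_pos.2 (h t₀ ht₀), fun t ht => hmin ht⟩

theorem Drops.le_of_no_root (hJ : Drops P J) {x y : ℚ} (hxy : x ≤ y)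
    (h : ∀ t ∈ Set.Icc (x : ℝ) y, P.eval t ≠ 0) : J x ≤ J y := by
  by_contra hlt
  rw [not_le] at hlt
  obtain ⟨R, hR, C, hC⟩ := hJ.step x y
  obtain ⟨c, hc, hcb⟩ := exists_lower P (by exact_mod_cast hxy) h
  obtain ⟨N₀, hN₀⟩ := exists_nat_gt (C / c)
  let D := x.den * y.den
  let p : ℤ := x.num * y.den
  let q : ℤ := y.num * x.den
  have hD : 0 < D := Nat.mul_pos x.den_pos y.den_pos
  have hDq : (0 : ℚ) < D := by exact_mod_cast hD
  have hDc : (D : ℚ) = (x.den : ℚ) * y.den := by simp [D]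
  have hp : (p : ℚ) = x * D := by
    rw [hDc, ← _root_.mul_assoc, Rat.mul_den_eq_num]; simp [p]
  have hq : (q : ℚ) = y * D := by
    rw [hDc, _root_.mul_left_comm, Rat.mul_den_eq_num]; simp [q, _root_.mul_comm]
  have hpq : p ≤ q := by
    have : (p : ℚ) ≤ q := by rw [hp, hq]; exact mul_le_mul_of_nonneg_right hxy hDq.le
    exact_mod_cast this
  obtain ⟨e, he⟩ := Int.eq_ofNat_of_zero_le (sub_nonneg.2 hpq)
  let N := N₀ + 1
  let M := N * e
  let b := N * R * D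
  have hb : 0 < b := Nat.mul_pos (Nat.mul_pos N₀.succ_pos hR) hD
  have hbq : (0 : ℚ) < b := by exact_mod_cast hb
  let a : ℕ → ℤ := fun m => (N * R : ℕ) * p + (R : ℤ) * m
  have hval : ∀ m : ℕ, ((a m : ℤ) : ℚ) / b = x + (m : ℚ) / (N * D) := fun m => by
    have hN : (N : ℚ) ≠ 0 := by simp [N]; positivity
    have hR' : (R : ℚ) ≠ 0 := by exact_mod_cast hR.ne'
    simp only [a, b]
    push_cast
    rw [hp]
    field_simp
  have h0 : ((a 0 : ℤ) : ℚ) / b = x := by rw [hval]; simp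
  have heq : (e : ℚ) = (y - x) * D := by
    have : ((q - p : ℤ) : ℚ) = ((e : ℤ) : ℚ) := congrArg _ he
    push_cast at this
    rw [← this, hp, hq]; ring
  have hMv : ((a M : ℤ) : ℚ) / b = y := by
    rw [hval]
    simp only [M]
    push_cast
    rw [heq]
    have hN : (N : ℚ) ≠ 0 := by simp [N]; positivity
    field_simp
    ring
  have hmem : ∀ m ≤ M, ((a m : ℤ) : ℚ) / b ∈ Set.Icc x y := fun m hm => by
    have hmono : ∀ {m n : ℕ}, m ≤ n → ((a m : ℤ) : ℚ) / b ≤ ((a n : ℤ) : ℚ) / b := fun {m n} hmn => by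
      rw [hval, hval]; gcongr
    exact ⟨h0 ▸ hmono (Nat.zero_le m), hMv ▸ hmono hm⟩
  have hmemR : ∀ m ≤ M, ((a m : ℤ) : ℝ) / b ∈ Set.Icc (x : ℝ) y := fun m hm => by
    have := hmem m hm
    rw [show ((a m : ℤ) : ℝ) / b = (((a m : ℤ) : ℚ) / b : ℚ) by push_cast; rfl]
    exact ⟨Rat.cast_le.2 this.1, Rat.cast_le.2 this.2⟩
  obtain ⟨m, hm, hdrop⟩ := exists_drop (f := fun m => J (((a m : ℤ) : ℚ) / b)) (M := M) (by rw [h0, hMv]; exact hlt)
  have hs : a (m + 1) = a m + R := by simp only [a]; push_cast; ring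
  have hbound := hC (a m) b hb (hmem m hm.le).1 (hmem m hm.le).2 (h _ (hmemR m hm.le))
    (hs ▸ h _ (hmemR (m + 1) hm)) (hs ▸ hdrop)
  have h1 : (N : ℝ) * c ≤ C := by
    refine le_trans ?_ hbound
    refine mul_le_mul ?_ (hcb _ (hmemR m hm.le)) hc.le (Nat.cast_nonneg _)
    exact_mod_cast (show N ≤ b from Nat.le_mul_of_pos_right N (Nat.mul_pos hR hD) |>.trans_eq (by simp [b, _root_.mul_assoc]))
  rw [div_lt_iff₀ hc] at hN₀
  have : (N₀ : ℝ) * c ≤ N * c := by simp only [N]; push_cast; nlinarith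
  linarith

theorem Drops.le_of_single_root (hJ : Drops P J) (hP : P ≠ 0) {x y : ℚ} {τ : ℝ} (hxτ : (x : ℝ) < τ)
    (hτy : τ < y) (h : ∀ t ∈ Set.Icc (x : ℝ) y, P.eval t = 0 → t = τ) : J x ≤ J y + P.rootMultiplicity τ := by
  by_contra hlt
  rw [not_le] at hlt
  let μ := P.rootMultiplicity τ
  obtain ⟨R, C, hC⟩ := hJ.jump x y μ
  obtain ⟨Q, hQ, hQτ⟩ := exists_eq_pow_rootMultiplicity_mul_and_not_dvd P hP τ
  have hQ0 : ∀ t ∈ Set.Icc (x : ℝ) y, Q.eval t ≠ 0 := by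
    intro t ht h0
    have ht' : t = τ := h t ht (by rw [hQ, eval_mul, h0, mul_zero])
    subst ht'
    exact hQτ (dvd_iff_isRoot.2 h0)
  obtain ⟨c, hc, hcb⟩ := exists_lower Q (hxτ.le.trans hτy.le) hQ0
  obtain ⟨b, hb⟩ := exists_nat_gt (max (max (2 / (τ - x)) (3 * R / (y - τ))) (max 0 (C / c)))
  simp only [max_lt_iff] at hb
  obtain ⟨⟨hb1, hb2⟩, hb0, hb3⟩ := hb
  rw [div_lt_iff₀ (sub_pos.2 hxτ)] at hb1
  rw [div_lt_iff₀ (sub_pos.2 hτy)] at hb2
  rw [div_lt_iff₀ hc] at hb3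
  let a : ℤ := ⌈(b : ℝ) * τ⌉ - 2
  have ha1 : (a : ℝ) + 1 < b * τ := by
    have := Int.ceil_lt_add_one ((b : ℝ) * τ)
    simp only [a]; push_cast; linarith
  have ha2 : (b : ℝ) * τ ≤ a + 2 := by
    have := Int.le_ceil ((b : ℝ) * τ)
    simp only [a]; push_cast; linarith
  have hax : (x : ℝ) < (a : ℝ) / b := by rw [lt_div_iff₀ hb0]; nlinarith
  have haτ : (a : ℝ) / b < τ := by rw [div_lt_iff₀ hb0]; linarith
  have hne : ∀ t ∈ Set.Icc (x : ℝ) y, t ≠ τ → P.eval t ≠ 0 := fun t ht hne h0 => hne (h t ht h0)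
  have hcast : ∀ n : ℤ, ((((n : ℚ) / b : ℚ)) : ℝ) = (n : ℝ) / b := fun n => by push_cast; rfl
  have hJa : J x ≤ J ((a : ℚ) / b) := by
    refine hJ.le_of_no_root ((Rat.cast_le (K := ℝ)).1 (by rw [hcast]; exact hax.le)) fun t ht => ?_
    rw [hcast] at ht
    exact hne t ⟨ht.1, (ht.2.trans haτ.le).trans hτy.le⟩ (ne_of_lt (ht.2.trans_lt haτ))
  have hay : (a : ℚ) / b ≤ y := (Rat.cast_le (K := ℝ)).1 (by rw [hcast]; exact (haτ.trans hτy).le)
  have hxa : x ≤ (a : ℚ) / b := (Rat.cast_le (K := ℝ)).1 (by rw [hcast]; exact hax.le)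
  have hbound := hC a b (by exact_mod_cast hb0) hxa hay (hne _ ⟨hax.le, (haτ.trans hτy).le⟩ haτ.ne) fun r hr1 hr2 => by
    have h1 : (1 : ℝ) ≤ r := by exact_mod_cast hr1
    have h2 : (r : ℝ) ≤ R := by exact_mod_cast hr2
    have hτr : τ < ((a + 3 * r : ℤ) : ℝ) / b := by rw [lt_div_iff₀ hb0]; push_cast; nlinarith
    have hry : ((a + 3 * r : ℤ) : ℝ) / b ≤ y := by rw [div_le_iff₀ hb0]; push_cast; nlinarith
    refine ⟨hne _ ⟨(hxτ.trans hτr).le, hry⟩ hτr.ne', ?_⟩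
    have : J (((a + 3 * r : ℤ) : ℚ) / b) ≤ J y := by
      refine hJ.le_of_no_root ((Rat.cast_le (K := ℝ)).1 (by rw [hcast]; exact hry)) fun t ht => ?_
      rw [hcast] at ht
      exact hne t ⟨(hxτ.trans (hτr.trans_le ht.1)).le, ht.2⟩ (ne_of_gt (hτr.trans_le ht.1))
    omega
  have hlow : c ≤ (b : ℝ) ^ μ * |P.eval ((a : ℝ) / b)| := by
    rw [hQ, eval_mul, eval_pow, eval_sub, eval_X, eval_C, abs_mul, abs_pow, ← _root_.mul_assoc, ← mul_pow]
    have h1 : 1 ≤ (b : ℝ) * |(a : ℝ) / b - τ| := by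
      rw [abs_of_neg (sub_neg.2 haτ), neg_sub, mul_sub, mul_div_cancel₀ _ hb0.ne']
      linarith
    calc c ≤ |Q.eval ((a : ℝ) / b)| := hcb _ ⟨hax.le, (haτ.trans hτy).le⟩
      _ ≤ _ := le_mul_of_one_le_left (abs_nonneg _) (one_le_pow₀ h1)
  have : (b : ℝ) * c ≤ C := by
    refine le_trans (mul_le_mul_of_nonneg_left hlow hb0.le) (le_of_eq_of_le ?_ hbound)
    ring
  linarith

theorem cnt_add {x z y : ℝ} (hxz : x ≤ z) (hzy : z ≤ y) (hz : ¬ P.IsRoot z) :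
    cnt P x z + cnt P z y = cnt P x y := by
  rw [cnt, cnt, cnt, ← Multiset.card_add, Multiset.filter_add_filter]
  have h0 : P.roots.filter (fun t => (x < t ∧ t < z) ∧ z < t ∧ t < y) = 0 :=
    Multiset.filter_eq_nil.2 fun t _ h => lt_asymm h.1.2 h.2.1
  rw [h0, add_zero]
  refine congrArg Multiset.card (Multiset.filter_congr fun t ht => ⟨?_, fun h => ?_⟩)
  · rintro (⟨h1, h2⟩ | ⟨h1, h2⟩)
    exacts [⟨h1, h2.trans_le hzy⟩, ⟨hxz.trans_lt h1, h2⟩]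
  · rcases lt_trichotomy t z with hlt | rfl | hgt
    exacts [Or.inl ⟨h.1, hlt⟩, absurd (isRoot_of_mem_roots ht) hz, Or.inr ⟨hgt, h.2⟩]

theorem Drops.le_add_cnt (hJ : Drops P J) (hP : P ≠ 0) : ∀ (n : ℕ) (x y : ℚ), x ≤ y → cnt P x y = n →
    P.eval (x : ℝ) ≠ 0 → P.eval (y : ℝ) ≠ 0 → J x ≤ J y + n := by
  intro n
  induction n using Nat.strong_induction_on with
  | _ n ih =>
    intro x y hxy hn hx hy
    by_cases hroot : ∃ τ ∈ Set.Icc (x : ℝ) y, P.eval τ = 0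
    swap
    · simp only [not_exists, not_and] at hroot
      exact (hJ.le_of_no_root hxy hroot).trans (Nat.le_add_right _ _)
    obtain ⟨τ, hτ, hτ0⟩ := hroot
    have hxτ : (x : ℝ) < τ := lt_of_le_of_ne hτ.1 fun h => hx (h ▸ hτ0)
    have hτy : τ < y := lt_of_le_of_ne hτ.2 fun h => hy (h ▸ hτ0)
    have hmem : τ ∈ P.roots.filter fun t => (x : ℝ) < t ∧ t < y :=
      Multiset.mem_filter.2 ⟨(mem_roots hP).2 hτ0, hxτ, hτy⟩
    by_cases hsingle : ∀ t ∈ Set.Icc (x : ℝ) y, P.eval t = 0 → t = τ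
    · refine (hJ.le_of_single_root hP hxτ hτy hsingle).trans (Nat.add_le_add_left ?_ _)
      rw [← hn, cnt, ← count_roots]
      exact (Multiset.count_filter_of_pos (p := fun t => (x : ℝ) < t ∧ t < y) ⟨hxτ, hτy⟩).symm.trans_le
        (Multiset.count_le_card _ _)
    · simp only [not_forall, exists_prop] at hsingle
      obtain ⟨t, ht, ht0, htτ⟩ := hsingle
      have hxt : (x : ℝ) < t := lt_of_le_of_ne ht.1 fun h => hx (h ▸ ht0)
      have hty : t < y := lt_of_le_of_ne ht.2 fun h => hy (h ▸ ht0)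
      obtain ⟨u, v, hu, hv, huv, hxu, hvy⟩ : ∃ u v, P.eval u = 0 ∧ P.eval v = 0 ∧ u < v ∧ (x : ℝ) < u ∧ v < y := by
        rcases lt_or_gt_of_ne htτ with h | h
        exacts [⟨t, τ, ht0, hτ0, h, hxt, hτy⟩, ⟨τ, t, hτ0, ht0, h, hxτ, hty⟩]
      have hfin : {q : ℚ | P.eval (q : ℝ) = 0}.Finite :=
        (P.roots.toFinset.finite_toSet.preimage (Rat.cast_injective.injOn)).subset fun q hq => by
          simpa [hP] using hq
      obtain ⟨z₁, hz₁⟩ := exists_rat_btwn huv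
      obtain ⟨z₂, hz₂⟩ := exists_rat_btwn hz₁.2
      obtain ⟨z, hz, hz0⟩ := ((Set.Ioo_infinite (Rat.cast_lt.1 hz₂.1)).diff hfin).nonempty
      have huz : u < (z : ℝ) := hz₁.1.trans (Rat.cast_lt.2 hz.1)
      have hzv : (z : ℝ) < v := (Rat.cast_lt.2 hz.2).trans hz₂.2
      have hxz : x ≤ z := Rat.cast_le.1 (hxu.trans huz).le
      have hzy : z ≤ y := Rat.cast_le.1 (hzv.trans hvy).le
      have hsum := cnt_add (x := (x : ℝ)) (y := (y : ℝ)) (Rat.cast_le.2 hxz) (Rat.cast_le.2 hzy) hz0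
      have hpos : ∀ {s p q : ℝ}, P.eval s = 0 → p < s → s < q → 0 < cnt P p q := fun h0 h1 h2 =>
        Multiset.card_pos_iff_exists_mem.2 ⟨_, Multiset.mem_filter.2 ⟨(mem_roots hP).2 h0, h1, h2⟩⟩
      have h1 := hpos hu hxu huz
      have h2 := hpos hv hzv hvy
      have a1 := ih _ (by omega) x z hxz rfl hx hz0
      have a2 := ih _ (by omega) z y hzy rfl hz0 hy
      omega

/-- With the full drop from `g` to `0`, all roots are real and the function counts the roots to the right. -/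
theorem Drops.count (hJ : Drops P J) (hP : P ≠ 0) {g : ℕ} (hdeg : P.natDegree ≤ g)
    (hneg : ∃ T : ℕ, ∀ n : ℕ, T ≤ n → J (-(n : ℚ)) = g) (hpos : ∃ T : ℕ, ∀ n : ℕ, T ≤ n → J (n : ℚ) = 0)
    (x : ℚ) (hx : P.eval (x : ℝ) ≠ 0) :
    Multiset.card P.roots = P.natDegree ∧ P.natDegree = g ∧
      J x = Multiset.card (P.roots.filter fun t => (x : ℝ) < t) := by
  obtain ⟨T₁, hT₁⟩ := hneg
  obtain ⟨T₂, hT₂⟩ := hpos
  obtain ⟨B, hB⟩ := (insert (x : ℝ) P.roots.toFinset).finite_toSet.bddAbove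
  obtain ⟨B', hB'⟩ := (insert (x : ℝ) P.roots.toFinset).finite_toSet.bddBelow
  obtain ⟨n, hn⟩ := exists_nat_gt (max (max B (-B')) (max T₁ T₂ : ℕ))
  simp only [max_lt_iff, Nat.cast_max] at hn
  obtain ⟨⟨hnB, hnB'⟩, hn1, hn2⟩ := hn
  have hroot : ∀ t, P.eval t = 0 → -(n : ℝ) < t ∧ t < n := fun t ht => by
    have hmem : t ∈ (↑(insert (x : ℝ) P.roots.toFinset) : Set ℝ) := by simp [hP, ht]
    have h1 := hB hmem
    have h2 := hB' hmem
    constructor <;> linarith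
  have hxn : -(n : ℝ) < x ∧ (x : ℝ) < n := by
    have hmem : (x : ℝ) ∈ (↑(insert (x : ℝ) P.roots.toFinset) : Set ℝ) := by simp
    have h1 := hB hmem
    have h2 := hB' hmem
    constructor <;> linarith
  have e1 : ((-(n : ℚ) : ℚ) : ℝ) = -(n : ℝ) := by push_cast; rfl
  have e2 : (((n : ℚ) : ℚ) : ℝ) = (n : ℝ) := by push_cast; rfl
  have a1 := hJ.le_add_cnt hP _ (-(n : ℚ)) x ((Rat.cast_le (K := ℝ)).1 (by rw [e1]; exact hxn.1.le)) rfl
    (by rw [e1]; exact fun h => lt_irrefl _ (hroot _ h).1) hx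
  have a2 := hJ.le_add_cnt hP _ x n ((Rat.cast_le (K := ℝ)).1 (by rw [e2]; exact hxn.2.le)) rfl hx
    (by rw [e2]; exact fun h => lt_irrefl _ (hroot _ h).2)
  have hsum := cnt_add (P := P) (x := -(n : ℝ)) (z := x) (y := n) hxn.1.le hxn.2.le hx
  have hall : cnt P (-(n : ℝ)) n = Multiset.card P.roots :=
    congrArg Multiset.card (Multiset.filter_eq_self.2 fun t ht => hroot t (isRoot_of_mem_roots ht))
  have hright : cnt P x n = Multiset.card (P.roots.filter fun t => (x : ℝ) < t) :=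
    congrArg Multiset.card (Multiset.filter_congr fun t ht =>
      ⟨fun h => h.1, fun h => ⟨h, (hroot t (isRoot_of_mem_roots ht)).2⟩⟩)
  have hcard := P.card_roots'
  rw [hT₁ n (by exact_mod_cast hn1.le), e1] at a1
  rw [hT₂ n (by exact_mod_cast hn2.le), e2] at a2
  refine ⟨?_, ?_, ?_⟩ <;> omega

end Groth.Agent.H25Index.RootCount
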