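import Groth.Agent.H25Index.Twist
import Groth.Agent.H25Index.RootCount
import Groth.Agent.H25Index.AllMultiples
import Groth.Agent.H25Index.BaseChange
import Groth.Agent.H25AbCube.TopDeg

/-!
# The index and the roots of the Hilbert polynomial
-/

set_option autoImplicit false
set_option linter.style.haveILetI false
set_option linter.unusedSectionVars false
set_option backward.isDefEq.respectTransparency false
set_option synthInstance.maxHeartbeats 400000
set_option maxHeartbeats 1000000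
universe u

open CategoryTheory CategoryTheory.Limits MonoidalCategory CartesianMonoidalCategory AlgebraicGeometry
  TopologicalSpace Opposite
open Groth.Agent Groth.Agent.H25AbCube Groth.Agent.H25Pic0

noncomputable section

attribute [local instance] overOf

namespace Groth.Agent.H25Index

theorem wt_mul (d K n : ℕ) : wt d (K * n) ≤ (K + 1) ^ d * wt d n := by
  rcases d with _ | d
  · exact Nat.zero_le _
  show (K * n + 1) ^ d ≤ (K + 1) ^ (d + 1) * (n + 1) ^ d
  refine (Nat.pow_le_pow_left (show K * n + 1 ≤ (K + 1) * (n + 1) by nlinarith) d).trans ?_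
  rw [mul_pow]
  exact Nat.mul_le_mul_right _ (Nat.pow_le_pow_right K.succ_pos d.le_succ)

theorem wt_bound (g μ b : ℕ) (hb : 0 < b) : b ^ (μ + 1) * wt (g - μ) b ≤ (2 * b) ^ g := by
  rcases e : g - μ with _ | d
  · simp [wt]
  show b ^ (μ + 1) * (b + 1) ^ d ≤ (2 * b) ^ g
  rw [show g = μ + 1 + d by omega, pow_add (2 * b)]
  exact Nat.mul_le_mul (Nat.pow_le_pow_left (by omega) _) (Nat.pow_le_pow_left (by omega) _)

variable {k : Type u} [Field k] [IsAlgClosed k] {A : Over (Spec (CommRingCat.of k))} [GrpObj A] [IsProper A.hom]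
  [GeometricallyIntegral A.hom]

theorem chiCls_eq_of_isIndex {w : PC A.left} {i : ℕ} (h : IsIndex w i) :
    chiCls k w = (-1) ^ i * (hh k (Coh.structureModule A.left) w i : ℤ) ∧
      ∀ j, j ≠ i → hh k (Coh.structureModule A.left) w j = 0 := by
  obtain ⟨M, hM, rfl⟩ := exists_rep w
  obtain ⟨h1, h2⟩ := h.2 M hM rfl
  refine ⟨?_, fun j hj => ?_⟩
  · rw [chiCls_pc, euler_eq_of_concentrated M i h1, hh_structureModule _ M hM rfl]
  · haveI := h1 j hj
    rw [hh_structureModule _ M hM rfl]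
    exact Module.finrank_zero_of_subsingleton

theorem abs_chiCls_of_isIndex {w : PC A.left} {i : ℕ} (h : IsIndex w i) :
    |(chiCls k w : ℚ)| = (hh k (Coh.structureModule A.left) w i : ℚ) := by
  rw [(chiCls_eq_of_isIndex h).1, Int.cast_mul, Int.cast_pow, abs_mul, abs_pow, Int.cast_neg, Int.cast_one,
    abs_neg, abs_one, one_pow, _root_.one_mul, Int.cast_natCast, Nat.abs_cast]

theorem chiCls_ne_zero {w : PC A.left} {i : ℕ} (h : IsIndex w i) : chiCls k w ≠ 0 := by
  obtain ⟨M, hM, rfl⟩ := exists_rep w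
  obtain ⟨h1, h2⟩ := h.2 M hM rfl
  rw [chiCls_pc, euler_eq_of_concentrated M i h1]
  exact mul_ne_zero (pow_ne_zero _ (by norm_num))
    (Int.natCast_ne_zero.2 (hd_pos M (H11Ample.isCoh_of_isInvertible hM) i h2).ne')

theorem exists_isIndex_of_chiCls {w : PC A.left} (h : chiCls k w ≠ 0) : ∃ i, IsIndex w i := by
  obtain ⟨M, hM, rfl⟩ := exists_rep w
  refine exists_isIndex (Set.not_infinite.1 fun hinf => h ?_)
  rw [chiCls_pc]
  exact euler_eq_zero M hM hinf

theorem IsIndex.le {w : PC A.left} {i : ℕ} (h : IsIndex w i) {g : ℕ} (hg : topologicalKrullDim A.left = g) :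
    i ≤ g ∧ IsIndex (-w) (g - i) := by
  obtain ⟨M, hM, rfl⟩ := exists_rep w
  obtain ⟨i', hi', -, h2, h3⟩ := exists_index M hM h.1 g hg
  obtain rfl := h.eq_of_nontrivial M hM rfl h2
  refine ⟨hi', h.1.subset fun a ha => ?_, fun N hN e => h3 N hN e⟩
  exact neg_inj.1 ((map_neg _ _).symm.trans ha)

theorem isIndex_ample {M : A.left.Modules} (hM : CohB1.IsAmple M) : IsIndex (pc M hM.1) 0 :=
  IsIndex.mk' (finite_fixing M hM) (fun j hj => (ample_vanishing M hM).1 j (Nat.pos_of_ne_zero hj))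
    (ample_vanishing M hM).2

/-- The Euler characteristic is homogeneous. -/
theorem chiCls_nsmul (v : PC A.left) {g : ℕ} (hg : topologicalKrullDim A.left = g) {n : ℕ} (hn : 0 < n) :
    chiCls k (n • v) = (n : ℤ) ^ g * chiCls k v := by
  by_cases hv : FixFinite v
  · obtain ⟨H, hH⟩ := exists_isAmple A
    obtain ⟨Q, -, hQ⟩ := exists_topForm (k := k) hg hH fun _ : Fin 1 => v
    obtain ⟨P, hP, -⟩ := hQ fun _ => 1
    simp only [Fin.sum_univ_one, one_smul] at hP
    obtain ⟨i, hi⟩ := exists_isIndex hv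
    obtain ⟨M, hM, rfl⟩ := exists_rep v
    obtain ⟨h1, h2⟩ := hi.2 M hM rfl
    let T : Set ℕ := {m | m.Prime ∧ (m : k) ≠ 0}
    have hT : T.Infinite := Set.infinite_of_forall_exists_gt fun a => by
      obtain ⟨m, hm, ham, hmk⟩ := exists_prime_gt k a
      exact ⟨m, ⟨hm, hmk⟩, ham⟩
    have hsq : P = Polynomial.C (chiCls k (pc M hM) : ℚ) * Polynomial.X ^ g := by
      refine Polynomial.eq_of_infinite_eval_eq _ _ ((hT.image (f := fun m : ℕ => ((m * m : ℕ) : ℚ))
        (fun a _ b _ h => Nat.mul_self_inj.1 (Nat.cast_injective h))).mono ?_)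
      rintro _ ⟨m, ⟨hm, hmk⟩, rfl⟩
      obtain ⟨e1, e2⟩ := index_sq M hM hi.1 g hg i h2 h1 hm.pos hmk
      have hP' := H11Ample.isInvertible_tensorPow hM (m * m)
      show P.eval ((m * m : ℕ) : ℚ) = _
      rw [hP, ← pc_tensorPow M hM, chiCls_pc, chiCls_pc, euler_eq_of_concentrated _ i e1,
        euler_eq_of_concentrated _ i h1, e2, Polynomial.eval_mul, Polynomial.eval_C, Polynomial.eval_pow,
        Polynomial.eval_X]
      push_cast
      ring
    have h := hP n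
    rw [hsq, Polynomial.eval_mul, Polynomial.eval_C, Polynomial.eval_pow, Polynomial.eval_X] at h
    rw [mul_comm]
    exact_mod_cast h.symm
  · have h0 : ∀ w : PC A.left, ¬ FixFinite w → chiCls k w = 0 := fun w hw => by
      by_contra h
      exact hw (exists_isIndex_of_chiCls h).choose_spec.1
    rw [h0 v hv, mul_zero, h0 _ fun hf => hv (hf.subset fun a ha => ?_)]
    show transl (n • v) a = n • v
    exact (map_nsmul _ n v).trans (congrArg (n • ·) ha)

/-- A combination of two classes. -/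
abbrev cl (ℓ η : PC A.left) (a : ℤ) (b : ℕ) : PC A.left := b • ℓ + a • η

open Classical in
/-- The index at a rational point of the line through two classes. -/
def jv (ℓ η : PC A.left) (t : ℚ) : ℕ :=
  if h : ∃ i, IsIndex (cl ℓ η t.num t.den) i then h.choose else 0

/-- The Euler characteristic on the lattice of two classes. -/
theorem chiCls_cl {g : ℕ} (hg : topologicalKrullDim A.left = g) (ℓ : PC A.left) {H : A.left.Modules}
    (hH : CohB1.IsAmple H) {Φ : Polynomial ℚ} (hΦ : ∀ t : ℤ, (chiCls k (ℓ + t • pc H hH.1) : ℚ) = Φ.eval (t : ℚ))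
    (a : ℤ) {b : ℕ} (hb : 0 < b) :
    (chiCls k (cl ℓ (pc H hH.1) a b) : ℚ) = (b : ℚ) ^ g * Φ.eval ((a : ℚ) / b) := by
  obtain ⟨Q, -, hQ⟩ := exists_line_poly (k := k) hg H hH (b • ℓ)
  have hb0 : (b : ℚ) ≠ 0 := by exact_mod_cast hb.ne'
  have e : Q.comp (Polynomial.C (b : ℚ) * Polynomial.X) = Polynomial.C ((b : ℚ) ^ g) * Φ := by
    refine Polynomial.eq_of_infinite_eval_eq _ _ ((Set.infinite_range_of_injective
      (f := fun t : ℤ => (t : ℚ)) Int.cast_injective).mono ?_)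
    rintro _ ⟨t, rfl⟩
    show Polynomial.eval (t : ℚ) _ = Polynomial.eval (t : ℚ) _
    rw [Polynomial.eval_comp, Polynomial.eval_mul, Polynomial.eval_C, Polynomial.eval_X, Polynomial.eval_mul,
      Polynomial.eval_C, ← hΦ, ← Int.cast_natCast b, ← Int.cast_mul, ← hQ, mul_smul, natCast_zsmul,
      ← smul_add, chiCls_nsmul _ hg hb]
    push_cast
    rfl
  have h := congrArg (Polynomial.eval ((a : ℚ) / b)) e
  rw [Polynomial.eval_comp, Polynomial.eval_mul, Polynomial.eval_C, Polynomial.eval_X, Polynomial.eval_mul,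
    Polynomial.eval_C, mul_div_cancel₀ _ hb0, ← hQ] at h
  exact h

section line

variable {g : ℕ} (hg : topologicalKrullDim A.left = g) {ℓ : PC A.left} {H : A.left.Modules}
  (hH : CohB1.IsAmple H) {Φ : Polynomial ℚ} (hΦ : ∀ t : ℤ, (chiCls k (ℓ + t • pc H hH.1) : ℚ) = Φ.eval (t : ℚ))

include hg hΦ in
theorem eval_ne_zero_iff (a : ℤ) {b : ℕ} (hb : 0 < b) :
    Φ.eval ((a : ℚ) / b) ≠ 0 ↔ chiCls k (cl ℓ (pc H hH.1) a b) ≠ 0 := by
  rw [← Int.cast_ne_zero (α := ℚ) (n := chiCls k _), chiCls_cl hg ℓ hH hΦ a hb, mul_ne_zero_iff]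
  exact ⟨fun h => ⟨pow_ne_zero _ (by exact_mod_cast hb.ne'), h⟩, fun h => h.2⟩

include hg hΦ in
theorem isIndex_jv (a : ℤ) {b : ℕ} (hb : 0 < b) (h : Φ.eval ((a : ℚ) / b) ≠ 0) :
    IsIndex (cl ℓ (pc H hH.1) a b) (jv ℓ (pc H hH.1) ((a : ℚ) / b)) := by
  obtain ⟨i, hi⟩ := exists_isIndex_of_chiCls ((eval_ne_zero_iff hg hH hΦ a hb).1 h)
  set t : ℚ := (a : ℚ) / b with ht
  have hex : ∃ j, IsIndex (cl ℓ (pc H hH.1) t.num t.den) j :=
    exists_isIndex_of_chiCls ((eval_ne_zero_iff hg hH hΦ t.num t.den_pos).1 (by rwa [Rat.num_div_den]))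
  have hj : IsIndex (cl ℓ (pc H hH.1) t.num t.den) (jv ℓ (pc H hH.1) t) := by
    rw [jv, dif_pos hex]
    exact hex.choose_spec
  suffices hij : i = jv ℓ (pc H hH.1) t by rwa [← hij]
  refine (hi.nsmul t.den_pos).unique ?_
  have hrel : (t.den : ℤ) * a = (b : ℤ) * t.num := by
    have h1 : (t.num : ℚ) * b = (a : ℚ) * t.den := by
      have := t.num_div_den
      have := this.trans ht
      rw [div_eq_div_iff (by exact_mod_cast t.den_nz) (by exact_mod_cast hb.ne')] at this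
      linarith
    have h2 : t.num * b = a * t.den := by exact_mod_cast h1
    rw [mul_comm, ← h2, mul_comm]
  rw [show t.den • cl ℓ (pc H hH.1) a b = b • cl ℓ (pc H hH.1) t.num t.den by
    simp only [cl, smul_add, ← natCast_zsmul, smul_smul, hrel, mul_comm (t.den : ℤ) (b : ℤ)]]
  exact hj.nsmul hb

include hg hΦ in
theorem abs_eval_eq (a : ℤ) {b : ℕ} (hb : 0 < b) {i : ℕ} (hi : IsIndex (cl ℓ (pc H hH.1) a b) i) :
    (b : ℚ) ^ g * |Φ.eval ((a : ℚ) / b)| =
      (hh k (Coh.structureModule A.left) (cl ℓ (pc H hH.1) a b) i : ℚ) := by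
  rw [← abs_chiCls_of_isIndex hi, chiCls_cl hg ℓ hH hΦ a hb, abs_mul, abs_pow, Nat.abs_cast]

/-- Twists by the classes over a bounded interval grow like the dimension of the support. -/
theorem exists_bound [IsNoetherian A.left] (G : A.left.Modules) (hG : Coh.IsCoh G) (d : ℕ)
    (hd : topologicalKrullDim (CohB1.support G) < (d : WithBot ℕ∞)) (ℓ : PC A.left) (x y : ℚ) (n : ℕ) :
    ∃ C : ℕ, ∀ (a : ℤ) (b : ℕ), 0 < b → x ≤ (a : ℚ) / b → (a : ℚ) / b ≤ y → ∀ j ≤ n,
      hh k G (cl ℓ (pc H hH.1) a b) j ≤ C * wt d b := by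
  obtain ⟨R, hR⟩ := exists_nat_ge (-x)
  obtain ⟨Y, hY⟩ := exists_nat_ge y
  choose C hC using fun j => hh_growth (k := k) hH (ℓ - R • pc H hH.1) d G hG hd j
  let K := R + Y + 1
  refine ⟨(∑ j ∈ Finset.range (n + 1), C j) * (K + 1) ^ d, fun a b hb hxa hay j hj => ?_⟩
  have hbq : (0 : ℚ) < b := by exact_mod_cast hb
  rw [le_div_iff₀ hbq] at hxa
  rw [div_le_iff₀ hbq] at hay
  have h0 : (0 : ℤ) ≤ a + R * b := by
    have : (0 : ℚ) ≤ (a : ℚ) + R * b := by nlinarith
    exact_mod_cast this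
  obtain ⟨a', ha'⟩ := Int.eq_ofNat_of_zero_le h0
  have hle : a' + b ≤ K * b := by
    have h1 : ((a' : ℤ) : ℚ) = ((a + R * b : ℤ) : ℚ) := congrArg _ ha'.symm
    push_cast at h1
    have : ((a' + b : ℕ) : ℚ) ≤ ((K * b : ℕ) : ℚ) := by simp only [K]; push_cast; nlinarith
    exact_mod_cast this
  have e : cl ℓ (pc H hH.1) a b = a' • pc H hH.1 + b • (ℓ - R • pc H hH.1) := by
    rw [cl, ← natCast_zsmul (pc H hH.1) a', ← ha', add_smul, smul_sub, ← mul_nsmul, ← natCast_zsmul _ (R * b)]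
    push_cast
    abel
  rw [e]
  calc hh k G (a' • pc H hH.1 + b • (ℓ - R • pc H hH.1)) j ≤ C j * wt d (a' + b) := hC j a' b
    _ ≤ (∑ i ∈ Finset.range (n + 1), C i) * ((K + 1) ^ d * wt d b) :=
      Nat.mul_le_mul (Finset.single_le_sum (f := C) (fun _ _ => Nat.zero_le _) (Finset.mem_range.2 (by omega)))
        ((wt_mono d hle).trans (wt_mul d K b))
    _ = _ := (mul_assoc _ _ _).symm

include hg hΦ in
theorem final_bound {μ C : ℕ} {a : ℤ} {b i : ℕ} (hb : 0 < b) (hi : IsIndex (cl ℓ (pc H hH.1) a b) i)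
    (h : hh k (Coh.structureModule A.left) (cl ℓ (pc H hH.1) a b) i ≤ C * wt (g - μ) b) :
    (b : ℝ) ^ (μ + 1) * |(Φ.map (algebraMap ℚ ℝ)).eval ((a : ℝ) / b)| ≤ ((C * 2 ^ g : ℕ) : ℝ) := by
  have h1 : b ^ (μ + 1) * hh k (Coh.structureModule A.left) (cl ℓ (pc H hH.1) a b) i ≤ C * (2 * b) ^ g := by
    refine (Nat.mul_le_mul_left _ h).trans ?_
    rw [mul_left_comm]
    exact Nat.mul_le_mul_left _ (wt_bound g μ b hb)
  have h2 : (b : ℚ) ^ (μ + 1) * ((b : ℚ) ^ g * |Φ.eval ((a : ℚ) / b)|) ≤ (C : ℚ) * ((2 : ℚ) * b) ^ g := by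
    rw [abs_eval_eq hg hH hΦ a hb hi]
    exact_mod_cast h1
  have h3 : (b : ℚ) ^ (μ + 1) * |Φ.eval ((a : ℚ) / b)| ≤ ((C * 2 ^ g : ℕ) : ℚ) := by
    refine le_of_mul_le_mul_left ?_ (pow_pos (show (0 : ℚ) < b by exact_mod_cast hb) g)
    push_cast
    rw [mul_pow] at h2
    linarith
  have h4 := (Rat.cast_le (K := ℝ)).2 h3
  push_cast at h4
  rw [Polynomial.eval_map_algebraMap]
  refine le_of_eq_of_le ?_ (h4.trans_eq (by push_cast; rfl))
  rw [show ((a : ℝ) / b) = algebraMap ℚ ℝ ((a : ℚ) / b) by rw [eq_ratCast]; push_cast; rfl,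
    Polynomial.aeval_algebraMap_apply_eq_algebraMap_eval, eq_ratCast]

include hg hΦ in
theorem drops : RootCount.Drops (Φ.map (algebraMap ℚ ℝ)) (jv ℓ (pc H hH.1)) := by
  haveI : IsLocallyNoetherian A.left := LocallyOfFiniteType.isLocallyNoetherian A.hom
  haveI : CompactSpace A.left := QuasiCompact.compactSpace_of_compactSpace A.hom
  haveI : IsNoetherian A.left := {}
  have hO := H11Ample.isCoh_of_isInvertible (H11Ample.isInvertible_structureModule (X := A.left))
  have hdO : ∀ n, g < n → topologicalKrullDim (CohB1.support (Coh.structureModule A.left)) < (n : WithBot ℕ∞) := by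
    intro n hn
    rw [H25Euler.support_invertible H11Ample.isInvertible_structureModule,
      (Homeomorph.Set.univ A.left).isHomeomorph.topologicalKrullDim_eq, hg]
    exact_mod_cast hn
  have hne : ∀ (a : ℤ) (b : ℕ), (Φ.map (algebraMap ℚ ℝ)).eval ((a : ℝ) / b) ≠ 0 → Φ.eval ((a : ℚ) / b) ≠ 0 := by
    intro a b h h0
    apply h
    rw [show ((a : ℝ) / b) = algebraMap ℚ ℝ ((a : ℚ) / b) by rw [eq_ratCast]; push_cast; rfl,
      Polynomial.eval_map_algebraMap, Polynomial.aeval_algebraMap_apply_eq_algebraMap_eval, h0, map_zero]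
  have hshift : ∀ (a : ℤ) (b c : ℕ), cl ℓ (pc H hH.1) a b + c • pc H hH.1 = cl ℓ (pc H hH.1) (a + c) b :=
    fun a b c => by rw [cl, cl, add_smul, natCast_zsmul, add_assoc]
  constructor
  · intro x y
    obtain ⟨R, G, hR, hG, hdG, hcut⟩ := exists_hh_cut (k := k) hH hO (hdO (g + 1) g.lt_succ_self)
    obtain ⟨C, hC⟩ := exists_bound hH G hG g hdG ℓ x y g
    refine ⟨R, hR, ((C * 2 ^ g : ℕ) : ℝ), fun a b hb hxa hay h0 h1 hlt => ?_⟩
    have hi := isIndex_jv hg hH hΦ a hb (hne _ _ h0)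
    have hj := isIndex_jv hg hH hΦ (a + R) hb (hne _ _ h1)
    have h := (hcut (cl ℓ (pc H hH.1) a b) (jv ℓ (pc H hH.1) ((a : ℚ) / b))).2.1
    rw [hshift, (chiCls_eq_of_isIndex hj).2 _ hlt.ne', zero_add] at h
    have hf := final_bound (μ := 0) hg hH hΦ hb hi
      (h.trans (hC a b hb hxa hay _ ((Nat.sub_le _ _).trans (hi.le hg).1)))
    rwa [zero_add, pow_one] at hf
  · intro x y μ
    let H₃ := CohB1.tensorPow H 3
    have hH₃ : CohB1.IsAmple H₃ := (H11Ample.isAmple_tensorPow_iff hH.1 3 (by norm_num)).1 hH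
    have e₃ : pc H₃ hH₃.1 = 3 • pc H hH.1 := pc_tensorPow H hH.1 3
    obtain ⟨G, R, hG, hdG, hchain⟩ := exists_chain (k := k) hH₃ (g - μ) (μ + 1) _ hO (hdO _ (by omega))
    obtain ⟨C, hC⟩ := exists_bound hH G hG (g - μ) hdG ℓ x y g
    refine ⟨R + 1, ((C * 2 ^ g : ℕ) : ℝ), fun a b hb hxa hay h0 hr => ?_⟩
    have hi := isIndex_jv hg hH hΦ a hb (hne _ _ h0)
    let i := jv ℓ (pc H hH.1) ((a : ℚ) / b)
    have hμ : μ < i := lt_of_le_of_lt (Nat.le_add_left μ _) (hr 1 le_rfl (Nat.le_add_left 1 R)).2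
    refine final_bound hg hH hΦ hb hi ((hchain _ i (i - μ) (fun r hr1 hr2 q hq => ?_) (by omega)).trans
      (hC a b hb hxa hay _ ((Nat.sub_le _ _).trans (hi.le hg).1)))
    obtain ⟨hr0, hrJ⟩ := hr r hr1 (hr2.trans R.le_succ)
    have hj := isIndex_jv hg hH hΦ (a + 3 * r) hb (hne _ _ hr0)
    rw [e₃, ← mul_nsmul, hshift, Nat.cast_mul, Nat.cast_ofNat]
    exact (chiCls_eq_of_isIndex hj).2 q (by omega)

end line

end Groth.Agent.H25Index
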