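import Groth.Agent.H25Index.Product
import Groth.Agent.H25AbCube.PoincareSub
import Groth.Agent.H25AbCube.SimpleProd
import Groth.Agent.H12Pic.AlgEquivEuler
import Groth.Agent.H11Ample.RelQuasiAffine

/-!
# Degenerate classes have Euler characteristic zero
-/

set_option autoImplicit false
set_option linter.style.haveILetI false
set_option linter.unusedSectionVars false
set_option backward.isDefEq.respectTransparency false
set_option synthInstance.maxHeartbeats 400000
set_option maxHeartbeats 2000000
universe u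

open CategoryTheory CategoryTheory.Limits MonoidalCategory CartesianMonoidalCategory MonObj GrpObj AlgebraicGeometry
  TopologicalSpace Opposite
open Groth.Agent Groth.Agent.H25AbCube Groth.Agent.H25Pic0

noncomputable section

attribute [local instance] H10Coh.enoughInjMod

namespace Groth.Agent.H25Index

variable {k : Type u} [Field k] [IsAlgClosed k] {A : Over (Spec (CommRingCat.of k))} [GrpObj A] [IsProper A.hom]
  [GeometricallyIntegral A.hom]

/-- A degenerate class is primitive along a positive dimensional abelian subvariety. -/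
theorem exists_sub_of_infinite [IsCommMonObj A] (ℓ : PC A.left)
    (h : Set.Infinite {a : 𝟙_ (Over (Spec (CommRingCat.of k))) ⟶ A | transl ℓ a = ℓ}) :
    ∃ (Y : Over (Spec (CommRingCat.of k))) (_ : GrpObj Y) (_ : IsProper Y.hom) (_ : GeometricallyIntegral Y.hom)
      (c : Y ⟶ A), IsMonHom c ∧ IsClosedImmersion c.left ∧ Infinite (pt1 k ⟶ Y) ∧
        th ℓ (fst A Y) (snd A Y ≫ c) = 0 := by
  obtain ⟨Z, gZ, j, hj, hjc, hfun⟩ := exists_orth ℓ (𝟙 A)
  haveI := hj; haveI := hjc
  haveI : IsProper Z.hom := by rw [← Over.w j]; infer_instance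
  obtain ⟨C, gC, hCp, hCg, c, Q, gQ, ρ, hc, hcc, hρ, hQf, hlift⟩ := exists_abelian_part Z
  haveI := hc; haveI := hcc; haveI := hρ; haveI := hQf; haveI := hCp; haveI := hCg
  have hK : ∀ a : 𝟙_ (Over (Spec (CommRingCat.of k))) ⟶ A, transl ℓ a = ℓ → ∃ z, z ≫ j = a := fun a ha => by
    refine (hfun _ a).2 ⟨0, ?_⟩
    have h0 : th ℓ (𝟙 A) (toUnit A ≫ a) = 0 := by
      rw [th, ev_toUnit, show ev ℓ (𝟙 A) = ℓ from pullP_id _, sub_zero]
      exact sub_eq_zero.2 ha
    have := congrArg (fun u => ev u (fst A (𝟙_ (Over (Spec (CommRingCat.of k)))))) h0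
    simp only [ev_th, Category.comp_id] at this
    rw [pairing, Category.comp_id, show (0 : PC (𝟙_ (Over (Spec (CommRingCat.of k)))).left) = 0 from rfl]
    refine Eq.trans ?_ (this.trans ((map_zero _).trans (map_zero _).symm))
    rw [← Category.assoc, Subsingleton.elim (fst A (𝟙_ (Over (Spec (CommRingCat.of k)))) ≫ toUnit A) (snd A _)]
  haveI : Infinite (pt1 k ⟶ C) := by
    by_contra hfin
    haveI : Finite (pt1 k ⟶ C) := not_infinite_iff_finite.1 hfin
    haveI := finite_pt1_hom Q
    let ρ' : (pt1 k ⟶ Z) →* (pt1 k ⟶ Q) := MonoidHom.mk' (fun z => z ≫ ρ) fun a b => MonObj.mul_comp a b ρ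
    haveI : Finite ↥ρ'.ker := by
      refine Finite.of_injective (fun z : ↥ρ'.ker => (hlift _ z.1 z.2).choose) fun a b h => Subtype.ext ?_
      rw [← (hlift _ a.1 a.2).choose_spec, ← (hlift _ b.1 b.2).choose_spec]
      exact congrArg (· ≫ c) h
    haveI : Finite ↥ρ'.range := Finite.of_injective _ Subtype.val_injective
    haveI : Finite (pt1 k ⟶ Z) := Finite.of_subgroup_quotient ρ'.ker
    refine h ((Set.finite_range (fun z : pt1 k ⟶ Z => (show 𝟙_ (Over (Spec (CommRingCat.of k))) ⟶ A from z ≫ j))).subset ?_)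
    intro a ha
    obtain ⟨z, hz⟩ := hK a ha
    exact ⟨z, hz⟩
  refine ⟨C, gC, inferInstance, inferInstance, c ≫ j, inferInstance, by rw [Over.comp_left]; infer_instance,
    inferInstance, ?_⟩
  obtain ⟨M, hM⟩ := (hfun C (c ≫ j)).1 ⟨c, rfl⟩
  have hM0 : M = 0 := by
    have := congrArg (fun u => ev u (lift (1 : C ⟶ A) (𝟙 C))) hM
    simp only [pairing, ev_th, ev_comp, lift_fst_assoc, lift_snd_assoc, lift_snd, Category.id_comp, Category.comp_id,
      MonObj.one_comp, lift_fst] at this
    have hl : th ℓ (1 : C ⟶ A) (c ≫ j) = 0 := by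
      haveI : IsCommMonObj C := isCommMonObj_of_av
      rw [th, _root_.one_mul, ev_one_eq ℓ]
      abel
    rw [show ev (A := C) M (𝟙 C) = M from pullP_id _, hl] at this
    exact this.symm
  rw [hM0, pairing, Category.comp_id] at hM
  exact hM.trans (map_zero _)

section
attribute [local instance 10000] H10Coh.hasSheafifyAb H10Coh.hasWeakSheafifyAb H10Coh.hasExtAb H10Coh.enoughInjAb

theorem subsingleton_Hn_of_isZero {X : TopCat.{u}} {F : CohTop.Ab X} (hF : IsZero F) (n : ℕ) (U : Opens X) :
    Subsingleton (H10Coh.Hn F n U) :=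
  subsingleton_of_forall_eq 0 fun x => by
    rw [← Abelian.Ext.comp_mk₀_id x, hF.eq_of_src (𝟙 _) 0]
    simp

end

/-- The fibre of a product over a rational point. -/
theorem isPullback_slice {Y : Over (Spec (CommRingCat.of k))} (t : 𝟙_ (Over (Spec (CommRingCat.of k))) ⟶ A) :
    IsPullback (lift (𝟙 Y) (toUnit Y ≫ t)).left Y.hom (snd Y A).left t.left := by
  refine IsPullback.of_right ?_ ?_ (IsPullback.of_hasPullback Y.hom A.hom)
  · rw [show (lift (𝟙 Y) (toUnit Y ≫ t)).left ≫ pullback.fst Y.hom A.hom = 𝟙 Y.left from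
      congrArg (fun w : Y ⟶ Y => w.left) (lift_fst (𝟙 Y) (toUnit Y ≫ t))]
    rw [show t.left ≫ A.hom = 𝟙 _ from Over.w t]
    exact IsPullback.id_horiz Y.hom
  · exact (congrArg (fun w : Y ⟶ A => w.left) (lift_snd (𝟙 Y) (toUnit Y ≫ t))).trans rfl

theorem th_additive {u : PC A.left} (hu : Additive' u) {T : Over (Spec (CommRingCat.of k))} (p q : T ⟶ A) :
    th u p q = 0 := by
  rw [th, ev_mul hu]; abel

/-- If a class is primitive along `Y` and its restriction to `Y` is nonzero, it has no cohomology. -/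
theorem subsingleton_HH_of_sub {Y : Over (Spec (CommRingCat.of k))} [GrpObj Y] [IsProper Y.hom]
    [GeometricallyIntegral Y.hom] (c : Y ⟶ A) [IsMonHom c] (M : A.left.Modules) (hM : PicF.IsInvertible M)
    (hprim : th (pc M hM) (fst A Y) (snd A Y ≫ c) = 0) (hne : ev (pc M hM) c ≠ 0) (n : ℕ) :
    Subsingleton (Coh.HH A.left M n) := by
  classical
  haveI : IsCommMonObj A := isCommMonObj_of_av
  letI : Y.left.Over (Spec (CommRingCat.of k)) := ⟨Y.hom⟩
  haveI : IsLocallyNoetherian A.left := LocallyOfFiniteType.isLocallyNoetherian A.hom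
  haveI : JacobsonSpace A.left := LocallyOfFiniteType.jacobsonSpace A.hom
  haveI : IsIntegral Y.left := GeometricallyIntegral.isIntegral_of_subsingleton Y.hom
  let m := pc M hM
  let q := (snd Y A).left
  haveI : IsProper q := MorphismProperty.pullback_snd (P := @IsProper) Y.hom A.hom inferInstance
  haveI : Flat q := MorphismProperty.pullback_snd (P := @Flat) Y.hom A.hom inferInstance
  have hK₀ := H11Ample.isInvertible_pullback q hM
  let K₀ := (Scheme.Modules.pullback q).obj M
  let τ : Y ⊗ A ≅ Y ⊗ A :=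
    { hom := lift (fst Y A) ((fst Y A ≫ c) * snd Y A)
      inv := lift (fst Y A) ((fst Y A ≫ c)⁻¹ * snd Y A)
      hom_inv_id := CartesianMonoidalCategory.hom_ext _ _ (by simp)
        (by rw [Category.assoc, lift_snd, MonObj.comp_mul, GrpObj.comp_inv, lift_snd, lift_fst_assoc, Category.id_comp,
          inv_mul_cancel_left])
      inv_hom_id := CartesianMonoidalCategory.hom_ext _ _ (by simp)
        (by rw [Category.assoc, lift_snd, MonObj.comp_mul, lift_snd, lift_fst_assoc, Category.id_comp,
          mul_inv_cancel_left]) }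
  have hK := H11Ample.isInvertible_pullback τ.hom.left hK₀
  let K := (Scheme.Modules.pullback τ.hom.left).obj K₀
  have hκ : pc K hK = ev (ev m c) (fst Y A) + ev m (snd Y A) := by
    rw [pullP_pc _ K₀ hK₀, pullP_pc _ M hM, pullP_pullP]
    show ev m (τ.hom ≫ snd Y A) = _
    have h := congrArg (fun u => ev u (lift (snd Y A) (fst Y A))) hprim
    simp only [ev_th, lift_fst, lift_snd_assoc] at h
    replace h : th m (snd Y A) (fst Y A ≫ c) = 0 := h.trans (map_zero _)
    rw [th, _root_.mul_comm, sub_sub, sub_eq_zero] at h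
    rw [lift_snd, ev_comp, h, add_comm]
  have hu : Additive' (ev m c) := by
    show ev (ev m c) _ = ev (ev m c) _ + ev (ev m c) _
    rw [ev_comp, ev_comp, ev_comp, MonObj.mul_comp]
    have h := congrArg (fun u => ev u (lift (fst Y Y ≫ c) (snd Y Y))) hprim
    simp only [ev_th, lift_fst, lift_snd_assoc] at h
    replace h : th m (fst Y Y ≫ c) (snd Y Y ≫ c) = 0 := h.trans (map_zero _)
    rwa [th, sub_sub, sub_eq_zero] at h
  have hq : ∀ t, pc _ (H11Ample.isInvertible_pullback (lift (𝟙 Y) (toUnit Y ≫ t)).left hK) = ev m c := fun t => by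
    rw [pullP_pc _ K hK, hκ, map_add]
    show ev (ev _ _) _ + ev (ev _ _) _ = _
    simp only [ev_comp, lift_fst_assoc, Category.id_comp, lift_snd, ev_toUnit, add_zero]
  have hqall : ∀ j, IsZero ((Coh.Rpush q j).obj K) := fun j => by
    refine isZero_of_forall_sections _ fun U => subsingleton_of_forall_eq 0 fun s =>
      H25Par.section_eq_zero (H10Coh.sh ((Coh.Rpush q j).obj K)) (fun y _ => ?_) s
    obtain ⟨z, hz, hzc⟩ := nonempty_inter_closedPoints (Z := closure ({y} : Set A.left))
      ⟨y, subset_closure rfl⟩ isClosed_closure.isLocallyClosed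
    obtain ⟨t, ht⟩ := exists_point z (mem_closedPoints_iff.1 hzc)
    obtain ⟨U, hU, h0⟩ := exists_nhd_isZero q K hK (lift (𝟙 Y) (toUnit Y ≫ t)).left t.left (isPullback_slice t)
      (by rw [hq]; exact hu) (by rw [hq]; exact hne) j
    exact subsingleton_stalk_of_restrict _ U h0 y
      ((specializes_iff_mem_closure.2 hz).mem_open U.isOpen (ht ▸ hU))
  have hKzero : ∀ j, Subsingleton (Coh.HH (Y ⊗ A).left K j) := fun j => by
    letI := H10Coh.hasSheafifyAb
    have hz : ∀ i, IsZero ((Coh.RpushAb q i).obj (Coh.toAb K)) := fun i => by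
      obtain ⟨e⟩ := H10Coh.nonempty_toAb_rpush q K i
      exact IsZero.of_iso ((SheafOfModules.toSheaf A.left.ringCatSheaf).map_isZero (hqall i)) e.symm
    haveI := EdgePush.subsingleton_Hn q.base (Coh.toAb K) j fun i _ => subsingleton_Hn_of_isZero (hz i) _ _
    exact @Equiv.subsingleton _ _ (H10Coh.HHEquiv K j).toEquiv (by assumption)
  haveI : K₀.IsQuasicoherent := (H11Ample.isCoh_of_isInvertible hK₀).1
  have hK₀zero : ∀ j, Subsingleton (Coh.HH (Y ⊗ A).left K₀ j) := fun j =>
    H4TopDual.subsingleton_HH_of_pullback_iso ((Over.forget _).mapIso τ) K₀ j (hKzero j)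
  by_contra hcon
  have hex : ∃ b, Nontrivial (Coh.HH A.left M b) := ⟨n, not_subsingleton_iff_nontrivial.1 hcon⟩
  have hO : Nontrivial (Coh.HH Y.left (Coh.structureModule Y.left) 0) := by
    by_contra hc
    haveI := not_nontrivial_iff_subsingleton.1 hc
    haveI : Nonempty Y.left := ⟨(1 : 𝟙_ (Over (Spec (CommRingCat.of k))) ⟶ Y).left (IsLocalRing.closedPoint k)⟩
    exact not_subsingleton Γ(Y.left, ⊤) (H10Coh.HH0Equiv (Coh.structureModule Y.left)).symm.toEquiv.subsingleton
  have h := nontrivial_product (A := Y) (B := A) _ H11Ample.isInvertible_structureModule M hM 0 (Nat.find hex) hO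
    (fun j hj => absurd hj (Nat.not_lt_zero j)) (Nat.find_spec hex)
    (fun i hi => not_nontrivial_iff_subsingleton.1 (Nat.find_min hex hi))
  haveI := hK₀zero (0 + Nat.find hex)
  refine (not_subsingleton_iff_nontrivial.2 h) (H10Coh.subsingleton_HH_of_iso ?_ _ ‹_›)
  exact ((H10Coh.Tw.rightUnitIso _).symm ≪≫ PicGrp.tensorModIso (Iso.refl _)
    (H11Ample.nonempty_pullback_structureModule_iso (fst Y A).left).some.symm)

/-- Degenerate classes have Euler characteristic zero. -/
theorem euler_eq_zero (L : A.left.Modules) (hL : PicF.IsInvertible L)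
    (h : Set.Infinite {a : 𝟙_ (Over (Spec (CommRingCat.of k))) ⟶ A | transl (pc L hL) a = pc L hL}) :
    @Curv2.euler k _ A.left ⟨A.hom⟩ L = 0 := by
  letI : A.left.Over (Spec (CommRingCat.of k)) := ⟨A.hom⟩
  haveI : IsProper (A.left ↘ Spec (CommRingCat.of k)) := ‹IsProper A.hom›
  haveI : IsCommMonObj A := isCommMonObj_of_av
  obtain ⟨Y, gY, _, _, c, hc, hcc, hinf, hth⟩ := exists_sub_of_infinite (pc L hL) h
  haveI := hc; haveI := hcc; haveI := hinf
  haveI : IsCommMonObj Y := isCommMonObj_of_av
  obtain ⟨H, hH⟩ := H25AbCube.exists_isAmple A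
  let amp := pc H hH.1
  obtain ⟨y, hy⟩ : ∃ y : 𝟙_ (Over (Spec (CommRingCat.of k))) ⟶ Y,
      ev (pc L hL) c + ev (transl amp (y ≫ c) - amp) c ≠ 0 := by
    by_contra hcon
    push Not at hcon
    haveI : CompactSpace Y.left := QuasiCompact.compactSpace_of_compactSpace Y.hom
    have hP : CohB1.IsAmple ((Scheme.Modules.pullback c.left).obj H) :=
      H11Ample.isAmple_pullback_of_isAffineHom c.left hH
    have hall : ∀ y : 𝟙_ (Over (Spec (CommRingCat.of k))) ⟶ Y, transl (pc _ hP.1) y = pc _ hP.1 := fun y => by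
      rw [pullP_pc c.left H hH.1 hP.1]
      refine (transl_pullP c amp y).trans ?_
      have h1 := hcon y
      have h0 := hcon 1
      rw [MonObj.one_comp, transl, MonObj.comp_one, _root_.mul_one, show ev amp (𝟙 A) = amp from pullP_id _, sub_self,
        show ev (0 : PC A.left) c = 0 from map_zero _, add_zero] at h0
      rw [h0, zero_add] at h1
      exact sub_eq_zero.1 ((map_sub _ _ _).symm.trans h1)
    exact Set.infinite_univ (α := pt1 k ⟶ Y) ((finite_fixing _ hP).subset fun y _ => hall y)
  obtain ⟨P, hP, hPc⟩ := exists_rep (transl amp (y ≫ c) - amp)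
  have hPa := algEquivZero_phi amp (y ≫ c) P hP hPc
  have hPadd : Additive' (pc P hP) := by rw [hPc]; exact phi_additive amp _
  have hT := H11Ample.isInvertible_tensor hP hL
  have hpT : pc _ hT = pc P hP + pc L hL := pc_tensor hP hL _
  have hvan : ∀ n, Subsingleton (Coh.HH A.left (CohB1.tensorMod P L) n) := fun n => by
    refine subsingleton_HH_of_sub c _ hT ?_ ?_ n
    · rw [hpT, th, show ∀ a b : PC A.left, ∀ (T : Over (Spec (CommRingCat.of k))) (f : T ⟶ A),
          ev (a + b) f = ev a f + ev b f from fun a b T f => map_add _ a b]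
      have h1 := th_additive hPadd (fst A Y) (snd A Y ≫ c)
      rw [th] at h1 hth
      simp only [show ∀ a b : PC A.left, ∀ (T : Over (Spec (CommRingCat.of k))) (f : T ⟶ A),
          ev (a + b) f = ev a f + ev b f from fun a b T f => map_add _ a b]
      linear_combination (norm := abel) h1 + hth
    · rw [hpT, hPc, ev, map_add, add_comm]
      exact hy
  rw [← H12Pic.AlgEquivEuler.euler_twist_of_algEquiv k hPa (H11Ample.isCoh_of_isInvertible hL)]
  rw [Curv2.euler]
  exact finsum_eq_zero_of_forall_eq_zero fun n => by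
    haveI := hvan n
    rw [Module.finrank_zero_of_subsingleton]
    simp

end Groth.Agent.H25Index
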