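import Groth.Agent.LeadBC.Amplitude
import Groth.Agent.H4LC.CochainAcyclic
import Groth.Agent.S14128

/-!
# Complexes of projective modules with cohomology supported at closed points
-/

set_option autoImplicit false
set_option linter.style.haveILetI false
set_option linter.unusedSectionVars false
set_option backward.isDefEq.respectTransparency false
universe u

open CategoryTheory CategoryTheory.Limits TopologicalSpace
open scoped TensorProduct
open Groth.Agent Groth.Agent.H06FlatCx

noncomputable section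

namespace Groth.Agent.H25Index

theorem isFiniteLength_of_pow_smul_eq_zero {B : Type u} [CommRing B] [IsLocalRing B] [IsNoetherianRing B]
    (X : Type u) [AddCommGroup X] [Module B X] [Module.Finite B X] (n : ℕ)
    (h : ∀ a ∈ IsLocalRing.maximalIdeal B ^ n, ∀ x : X, a • x = 0) : IsFiniteLength B X := by
  refine isFiniteLength_iff_isNoetherian_isArtinian.2 ⟨inferInstance, ?_⟩
  let J := IsLocalRing.maximalIdeal B ^ n
  have hX : Module.IsTorsionBySet B X (J : Set B) := fun x a => h a a.2 x
  letI := hX.module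
  haveI : IsScalarTower B (B ⧸ J) X := hX.isScalarTower
  haveI : Module.Finite (B ⧸ J) X := Module.Finite.of_restrictScalars_finite B _ X
  haveI : IsArtinianRing (B ⧸ J) := by
    refine isArtinianRing_iff_krullDimLE_zero.2 (Ring.krullDimLE_zero_iff.2 fun Q hQ => ?_)
    haveI := hQ
    have hle : J ≤ Q.comap (Ideal.Quotient.mk J) := fun a ha => by
      rw [Ideal.mem_comap, Ideal.Quotient.eq_zero_iff_mem.2 ha]
      exact Q.zero_mem
    haveI : (Q.comap (Ideal.Quotient.mk J)).IsMaximal := by
      rw [← (IsLocalRing.maximalIdeal.isMaximal B).eq_of_le (Ideal.comap_ne_top _ hQ.ne_top)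
        (Ideal.IsPrime.le_of_pow_le (hP := inferInstance) hle)]
      exact IsLocalRing.maximalIdeal.isMaximal B
    rw [← Ideal.map_comap_of_surjective _ Ideal.Quotient.mk_surjective Q]
    exact (Ideal.map_eq_top_or_isMaximal_of_surjective _ Ideal.Quotient.mk_surjective inferInstance).resolve_left
      (by rw [Ideal.map_comap_of_surjective _ Ideal.Quotient.mk_surjective Q]; exact hQ.ne_top)
  haveI : IsArtinian (B ⧸ J) X := isArtinian_of_fg_of_artinian'
  exact isArtinian_of_surjective_algebraMap (R := B ⧸ J) (S := B) Ideal.Quotient.mk_surjective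

variable {A : Type u} [CommRing A] [IsNoetherianRing A]

/-- Cohomology supported at closed points vanishes below the dimension. -/
theorem subTensor_h0_of_lt (L : CochainComplex (ModuleCat.{u} A) ℤ)
    (hL : ∀ i, Module.Finite A (L.X i) ∧ Module.Projective A (L.X i)) (hneg : ∀ i : ℤ, i < 0 → IsZero (L.X i))
    (x : Ideal A) [x.IsMaximal] [IsRegularLocalRing (Localization.AtPrime x)] (g : ℕ)
    (hg : ringKrullDim (Localization.AtPrime x) = g)
    (hsupp : ∀ (p : ℕ) (q : PrimeSpectrum A),
      q ∈ Module.support A (H0 L ((p : ℤ) - 1) p ((p : ℤ) + 1)) → q.asIdeal.IsMaximal)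
    (p : ℕ) (hp : p < g) :
    LeadBC.SubTensor (A := A) (Localization.AtPrime x) (H0 L ((p : ℤ) - 1) p ((p : ℤ) + 1)) := by
  let R := Localization.AtPrime x
  let d' : ∀ i : ℕ, ModuleCat.of R (R ⊗[A] L.X i) ⟶ ModuleCat.of R (R ⊗[A] L.X ((i + 1 : ℕ) : ℤ)) :=
    fun i => ModuleCat.ofHom ((L.d i ((i + 1 : ℕ) : ℤ)).hom.baseChange R)
  let K : CochainComplex (ModuleCat.{u} R) ℕ := CochainComplex.of (fun i => ModuleCat.of R (R ⊗[A] L.X i)) d'
    fun i => ModuleCat.hom_ext (baseChange_comp_zero R (d_comp_d L _ _ _))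
  have hKd : ∀ q : ℕ, (K.d q (q + 1)).hom = (L.d (q : ℤ) ((q : ℤ) + 1)).hom.baseChange R := fun q =>
    congrArg ModuleCat.Hom.hom (CochainComplex.of_d (fun i : ℕ => ModuleCat.of R (R ⊗[A] L.X i)) d' q)
  have hH : ∀ q : ℕ, Nonempty (K.homology q ≃ₗ[R] R ⊗[A] H0 L ((q : ℤ) - 1) q ((q : ℤ) + 1)) := fun q => by
    let i := (ComplexShape.up ℕ).prev q
    let e₁ := (h0Equiv K (show (ComplexShape.up ℕ).prev q = i from rfl) (CochainComplex.next ℕ q)).symm
    have hc := bc_cycles_of_flat (R := A) (g := (L.d (q : ℤ) ((q : ℤ) + 1)).hom) R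
    let e₂ := bcHomEquiv R (d_comp_d L ((q : ℤ) - 1) q ((q : ℤ) + 1)) hc.1 hc.2
    have hran : LinearMap.range (K.d i q).hom = LinearMap.range ((L.d ((q : ℤ) - 1) q).hom.baseChange R) := by
      cases q with
      | zero =>
        haveI := ModuleCat.subsingleton_of_isZero (hneg (((0 : ℕ) : ℤ) - 1) (by omega))
        rw [show K.d i 0 = 0 from K.shape _ _ (by simp),
          show (L.d (((0 : ℕ) : ℤ) - 1) (0 : ℕ)).hom = 0
            from LinearMap.ext fun z => by rw [Subsingleton.elim z 0, map_zero]; rfl]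
        simp
      | succ m =>
        have hi : i = m := CochainComplex.prev_nat_succ m
        rw [hi, show ((m + 1 : ℕ) : ℤ) - 1 = (m : ℤ) by omega, hKd m]
        rfl
    let e₃ : H0 K i q (q + 1) ≃ₗ[R] homQuot (baseChange_comp_zero R (d_comp_d L ((q : ℤ) - 1) q ((q : ℤ) + 1))) :=
      Submodule.Quotient.equiv _ _ (LinearEquiv.ofEq _ _ (congrArg LinearMap.ker (hKd q))) (by
        ext ⟨z, hz⟩
        constructor
        · rintro ⟨⟨w, hw⟩, ⟨v, hv⟩, e⟩
          obtain rfl : w = z := congrArg Subtype.val e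
          obtain ⟨v', hv'⟩ : w ∈ LinearMap.range ((L.d ((q : ℤ) - 1) q).hom.baseChange R) :=
            hran ▸ ⟨v, congrArg Subtype.val hv⟩
          exact ⟨v', Subtype.ext hv'⟩
        · rintro ⟨v, hv⟩
          obtain ⟨v', hv'⟩ : z ∈ LinearMap.range (K.d i q).hom := hran.symm ▸ ⟨v, congrArg Subtype.val hv⟩
          exact ⟨⟨z, congrArg LinearMap.ker (hKd q) ▸ hz⟩, ⟨v', Subtype.ext hv'⟩, rfl⟩)
    exact ⟨(e₁.trans e₃).trans e₂.symm⟩
  have hfree : ∀ i, Module.Free R (K.X i) ∧ Module.Finite R (K.X i) := fun i => by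
    haveI := (hL i).1
    haveI := (hL i).2
    show Module.Free R (R ⊗[A] L.X i) ∧ Module.Finite R (R ⊗[A] L.X i)
    haveI := Module.finitePresentation_of_finite R (R ⊗[A] L.X i)
    exact ⟨Module.free_of_flat_of_isLocalRing, inferInstance⟩
  have hfl : ∀ i, IsFiniteLength R (K.homology i) := fun i => by
    obtain ⟨e⟩ := hH i
    let H := H0 L ((i : ℤ) - 1) i ((i : ℤ) + 1)
    haveI := (hL i).1
    haveI : Module.Finite A H := finite_h0 L _ _ _
    refine e.symm.isFiniteLength ?_
    have hle : IsLocalRing.maximalIdeal R ≤ (Module.annihilator R (R ⊗[A] H)).radical := by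
      rw [Ideal.radical_eq_sInf]
      refine le_sInf fun q ⟨hq, hqp⟩ => ?_
      haveI := hqp
      haveI : (q.comap (algebraMap A R)).IsPrime := Ideal.IsPrime.comap _
      haveI : (Ideal.under A q).IsPrime := ‹(q.comap (algebraMap A R)).IsPrime›
      have hm : (q.comap (algebraMap A R)).IsMaximal := hsupp i ⟨q.comap (algebraMap A R), ‹_›⟩ (by
        rw [Module.support_eq_zeroLocus, PrimeSpectrum.mem_zeroLocus, SetLike.coe_subset_coe]
        refine fun a ha => hq (Module.mem_annihilator.2 fun z => ?_)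
        rw [algebraMap_smul]
        induction z using TensorProduct.induction_on with
        | zero => simp
        | add y y' hy hy' => rw [smul_add, hy, hy', add_zero]
        | tmul r h => rw [← TensorProduct.tmul_smul, Module.mem_annihilator.1 ha h, TensorProduct.tmul_zero])
      have hqx : q.comap (algebraMap A R) ≤ x := by
        refine (Ideal.comap_mono (IsLocalRing.le_maximalIdeal hqp.ne_top)).trans ?_
        exact (IsLocalization.AtPrime.under_maximalIdeal R x).le
      have he : Ideal.under A q = x := hm.eq_of_le (Ideal.IsMaximal.ne_top inferInstance) hqx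
      rw [← IsLocalization.map_under x.primeCompl R q, he, Localization.AtPrime.map_eq_maximalIdeal]
    obtain ⟨n, hn⟩ := Ideal.exists_pow_le_of_le_radical_of_fg hle (IsNoetherian.noetherian _)
    exact isFiniteLength_of_pow_smul_eq_zero _ n fun a ha z => Module.mem_annihilator.1 (hn ha) z
  have hdep : (g : ℕ∞) ≤ LocCoh.idealDepth (IsLocalRing.maximalIdeal R) R := by
    haveI := H4Goren.isGorensteinLocalRing_of_isRegularLocalRing R
    have h := (H4Goren.isCohenMacaulayLocalRing R).supportDim_eq_depth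
    rw [Module.supportDim_self_eq_ringKrullDim, hg] at h
    exact (WithBot.coe_injective h).le
  obtain ⟨e⟩ := hH p
  haveI := ModuleCat.subsingleton_of_isZero (H4LC.isZero_cohomology_of_lt_depth K hfree hfl g hdep p hp)
  exact e.symm.toEquiv.subsingleton

end Groth.Agent.H25Index
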