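import Groth.Agent.H25Index.Main

/-!
# Nonvanishing on products
-/

set_option autoImplicit false
set_option linter.style.haveILetI false
set_option linter.unusedSectionVars false
set_option backward.isDefEq.respectTransparency false
set_option synthInstance.maxHeartbeats 400000
set_option maxHeartbeats 2000000
universe u

open CategoryTheory CategoryTheory.Limits MonoidalCategory CartesianMonoidalCategory MonObj GrpObj AlgebraicGeometry
  TopologicalSpace Opposite
open Groth.Agent Groth.Agent.H25AbCube Groth.Agent.H25Pic0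

noncomputable section

attribute [local instance] H10Coh.enoughInjMod
attribute [local instance 10000] H10Coh.hasSheafifyAb H10Coh.hasWeakSheafifyAb H10Coh.hasExtAb H10Coh.enoughInjAb

namespace Groth.Agent.H25Index

variable {k : Type u} [Field k] {A B : Over (Spec (CommRingCat.of k))} [IsProper A.hom] [IsProper B.hom]

/-- The lowest degrees of two cohomologies give nonzero cohomology on the product. -/
theorem nontrivial_product (L : A.left.Modules) (hL : PicF.IsInvertible L) (N : B.left.Modules)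
    (hN : PicF.IsInvertible N) (a b : ℕ) (ha : Nontrivial (Coh.HH A.left L a))
    (hal : ∀ j < a, Subsingleton (Coh.HH A.left L j)) (hb : Nontrivial (Coh.HH B.left N b))
    (hbl : ∀ i < b, Subsingleton (Coh.HH B.left N i)) :
    Nontrivial (Coh.HH (A ⊗ B).left (CohB1.tensorMod ((Scheme.Modules.pullback (snd A B).left).obj N)
      ((Scheme.Modules.pullback (fst A B).left).obj L)) (a + b)) := by
  let π := A.hom
  let π' := B.hom
  let p := (fst A B).left
  let q := (snd A B).left
  haveI : IsProper q := MorphismProperty.pullback_snd (P := @IsProper) A.hom B.hom inferInstance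
  haveI : IsLocallyNoetherian B.left := LocallyOfFiniteType.isLocallyNoetherian B.hom
  haveI : Flat π' := by
    haveI : IsReduced (Spec (CommRingCat.of k)) := inferInstance
    infer_instance
  have hLc := H11Ample.isCoh_of_isInvertible hL
  haveI : Coh.IsQCoh L := hLc.1
  haveI : L.IsQuasicoherent := hLc.1
  haveI : N.IsQuasicoherent := (H11Ample.isCoh_of_isInvertible hN).1
  have hsq : IsPullback p q π π' := IsPullback.of_hasPullback π π'
  have hqN := H11Ample.isInvertible_pullback q hN
  have hpL := H11Ample.isInvertible_pullback p hL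
  let K' := CohB1.tensorMod ((Scheme.Modules.pullback q).obj N) ((Scheme.Modules.pullback p).obj L)
  -- the rank of the cohomology of `L`
  have hr : ∀ j, ∃ r, Nonempty ((Coh.Rpush π j).obj L ≅ FlatMod.freeMod _ r) := fun j =>
    H26Def.exists_iso_freeMod_of_field k _ (H10Coh.isCoh_rpush π L hLc j)
  choose r hr using hr
  have hrz : ∀ j, (r j = 0 ↔ Subsingleton (Coh.HH A.left L j)) := fun j => by
    obtain ⟨e₀⟩ := hr j
    obtain ⟨e, -⟩ := LeadBC.exists_rpushEquiv π (isAffineOpen_top (Spec (CommRingCat.of k))) L j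
    constructor
    · intro h0
      rw [h0] at e₀
      have hz : IsZero ((Coh.Rpush π j).obj L) := IsZero.of_iso
        ((IsZero.iff_id_eq_zero _).2 (Sigma.hom_ext _ _ fun m => m.elim0)) e₀
      refine H4TopDual.subsingleton_HH_of_restrict_top L j (π ⁻¹ᵁ ⊤) rfl (e.toEquiv.subsingleton_congr.2 ?_)
      have hid : (𝟙 ((Coh.Rpush π j).obj L)) = 0 := hz.eq_of_src _ _
      exact subsingleton_of_forall_eq 0 fun z => by
        have := congr($(congr(Scheme.Modules.Hom.app $hid ⊤)) z)
        simpa using this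
    · intro h0
      by_contra hne
      have h1 : Subsingleton (Coh.HH (π ⁻¹ᵁ ⊤).toScheme (L.restrict (π ⁻¹ᵁ ⊤).ι) j) := by
        have hU : π ⁻¹ᵁ ⊤ = ⊤ := rfl
        rw [hU]
        exact H4TopDual.subsingleton_HH_of_pullback_iso A.left.topIso.symm _ j (H10Coh.subsingleton_HH_of_iso
          ((((Scheme.Modules.pullback A.left.topIso.inv).mapIso
            ((Scheme.Modules.restrictFunctorIsoPullback (⊤ : A.left.Opens).ι).app L)) ≪≫
            (Scheme.Modules.pullbackComp A.left.topIso.inv (⊤ : A.left.Opens).ι).app L ≪≫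
            (Scheme.Modules.pullbackCongr (show A.left.topIso.inv ≫ (⊤ : A.left.Opens).ι = 𝟙 _ from
              A.left.topIso.inv_hom_id)).app L ≪≫ (Scheme.Modules.pullbackId _).app L)).symm j h0)
      have hz := isZero_of_sections _ (e.toEquiv.subsingleton_congr.1 h1)
      have hz' : IsZero (FlatMod.freeMod (Spec (CommRingCat.of k)) (r j)) := IsZero.of_iso hz e₀.symm
      haveI : Nonempty (Spec (CommRingCat.of k)) := ⟨IsLocalRing.closedPoint k⟩
      let c : Fin (r j) → (Spec (CommRingCat.of k)).Modules := fun _ => Coh.structureModule _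
      have hO : IsZero (Coh.structureModule (Spec (CommRingCat.of k))) := by
        rw [IsZero.iff_id_eq_zero, ← biproduct.ι_π_self c ⟨0, Nat.pos_of_ne_zero hne⟩,
          (IsZero.of_iso hz' (biproduct.isoCoproduct c)).eq_of_tgt (biproduct.ι c _) 0, zero_comp]
      have hid : (𝟙 (Coh.structureModule (Spec (CommRingCat.of k)))) = 0 := hO.eq_of_src _ _
      have h10 : (1 : Γ(Spec (CommRingCat.of k), ⊤)) = 0 := by
        have := congr($(congr(Scheme.Modules.Hom.app $hid ⊤)) (1 : Γ(Spec (CommRingCat.of k), ⊤)))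
        exact this
      exact one_ne_zero h10
  -- the higher direct images of the product
  have hrp : ∀ j, Nonempty ((Coh.RpushAb q j).obj (Coh.toAb K') ≅
      H10Coh.sh ((H10Coh.PF.TR N).obj (FlatMod.freeMod B.left (r j)))) := fun j => by
    obtain ⟨eP⟩ := S0033.result π π' p q hsq L j
    obtain ⟨ep⟩ := H10Coh.PF.nonempty_projectionFormula' q ((Scheme.Modules.pullback p).obj L)
      (E := N) (H23Para.isFinLocFree_of_isInvertible hN) j
    obtain ⟨eab⟩ := H10Coh.nonempty_toAb_rpush q K' j
    let i₁ : (Coh.Rpush q j).obj K' ≅ (H10Coh.PF.TR N).obj (FlatMod.freeMod B.left (r j)) :=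
      ep.symm ≪≫ H10Coh.Tw.commIso _ _ ≪≫ (H10Coh.PF.TR N).mapIso (eP.symm ≪≫
        (Scheme.Modules.pullback π').mapIso (hr j).some ≪≫ H16Derived.KFlat.Stalk.freeModPullbackIso π' (r j))
    exact ⟨eab.symm ≪≫ (H10Coh.shF _).mapIso i₁⟩
  have hRzero : ∀ j, r j = 0 → IsZero ((Coh.RpushAb q j).obj (Coh.toAb K')) := fun j h0 => by
    obtain ⟨e⟩ := hrp j
    refine IsZero.of_iso (((H10Coh.PF.TR N ⋙ H10Coh.shF _).map_isZero ?_)) e
    rw [h0]
    exact (IsZero.iff_id_eq_zero _).2 (Sigma.hom_ext _ _ fun m => m.elim0)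
  have hgr : ∀ i j, Subsingleton (Coh.HH B.left N i) →
      Subsingleton (H10Coh.Hn ((CohTop.Rpush q.base j).obj (Coh.toAb K')) i (⊤ : Opens B.left)) := fun i j h => by
    obtain ⟨e⟩ := hrp j
    obtain ⟨e'⟩ := nonempty_Hn_congr e i
    haveI := h
    haveI : Subsingleton (H10Coh.HnM ((H10Coh.PF.TR N).obj (FlatMod.freeMod B.left (r j))) i ⊤) :=
      subsingleton_tensor_free N (r j) i (H10Coh.HHEquiv N i).symm.toEquiv.subsingleton
    haveI : Subsingleton (H10Coh.Hn (H10Coh.sh ((H10Coh.PF.TR N).obj (FlatMod.freeMod B.left (r j)))) i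
      (⊤ : Opens B.left)) := ‹Subsingleton (H10Coh.HnM _ i ⊤)›
    exact @Equiv.subsingleton _ _ e' (by assumption)
  have hgr1 : ∀ i j, r j ≠ 0 → Nontrivial (Coh.HH B.left N i) →
      Nontrivial (H10Coh.Hn ((CohTop.Rpush q.base j).obj (Coh.toAb K')) i (⊤ : Opens B.left)) := fun i j h0 h => by
    obtain ⟨e⟩ := hrp j
    obtain ⟨e'⟩ := nonempty_Hn_congr e i
    haveI := h
    haveI : Nontrivial (H10Coh.HnM ((H10Coh.PF.TR N).obj (FlatMod.freeMod B.left (r j))) i ⊤) :=
      nontrivial_tensor_free N (r j) (Nat.pos_of_ne_zero h0) i (H10Coh.HHEquiv N i).symm.toEquiv.nontrivial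
    haveI : Nontrivial (H10Coh.Hn (H10Coh.sh ((H10Coh.PF.TR N).obj (FlatMod.freeMod B.left (r j)))) i
      (⊤ : Opens B.left)) := ‹Nontrivial (H10Coh.HnM _ i ⊤)›
    exact @Equiv.nontrivial _ _ e' (by assumption)
  have ha' : r a ≠ 0 := fun h => (not_subsingleton_iff_nontrivial.2 ha) ((hrz a).1 h)
  have h := EdgePush.nontrivial_lowest q.base (Coh.toAb K') a b (fun j hj => hRzero j ((hrz j).2 (hal j hj)))
    (hgr1 b a ha' hb) (fun i j _ hi => hgr i j (hbl i hi))
  haveI : Nontrivial (H10Coh.HnM K' (a + b) ⊤) := h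
  exact (H10Coh.HHEquiv K' (a + b)).toEquiv.nontrivial

end Groth.Agent.H25Index
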