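import Groth.Agent.H25Index.IndexIsogeny
import Groth.Agent.H25Index.Product

/-!
# The index of a nondegenerate class
-/

set_option autoImplicit false
set_option linter.style.haveILetI false
set_option linter.unusedSectionVars false
set_option backward.isDefEq.respectTransparency false
set_option synthInstance.maxHeartbeats 400000
set_option maxHeartbeats 1000000
universe u

open CategoryTheory CategoryTheory.Limits MonoidalCategory CartesianMonoidalCategory MonObj GrpObj AlgebraicGeometry
  TopologicalSpace Opposite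
open Groth.Agent Groth.Agent.H25AbCube Groth.Agent.H25Pic0

noncomputable section

namespace Groth.Agent.H25Index

variable {k : Type u} [Field k] [IsAlgClosed k] {A B : Over (Spec (CommRingCat.of k))} [GrpObj A] [IsProper A.hom]
  [GeometricallyIntegral A.hom] [GrpObj B] [IsProper B.hom] [GeometricallyIntegral B.hom]

/-- A class is nondegenerate of index `i`. -/
def IsIndex (w : PC A.left) (i : ℕ) : Prop :=
  FixFinite w ∧ ∀ (M : A.left.Modules) (hM : PicF.IsInvertible M), pc M hM = w →
    (∀ j, j ≠ i → Subsingleton (Coh.HH A.left M j)) ∧ Nontrivial (Coh.HH A.left M i)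

theorem IsIndex.mk' {M : A.left.Modules} {hM : PicF.IsInvertible M} {i : ℕ} (h : FixFinite (pc M hM))
    (h1 : ∀ j, j ≠ i → Subsingleton (Coh.HH A.left M j)) (h2 : Nontrivial (Coh.HH A.left M i)) :
    IsIndex (pc M hM) i := by
  refine ⟨h, fun N hN e => ?_⟩
  obtain ⟨f⟩ := (pc_eq_iff hN hM).1 e
  refine ⟨fun j hj => H10Coh.subsingleton_HH_of_iso f.symm j (h1 j hj), ?_⟩
  exact not_subsingleton_iff_nontrivial.1 fun hs =>
    not_subsingleton_iff_nontrivial.2 h2 (H10Coh.subsingleton_HH_of_iso f i hs)

theorem exists_isIndex {w : PC A.left} (h : FixFinite w) : ∃ i, IsIndex w i := by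
  haveI : IsIntegral A.left := GeometricallyIntegral.isIntegral_of_subsingleton A.hom
  obtain ⟨g, hg⟩ := H25Grp.exists_nat_dim A.hom
  obtain ⟨M, hM, rfl⟩ := exists_rep w
  obtain ⟨i, -, h1, h2, -⟩ := exists_index M hM h g hg
  exact ⟨i, IsIndex.mk' h h1 h2⟩

theorem IsIndex.eq_of_nontrivial {w : PC A.left} {i j : ℕ} (h : IsIndex w i) (M : A.left.Modules)
    (hM : PicF.IsInvertible M) (e : pc M hM = w) (hj : Nontrivial (Coh.HH A.left M j)) : i = j := by
  by_contra hne
  exact not_subsingleton_iff_nontrivial.2 hj ((h.2 M hM e).1 j (Ne.symm hne))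

theorem IsIndex.unique {w : PC A.left} {i j : ℕ} (h : IsIndex w i) (h' : IsIndex w j) : i = j := by
  obtain ⟨M, hM, rfl⟩ := exists_rep w
  exact h.eq_of_nontrivial M hM rfl (h'.2 M hM rfl).2

/-- The index depends only on the class modulo additive classes. -/
theorem IsIndex.congr {v w : PC A.left} {i : ℕ} (h : IsIndex v i) (hw : Additive' (w - v)) : IsIndex w i := by
  haveI : IsCommMonObj A := isCommMonObj_of_av
  obtain ⟨M, hM, rfl⟩ := exists_rep v
  obtain ⟨x, hx⟩ := exists_transl_sub_eq M hM h.1 _ hw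
  have hwx : w = transl (pc M hM) x := by
    rw [sub_left_inj] at hx
    exact hx.symm
  have hfix : FixFinite w := by
    refine h.1.subset fun a ha => ?_
    show transl (pc M hM) a = pc M hM
    have h1 : transl (w - pc M hM) a = w - pc M hM := transl_of_additive hw a
    have h2 : transl (w - pc M hM) a = transl w a - transl (pc M hM) a := map_sub _ _ _
    rw [h2, show transl w a = w from ha, sub_right_inj] at h1
    exact h1
  obtain ⟨j, hj⟩ := exists_isIndex hfix
  obtain ⟨N, hN, hNw⟩ := exists_rep w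
  suffices hji : j = i by rwa [← hji]
  by_contra hne
  haveI := subsingleton_HH_transl M N hM hN x (hNw.trans hwx) j ((h.2 M hM rfl).1 j hne)
  exact not_subsingleton_iff_nontrivial.2 (hj.2 N hN hNw).2 ‹_›

/-- The index along an isogeny. -/
theorem IsIndex.pullback {v : PC B.left} {i : ℕ} (h : IsIndex v i) (f : A ⟶ B) [IsMonHom f] [IsFinite f.left]
    [Flat f.left] [Surjective f.left] : IsIndex (ev v f) i := by
  obtain ⟨M, hM, rfl⟩ := exists_rep v
  obtain ⟨h1, h2, h3⟩ := index_pullback f M hM h.1 i (h.2 M hM rfl).2 (h.2 M hM rfl).1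
  have hp : pc _ (H11Ample.isInvertible_pullback f.left hM) = ev (pc M hM) f := pullP_pc _ M hM _
  rw [← hp]
  exact IsIndex.mk' h1 h2 h3

/-- The index of an external sum. -/
theorem IsIndex.prod {u : PC A.left} {v : PC B.left} {a b : ℕ} (hu : IsIndex u a) (hv : IsIndex v b)
    [GeometricallyIntegral (A ⊗ B).hom] [IsProper (A ⊗ B).hom] :
    IsIndex (ev u (fst A B) + ev v (snd A B)) (a + b) := by
  haveI : IsCommMonObj A := isCommMonObj_of_av
  haveI : IsCommMonObj B := isCommMonObj_of_av
  let w := ev u (fst A B) + ev v (snd A B)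
  have hadd : ∀ (T : Over (Spec (CommRingCat.of k))) (f : T ⟶ A ⊗ B), ev w f = ev u (f ≫ fst A B) + ev v (f ≫ snd A B) :=
    fun T f => by rw [← ev_comp, ← ev_comp]; exact map_add _ _ _
  have hfix : FixFinite w := by
    refine ((hu.1.prod hv.1).preimage (f := fun t : 𝟙_ (Over (Spec (CommRingCat.of k))) ⟶ A ⊗ B =>
      (t ≫ fst A B, t ≫ snd A B)) (fun t _ t' _ e => CartesianMonoidalCategory.hom_ext _ _
        (Prod.ext_iff.1 e).1 (Prod.ext_iff.1 e).2)).subset fun t ht => ⟨?_, ?_⟩
    · have h1 := congrArg (fun z => ev z (lift (𝟙 A) (1 : A ⟶ B))) ht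
      simp only [transl, ev_comp] at h1
      simp only [hadd, MonObj.comp_mul, Category.comp_id, MonObj.mul_comp, lift_fst, lift_snd,
        ← Category.assoc, comp_toUnit, _root_.one_mul, ev_one_eq, add_zero] at h1
      simp only [Category.assoc, ev_toUnit, add_zero] at h1
      exact h1.trans (pullP_id _)
    · have h1 := congrArg (fun z => ev z (lift (1 : B ⟶ A) (𝟙 B))) ht
      simp only [transl, ev_comp] at h1
      simp only [hadd, MonObj.comp_mul, Category.comp_id, MonObj.mul_comp, lift_fst, lift_snd,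
        ← Category.assoc, comp_toUnit, _root_.one_mul, ev_one_eq, zero_add] at h1
      simp only [Category.assoc, ev_toUnit, zero_add] at h1
      exact h1.trans (pullP_id _)
  obtain ⟨j, hj⟩ := exists_isIndex hfix
  obtain ⟨L, hL, rfl⟩ := exists_rep u
  obtain ⟨N, hN, rfl⟩ := exists_rep v
  have hP := H11Ample.isInvertible_pullback (fst A B).left hL
  have hQ := H11Ample.isInvertible_pullback (snd A B).left hN
  have hT := H11Ample.isInvertible_tensor hQ hP
  have hc : pc _ hT = w := by
    rw [pc_tensor hQ hP, pullP_pc _ L hL, pullP_pc _ N hN, add_comm]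
    rfl
  have hne := nontrivial_product (A := A) (B := B) L hL N hN a b (hu.2 L hL rfl).2
    (fun i hi => (hu.2 L hL rfl).1 i hi.ne) (hv.2 N hN rfl).2 (fun i hi => (hv.2 N hN rfl).1 i hi.ne)
  rwa [hj.eq_of_nontrivial _ hT hc hne] at hj

/-- The index of a square multiple. -/
theorem IsIndex.sq {w : PC A.left} {i : ℕ} (h : IsIndex w i) {n : ℕ} (hn : 0 < n) : IsIndex ((n * n) • w) i := by
  haveI : IsCommMonObj A := isCommMonObj_of_av
  let φ : A ⟶ A := (𝟙 A) ^ n
  haveI := isMonHom_pow (A := A) n
  haveI : IsFinite φ.left := isFinite_pow hn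
  haveI : Flat φ.left := flat_pow hn
  haveI : Surjective φ.left := surjective_pow hn
  obtain ⟨x, hx⟩ := exists_transl_pow h.1 hn
  have hp := h.pullback φ
  refine hp.congr ?_
  rw [show ev w φ = _ from hx]
  have h1 : Additive' (transl ((n * n) • w) x - (n * n) • w) := phi_additive _ x
  have h2 : (n * n) • w - transl ((n * n) • w) x = - (transl ((n * n) • w) x - (n * n) • w) := (neg_sub _ _).symm
  rw [h2]
  exact (map_neg _ _).trans ((congrArg Neg.neg h1).trans ((neg_add _ _).trans
    (congrArg₂ (· + ·) (map_neg _ _).symm (map_neg _ _).symm)))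

end Groth.Agent.H25Index
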