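import Groth.Agent.H25Index.Growth
import Groth.Agent.H22Alg.SectionCut
import Groth.Agent.H17.PrimaryDecomp
import Groth.Agent.H25AbCube.Degree

/-!
# Cutting by sections of powers of an ample module, and cohomology of twists by classes
-/

set_option autoImplicit false
set_option linter.style.haveILetI false
set_option linter.unusedSectionVars false
set_option backward.isDefEq.respectTransparency false
set_option maxHeartbeats 1000000
universe u

open CategoryTheory CategoryTheory.Limits MonoidalCategory AlgebraicGeometry TopologicalSpace Opposite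
open Groth.Agent Groth.Agent.H25AbCube

noncomputable section

namespace Groth.Agent.H25Index

section cut

variable {X : Scheme.{u}} [IsNoetherian X]

/-- A coherent module is cut by a section of a power of an ample module which misses its associated points. -/
theorem exists_cut {H : X.Modules} (hH : CohB1.IsAmple H) {G : X.Modules} (hG : Coh.IsCoh G) {d : ℕ}
    (hd : topologicalKrullDim (CohB1.support G) < ((d + 1 : ℕ) : WithBot ℕ∞)) :
    ∃ (b : ℕ) (S : ShortComplex X.Modules), 0 < b ∧ S.ShortExact ∧ S.X₁ = G ∧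
      S.X₂ = CohB1.tensorMod G (CohB1.tensorPow H b) ∧ Coh.IsCoh S.X₃ ∧
      topologicalKrullDim (CohB1.support S.X₃) < (d : WithBot ℕ∞) := by
  haveI : CompactSpace X := hH.2.1
  obtain ⟨b, σ, hb, hσ, -, -⟩ := H11Ample.exists_affine_gen_nhd_finite hH (H17.PrimaryDecomp.finite_ass hG)
    (U := ⊤) (fun _ _ => trivial)
  let s : Coh.structureModule X ⟶ CohB1.tensorPow H b := H11Tilde.homOfGlobal (CohB1.tensorPow H b) σ
  have hs : AssSch.Ass G ⊆ (CohB1.genLocus (CohB1.tensorPow H b) s : Set X) := hσ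
  let φ := H22Alg.SectionCut.mul s G
  haveI : Mono φ := H22Alg.SectionCut.mono_mulHom s hG.1 hs
  have hGb : Coh.IsCoh (CohB1.tensorMod G (CohB1.tensorPow H b)) :=
    H11Ample.isCoh_tensor hG (H11Ample.isInvertible_tensorPow hH.1 b)
  have hC : Coh.IsCoh (cokernel φ) := H10Coh.isCoh_cokernel φ hG.1 hGb
  refine ⟨b, ShortComplex.mk φ (cokernel.π φ) (cokernel.condition φ), hb,
    { exact := ShortComplex.exact_cokernel φ }, rfl, rfl, hC, ?_⟩
  show topologicalKrullDim (CohB1.support (cokernel φ)) < _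
  let Y : Set X := CohB1.support G
  have hYc : IsClosed Y := H10Coh.isClosed_support G hG.2
  haveI : QuasiSober Y := hYc.isClosedEmbedding_subtypeVal.quasiSober
  have hsub : CohB1.support (cokernel φ) ⊆ Y := (LeadDev.support_subset_of_epi (cokernel.π φ)).trans
    (H25Euler.support_tensor_subset G _)
  have h := H25Euler.dim_lt_of_forall_ne (Y := Y) (Subtype.val ⁻¹' CohB1.support (cokernel φ))
    ((H10Coh.isClosed_support _ hC.2).preimage continuous_subtype_val) (fun y _ => by
      obtain ⟨z, hz, hzy⟩ := H17.AssPts.exists_ass_specializes G hG.1 (not_subsingleton_iff_nontrivial.1 y.2)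
      exact ⟨⟨z, not_subsingleton_iff_nontrivial.2 (H17.AssPts.nontrivial_stalk_of_ass G hz)⟩,
        Topology.IsInducing.subtypeVal.specializes_iff.1 hzy,
        (H25Euler.notMem_support_kernel_cokernel φ (H22Alg.SectionCut.isIso_stalk_mul s G (hs hz))).2⟩) hd
  let e : CohB1.support (cokernel φ) ≃ₜ (Subtype.val ⁻¹' CohB1.support (cokernel φ) : Set Y) :=
    { toFun := fun x => ⟨⟨x.1, hsub x.2⟩, x.2⟩
      invFun := fun x => ⟨x.1.1, x.2⟩
      left_inv := fun _ => rfl
      right_inv := fun _ => rfl }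
  rwa [e.isHomeomorph.topologicalKrullDim_eq]

end cut

variable {k : Type u} [Field k] {X : Scheme.{u}} [X.Over (Spec (CommRingCat.of k))]

/-- The chosen representative of a class. -/
def rep (w : PC X) : X.Modules := (exists_rep w).choose

theorem isInvertible_rep (w : PC X) : PicF.IsInvertible (rep w) := (exists_rep w).choose_spec.choose

theorem pc_rep (w : PC X) : pc (rep w) (isInvertible_rep w) = w := (exists_rep w).choose_spec.choose_spec

/-- The dimension of the cohomology of a twist by a class. -/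
def hh (k : Type u) [Field k] [X.Over (Spec (CommRingCat.of k))] (G : X.Modules) (w : PC X) (j : ℕ) : ℕ :=
  hd k ((TR (rep w)).obj G) j

variable [IsProper (X ↘ Spec (CommRingCat.of k))]

theorem hh_eq (G : X.Modules) (w : PC X) (M : X.Modules) (hM : PicF.IsInvertible M) (e : pc M hM = w) (j : ℕ) :
    hh k G w j = hd k ((TR M).obj G) j := by
  obtain ⟨f⟩ := (pc_eq_iff (isInvertible_rep w) hM).1 ((pc_rep w).trans e.symm)
  exact hd_congr (((DCoh.tensorBi (X := X)).flip.mapIso f).app G) j

/-- Twisting a module first by a module and then by a class. -/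
theorem hh_tensor (G P : X.Modules) (hP : PicF.IsInvertible P) (w : PC X) (j : ℕ) :
    hh k (CohB1.tensorMod G P) w j = hh k G (pc P hP + w) j := by
  have hT := H11Ample.isInvertible_tensor hP (isInvertible_rep w)
  rw [hh_eq G _ _ hT ((pc_tensor hP (isInvertible_rep w) hT).trans (by rw [pc_rep]))]
  exact hd_congr (eqToIso (H25Euler.tensorBi_flip_obj _ _) ≪≫ H10Coh.Tw.assoc G P (rep w) ≪≫
    eqToIso (H25Euler.tensorBi_flip_obj _ _).symm) j

theorem hh_structureModule (w : PC X) (M : X.Modules) (hM : PicF.IsInvertible M) (e : pc M hM = w) (j : ℕ) :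
    hh k (Coh.structureModule X) w j = hd k M j := by
  rw [hh_eq _ w M hM e]
  exact hd_congr (eqToIso (H25Euler.tensorBi_flip_obj _ _) ≪≫ H10Coh.Tw.leftUnitIso M) j

/-- The inequalities of a short exact sequence twisted by a class. -/
theorem hh_shortExact {S : ShortComplex X.Modules} (hS : S.ShortExact)
    (h₁ : Coh.IsCoh S.X₁) (h₂ : Coh.IsCoh S.X₂) (h₃ : Coh.IsCoh S.X₃) (w : PC X) (j : ℕ) :
    hh k S.X₂ w j ≤ hh k S.X₁ w j + hh k S.X₃ w j ∧ hh k S.X₁ w j ≤ hh k S.X₂ w j + hh k S.X₃ w (j - 1) ∧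
      hh k S.X₃ w j ≤ hh k S.X₂ w j + hh k S.X₁ w (j + 1) := by
  let T := TR (rep w)
  have hP := isInvertible_rep w
  have hS' : (S.map T).ShortExact := H16Derived.KFlat.Stalk.isFlatObj_of_isFlat
    (H16Derived.KFlat.Stalk.isFlat_of_isFinLocFree (finLocFree_of_invertible hP)) _ hS
  have a1 : Coh.IsCoh (S.map T).X₁ := by
    rw [ShortComplex.map_X₁]; exact H10Coh.TT.isCoh_tensorMod h₁ (H11Ample.isCoh_of_isInvertible hP)
  have a2 : Coh.IsCoh (S.map T).X₂ := by
    rw [ShortComplex.map_X₂]; exact H10Coh.TT.isCoh_tensorMod h₂ (H11Ample.isCoh_of_isInvertible hP)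
  have a3 : Coh.IsCoh (S.map T).X₃ := by
    rw [ShortComplex.map_X₃]; exact H10Coh.TT.isCoh_tensorMod h₃ (H11Ample.isCoh_of_isInvertible hP)
  have h := hd_shortExact (k := k) hS' a1 a2 a3 j
  rw [ShortComplex.map_X₁, ShortComplex.map_X₂, ShortComplex.map_X₃] at h
  exact h

/-- The inequalities of a cut: the twist of `G'` lies between twists of `G` which differ by `b` times the class. -/
theorem exists_hh_cut [IsNoetherian X] {H : X.Modules} (hH : CohB1.IsAmple H) {G : X.Modules} (hG : Coh.IsCoh G)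
    {d : ℕ} (hd : topologicalKrullDim (CohB1.support G) < ((d + 1 : ℕ) : WithBot ℕ∞)) :
    ∃ (b : ℕ) (G' : X.Modules), 0 < b ∧ Coh.IsCoh G' ∧ topologicalKrullDim (CohB1.support G') < (d : WithBot ℕ∞) ∧
      ∀ w j, hh k G (w + b • pc H hH.1) j ≤ hh k G w j + hh k G' w j ∧
        hh k G w j ≤ hh k G (w + b • pc H hH.1) j + hh k G' w (j - 1) ∧
        hh k G' w j ≤ hh k G (w + b • pc H hH.1) j + hh k G w (j + 1) := by
  obtain ⟨b, S, hb, hS, e₁, e₂, h₃, hdim⟩ := exists_cut hH hG hd
  refine ⟨b, S.X₃, hb, h₃, hdim, fun w j => ?_⟩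
  have hPb := H11Ample.isInvertible_tensorPow hH.1 b
  have h₁ : Coh.IsCoh S.X₁ := e₁.symm ▸ hG
  have h₂ : Coh.IsCoh S.X₂ := e₂.symm ▸ H11Ample.isCoh_tensor hG hPb
  have h := hh_shortExact (k := k) hS h₁ h₂ h₃ w j
  rw [e₁, e₂, hh_tensor G _ hPb] at h
  rw [show w + b • pc H hH.1 = pc (CohB1.tensorPow H b) hPb + w by
    rw [(exists_pc_tensorPow hH.1 b).choose_spec, add_comm]]
  exact h

end Groth.Agent.H25Index
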