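import Groth.Agent.H25Index.Mult
import Groth.Agent.H25Index.Degenerate
import Groth.Agent.H25AbCube.PoincareSplit
import Groth.Agent.H8Props.AmpleBatch
import Groth.Agent.H25Euler.Saturate

/-!
# The dimension of the subgroup fixing a class is the multiplicity of the root at zero
-/

set_option autoImplicit false
set_option linter.style.haveILetI false
set_option linter.unusedSectionVars false
set_option backward.isDefEq.respectTransparency false
set_option synthInstance.maxHeartbeats 400000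
set_option maxHeartbeats 2000000
universe u

open CategoryTheory CategoryTheory.Limits MonoidalCategory CartesianMonoidalCategory MonObj AlgebraicGeometry
  TopologicalSpace Opposite
open Groth.Agent Groth.Agent.H25AbCube Groth.Agent.H25Pic0 Groth.Agent.H25AbCube.GeomTate
open Topology (IsClosedEmbedding)

noncomputable section

attribute [local instance] overOf

namespace Groth.Agent.H25Index

/-- A space covered by finitely many closed sets of dimension at most `m`. -/
theorem dim_le_of_cover {X : Type*} [TopologicalSpace X] [QuasiSober X] [T0Space X] {J : Type*} (F : J → Set X)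
    (s : Finset J) (hF : ∀ i, IsClosed (F i)) {m : ℕ} (hd : ∀ i, topologicalKrullDim (F i) ≤ (m : WithBot ℕ∞))
    (hcov : ∀ x, ∃ i ∈ s, x ∈ F i) : topologicalKrullDim X ≤ (m : WithBot ℕ∞) := by
  classical
  have key : ∀ t : Finset J, topologicalKrullDim (⋃ i ∈ t, F i : Set X) < ((m + 1 : ℕ) : WithBot ℕ∞) := by
    intro t
    induction t using Finset.induction_on with
    | empty =>
      haveI : IsEmpty (⋃ i ∈ (∅ : Finset J), F i : Set X) := by simp
      haveI : IsEmpty (IrreducibleCloseds (⋃ i ∈ (∅ : Finset J), F i : Set X)) :=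
        ⟨fun Z => (isEmptyElim (Z.isIrreducible'.nonempty.some : (⋃ i ∈ (∅ : Finset J), F i : Set X)))⟩
      rw [topologicalKrullDim, Order.krullDim_eq_bot]
      exact WithBot.bot_lt_coe _
    | insert a t ha ih =>
      rw [Finset.set_biUnion_insert]
      exact H25Euler.dim_union_lt (hF a) (isClosed_biUnion_finset fun i _ => hF i)
        ((hd a).trans_lt (by exact_mod_cast Nat.lt_succ_self m)) ih
  have hu : (⋃ i ∈ s, F i : Set X) = Set.univ := Set.eq_univ_of_forall fun x => by
    obtain ⟨i, hi, hx⟩ := hcov x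
    exact Set.mem_biUnion hi hx
  have h := key s
  rw [hu, (Homeomorph.Set.univ X).isHomeomorph.topologicalKrullDim_eq] at h
  rcases hX : topologicalKrullDim X with _ | d
  · exact bot_le
  · rw [hX] at h
    induction d using ENat.recTopCoe with
    | top => exact absurd h (not_lt.2 (WithBot.coe_le_coe.2 le_top))
    | coe d =>
      change ((d : ℕ) : WithBot ℕ∞) < _ at h
      show ((d : ℕ) : WithBot ℕ∞) ≤ _
      norm_cast at h ⊢
      omega

variable {k : Type u} [Field k] [IsAlgClosed k] {A : Over (Spec (CommRingCat.of k))} [GrpObj A]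
  [IsProper A.hom] [GeometricallyIntegral A.hom]

theorem additive_nsmul {u : PC A.left} (hu : Additive' u) (n : ℕ) : Additive' (n • u) := by
  show ev (n • u) _ = ev (n • u) _ + ev (n • u) _
  simp only [ev, map_nsmul, ← nsmul_add]
  exact congrArg (n • ·) hu

/-- Points of the source lie over the points of a target of a surjection. -/
theorem exists_point_lift {B : Over (Spec (CommRingCat.of k))} [GrpObj B] [IsProper B.hom]
    [GeometricallyIntegral B.hom] (f : A ⟶ B) [Surjective f.left] (y : 𝟙_ (Over (Spec (CommRingCat.of k))) ⟶ B) :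
    ∃ x : 𝟙_ (Over (Spec (CommRingCat.of k))) ⟶ A, x ≫ f = y := by
  haveI : JacobsonSpace A.left := LocallyOfFiniteType.jacobsonSpace A.hom
  haveI : JacobsonSpace B.left := LocallyOfFiniteType.jacobsonSpace B.hom
  let z := y.left (IsLocalRing.closedPoint k)
  have hz : IsClosed ({z} : Set B.left) :=
    ((pointEquivClosedPoint B.hom) ⟨y.left, Over.w y⟩).2
  obtain ⟨a, ha, hac⟩ := nonempty_inter_closedPoints (Z := f.left ⁻¹' {z})
    (f.left.surjective z |>.imp fun _ h => h) (hz.preimage f.left.continuous).isLocallyClosed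
  obtain ⟨x, hx⟩ := exists_point a (mem_closedPoints_iff.1 hac)
  refine ⟨x, Over.OverMorphism.ext (ext_of_apply_closedPoint_eq B.hom (Over.w _) (Over.w y) ?_)⟩
  refine (congrArg f.left hx).trans ha

/-- The subgroup fixing a class has the dimension of the root at zero. -/
theorem dim_fixing (ℓ : PC A.left) {K : Over (Spec (CommRingCat.of k))} [GrpObj K] (i : K ⟶ A) [IsMonHom i]
    [IsClosedImmersion i.left]
    (hK : ∀ (T : Over (Spec (CommRingCat.of k))) (a : T ⟶ A), (∃ z : T ⟶ K, z ≫ i = a) ↔ ev (theta ℓ) (A ◁ a) = 0)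
    {H : A.left.Modules} (hH : CohB1.IsAmple H) {Φ : Polynomial ℚ}
    (hΦ : ∀ t : ℤ, (chiCls k (ℓ + t • pc H hH.1) : ℚ) = Φ.eval (t : ℚ)) :
    topologicalKrullDim K.left = ((Φ.rootMultiplicity 0 : ℕ) : WithBot ℕ∞) := by
  classical
  haveI : IsCommMonObj A := isCommMonObj_of_av
  haveI : IsProper K.hom := by rw [← Over.w i]; infer_instance
  haveI : Mono i := Over.mono_of_mono_left i
  obtain ⟨Y, gY, _, _, c, Q, gQ, ρ, hc, hcc, hρ, hQf, hlift⟩ := exists_abelian_part K
  haveI := hc; haveI := hcc; haveI := hρ; haveI := hQf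
  let e : Y ⟶ A := c ≫ i
  haveI : IsClosedImmersion e.left := by
    show IsClosedImmersion (c.left ≫ i.left)
    infer_instance
  haveI : IsMonHom e := inferInstanceAs (IsMonHom (c ≫ i))
  haveI : IsFinite e.left := inferInstance
  have hth : ∀ {T : Over (Spec (CommRingCat.of k))} (p : T ⟶ A) (y : T ⟶ Y), th ℓ p (y ≫ e) = 0 := by
    intro T p y
    have h := (hK T (y ≫ e)).1 ⟨y ≫ c, Category.assoc _ _ _⟩
    have h' := congrArg (fun z => ev z (lift p (𝟙 T))) h
    rw [ev_comp, show lift p (𝟙 T) ≫ (A ◁ (y ≫ e)) = lift p (y ≫ e) by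
      apply CartesianMonoidalCategory.hom_ext <;> simp, th_eq] at h'
    exact h'.trans (map_zero _)
  obtain ⟨C, gC, j, hCp, hCg, hj, hjc, hsurj, hfin⟩ := exists_complement A Y e
  haveI := hCp; haveI := hCg; haveI := hj; haveI := hjc
  haveI : IsCommMonObj Y := isCommMonObj_of_av
  haveI : IsCommMonObj C := isCommMonObj_of_av
  let s : Y ⊗ C ⟶ A := (fst Y C ≫ e) * (snd Y C ≫ j)
  haveI : Surjective s.left := hsurj
  haveI : IsFinite s.left := hfin
  haveI : IsMonHom s := by
    rw [show s = lift (fst Y C ≫ e) (snd Y C ≫ j) ≫ μ[A] from rfl]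
    infer_instance
  haveI : IsProper (Y ⊗ C).hom := by
    show IsProper (pullback.fst Y.hom C.hom ≫ Y.hom)
    infer_instance
  haveI : GeometricallyIntegral (Y ⊗ C).hom := H25Rig.geometricallyIntegral_tensor Y C
  haveI : IsIntegral A.left := GeometricallyIntegral.isIntegral_of_subsingleton A.hom
  haveI : IsIntegral Y.left := GeometricallyIntegral.isIntegral_of_subsingleton Y.hom
  haveI : IsIntegral C.left := GeometricallyIntegral.isIntegral_of_subsingleton C.hom
  haveI : IsIntegral (Y ⊗ C).left := GeometricallyIntegral.isIntegral_of_subsingleton (Y ⊗ C).hom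
  obtain ⟨g, hg⟩ := H25Grp.exists_nat_dim A.hom
  obtain ⟨m, hm⟩ := H25Grp.exists_nat_dim Y.hom
  obtain ⟨r, hr⟩ := H25Grp.exists_nat_dim C.hom
  have hmr := dim_tensor hm hr
  have hgD : topologicalKrullDim (Y ⊗ C).left = g := by
    refine le_antisymm ((H17.topologicalKrullDim_le_of_noSpecializationsInFibres s.left s.left.continuous
      fun a b h e => H05EGA4.eq_of_specializes_of_fibre s.left h e).trans hg.le) ?_
    rw [← hg]
    exact H17.topologicalKrullDim_le_of_specializingMap s.left s.left.isClosedMap.specializingMap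
      s.left.surjective
  haveI : Flat s.left := flat_of_finite s hgD hg
  -- the pullback is an external sum
  let uY := ev ℓ e
  let uC := ev ℓ j
  have hsplit : ev ℓ s = ev uY (fst Y C) + ev uC (snd Y C) := by
    have h := hth (snd Y C ≫ j) (fst Y C)
    rw [th_comm, th, sub_sub, sub_eq_zero] at h
    rw [ev_comp, ev_comp]
    exact h
  have huY : Additive' uY := by
    show ev uY _ = ev uY _ + ev uY _
    rw [ev_comp, ev_comp, ev_comp, MonObj.mul_comp]
    have h := hth (fst Y Y ≫ e) (snd Y Y)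
    rwa [th, sub_sub, sub_eq_zero] at h
  -- points
  haveI : Finite (𝟙_ (Over (Spec (CommRingCat.of k))) ⟶ Q) := finite_pt1_hom Q
  have hker : ∀ x₁ x₂ : 𝟙_ (Over (Spec (CommRingCat.of k))) ⟶ Y ⊗ C, x₁ ≫ s = x₂ ≫ s →
      (x₂⁻¹ * x₁) ≫ s = 1 := fun x₁ x₂ h => by rw [MonObj.mul_comp, GrpObj.inv_comp, h, inv_mul_cancel]
  haveI : IsAffineHom s.left := inferInstance
  have hsH : CohB1.IsAmple ((Scheme.Modules.pullback s.left).obj H) := H11Ample.isAmple_pullback_of_isAffineHom s.left hH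
  have epc : pc _ hsH.1 = ev (pc H hH.1) s := pullP_pc _ H hH.1 _
  have hkerfin : {x : 𝟙_ (Over (Spec (CommRingCat.of k))) ⟶ Y ⊗ C | x ≫ s = 1}.Finite :=
    (finite_fixing _ hsH).subset fun x (hx : x ≫ s = 1) => by
      show transl (pc _ hsH.1) x = pc _ hsH.1
      rw [epc, transl_pullP, hx, transl, MonObj.comp_one, _root_.mul_one,
        show ev (pc H hH.1) (𝟙 A) = pc H hH.1 from pullP_id _]
  have hptK : ∀ a : 𝟙_ (Over (Spec (CommRingCat.of k))) ⟶ A, transl ℓ a = ℓ → ∃ z, z ≫ i = a := fun a ha => by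
    refine (hK _ a).2 ?_
    have h0 : th ℓ (𝟙 A) (toUnit A ≫ a) = 0 := by
      rw [th, ev_toUnit, show ev ℓ (𝟙 A) = ℓ from pullP_id _, sub_zero]
      exact sub_eq_zero.2 ha
    have h1 := congrArg (fun u => ev u (fst A (𝟙_ (Over (Spec (CommRingCat.of k)))))) h0
    simp only [ev_th, Category.comp_id] at h1
    rw [← Category.assoc, Subsingleton.elim (fst A (𝟙_ (Over (Spec (CommRingCat.of k)))) ≫ toUnit A) (snd A _)] at h1
    rw [show A ◁ a = lift (fst A _) (snd A _ ≫ a) by apply CartesianMonoidalCategory.hom_ext <;> simp, th_eq]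
    exact h1.trans (map_zero _)
  let S₀ : Set (𝟙_ (Over (Spec (CommRingCat.of k))) ⟶ C) := {x | ∃ z, z ≫ i = x ≫ j}
  have hS₀ : S₀.Finite := by
    have hfib : ∀ q : 𝟙_ (Over (Spec (CommRingCat.of k))) ⟶ Q, {x | ∃ z, z ≫ i = x ≫ j ∧ z ≫ ρ = q}.Finite := by
      intro q
      rcases Set.eq_empty_or_nonempty {x | ∃ z, z ≫ i = x ≫ j ∧ z ≫ ρ = q} with h | ⟨x₀, z₀, hz₀, hq₀⟩
      · rw [h]; exact Set.finite_empty
      refine (hkerfin.image fun w => x₀ * (w ≫ snd Y C)).subset ?_
      rintro x ⟨z, hz, hq⟩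
      obtain ⟨y, hy⟩ := hlift _ (z₀⁻¹ * z) (by rw [MonObj.mul_comp, GrpObj.inv_comp, hq, hq₀, inv_mul_cancel])
      refine ⟨lift y⁻¹ (x₀⁻¹ * x), ?_, ?_⟩
      · show lift y⁻¹ (x₀⁻¹ * x) ≫ s = 1
        rw [MonObj.comp_mul, lift_fst_assoc, lift_snd_assoc, GrpObj.inv_comp,
          show y ≫ e = (z₀⁻¹ * z) ≫ i by rw [← hy, Category.assoc], MonObj.mul_comp, MonObj.mul_comp,
          GrpObj.inv_comp, GrpObj.inv_comp, hz, hz₀, inv_mul_cancel]
      · show x₀ * (lift y⁻¹ (x₀⁻¹ * x) ≫ snd Y C) = x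
        rw [lift_snd, mul_inv_cancel_left]
    refine (Set.finite_iUnion hfib).subset ?_
    rintro x ⟨z, hz⟩
    exact Set.mem_iUnion.2 ⟨z ≫ ρ, z, hz, rfl⟩
  have huC : FixFinite uC := by
    let V : Set (PC A.left) := {v | Additive' v ∧ ev v s = 0}
    have hV : V.Finite := by
      refine ((finite_fixing _ hsH).image fun w => transl (pc H hH.1) (w ≫ s) - pc H hH.1).subset ?_
      rintro v ⟨hv, hv0⟩
      obtain ⟨y, hy⟩ := exists_of_ample H hH v hv
      obtain ⟨w, hw⟩ := exists_point_lift s y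
      refine ⟨w, ?_, by show transl _ (w ≫ s) - _ = v; rw [hw, hy]⟩
      show transl (pc _ hsH.1) w = pc _ hsH.1
      rw [epc, transl_pullP, hw, ← sub_eq_zero, ← hv0, ← hy]
      exact (map_sub _ _ _).symm
    let S : Set (𝟙_ (Over (Spec (CommRingCat.of k))) ⟶ C) := {x | transl uC x = uC}
    have hvS : ∀ x ∈ S, transl ℓ (x ≫ j) - ℓ ∈ V := fun x hx => by
      refine ⟨phi_additive ℓ _, ?_⟩
      have e1 : lift (1 : 𝟙_ (Over (Spec (CommRingCat.of k))) ⟶ Y) x ≫ s = x ≫ j := by
        rw [MonObj.comp_mul, lift_fst_assoc, lift_snd_assoc, MonObj.one_comp, _root_.one_mul]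
      have e2 : transl (ev ℓ s) (lift 1 x) = ev ℓ s := by
        rw [hsplit]
        show transl (ev uY (fst Y C) + ev uC (snd Y C)) _ = _
        rw [transl, show ∀ (a b : PC (Y ⊗ C).left) (f : Y ⊗ C ⟶ Y ⊗ C), ev (a + b) f = ev a f + ev b f from
          fun a b f => map_add _ a b]
        show transl (ev uY (fst Y C)) _ + transl (ev uC (snd Y C)) _ = _
        rw [transl_pullP (A := Y ⊗ C) (fst Y C) uY, transl_pullP (A := Y ⊗ C) (snd Y C) uC, lift_fst, lift_snd,
          transl_of_additive huY, show transl uC x = uC from hx]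
      rw [transl_pullP, e1] at e2
      show ev (transl ℓ (x ≫ j) - ℓ) s = 0
      rw [ev, map_sub]
      exact sub_eq_zero.2 e2
    have hfib : ∀ v ∈ V, {x ∈ S | transl ℓ (x ≫ j) - ℓ = v}.Finite := by
      intro v _
      rcases Set.eq_empty_or_nonempty {x ∈ S | transl ℓ (x ≫ j) - ℓ = v} with h | ⟨x₀, -, hv₀⟩
      · rw [h]; exact Set.finite_empty
      refine (hS₀.image fun w => x₀ * w).subset ?_
      rintro x ⟨-, hv⟩
      refine ⟨x₀⁻¹ * x, hptK _ ?_, mul_inv_cancel_left _ _⟩
      have h1 := phi_mul ℓ (x₀ ≫ j) ((x₀⁻¹ * x) ≫ j)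
      rw [← MonObj.mul_comp, mul_inv_cancel_left, hv, hv₀, left_eq_add] at h1
      exact sub_eq_zero.1 h1
    exact (hV.biUnion hfib).subset fun x hx => Set.mem_biUnion (hvS x hx) ⟨hx, rfl⟩
  -- the dimension of the subgroup
  have hdimK : topologicalKrullDim K.left = (m : WithBot ℕ∞) := by
    refine le_antisymm ?_ (hm ▸ c.left.isClosedEmbedding.isInducing.topologicalKrullDim_le)
    haveI : JacobsonSpace K.left := LocallyOfFiniteType.jacobsonSpace K.hom
    let rep : (𝟙_ (Over (Spec (CommRingCat.of k))) ⟶ Q) → (𝟙_ (Over (Spec (CommRingCat.of k))) ⟶ K) := fun q =>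
      if h : ∃ z : 𝟙_ (Over (Spec (CommRingCat.of k))) ⟶ K, z ≫ ρ = q then h.choose else 1
    let φ : (𝟙_ (Over (Spec (CommRingCat.of k))) ⟶ Q) → (Y ⟶ K) := fun q => (toUnit Y ≫ rep q) * c
    have hφ : ∀ q, IsClosedEmbedding (φ q).left := by
      intro q
      let t : K ⟶ K := (toUnit K ≫ rep q) * 𝟙 K
      haveI : IsIso t := ⟨(toUnit K ≫ (rep q)⁻¹) * 𝟙 K, by
        constructor <;> simp [t, MonObj.comp_mul, MonObj.mul_comp, ← Category.assoc, ← _root_.mul_assoc,
          GrpObj.comp_inv]⟩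
      have e' : φ q = c ≫ t := by simp [φ, t, MonObj.comp_mul, ← Category.assoc]
      rw [e']
      haveI : IsClosedImmersion (c ≫ t).left := by
        show IsClosedImmersion (c.left ≫ t.left)
        infer_instance
      exact (c ≫ t).left.isClosedEmbedding
    haveI : Fintype (𝟙_ (Over (Spec (CommRingCat.of k))) ⟶ Q) := Fintype.ofFinite _
    refine dim_le_of_cover (fun q => Set.range (φ q).left) Finset.univ (fun q => (hφ q).isClosed_range)
      (fun q => ?_) fun x => ?_
    · rw [← ((hφ q).isEmbedding.toHomeomorph).isHomeomorph.topologicalKrullDim_eq, hm]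
    · let U := ⋃ q, Set.range (φ q).left
      have hU : IsClosed U := isClosed_iUnion_of_finite fun q => (hφ q).isClosed_range
      suffices h : closedPoints K.left ⊆ U by
        have hx : x ∈ closure (closedPoints K.left) := by rw [closure_closedPoints]; trivial
        obtain ⟨q, hq⟩ := Set.mem_iUnion.1 ((hU.closure_subset_iff.2 h) hx)
        exact ⟨q, Finset.mem_univ _, hq⟩
      intro x hx
      let z : 𝟙_ (Over (Spec (CommRingCat.of k))) ⟶ K :=
        Over.homMk _ ((pointEquivClosedPoint K.hom).symm ⟨x, hx⟩).2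
      have hr : rep (z ≫ ρ) ≫ ρ = z ≫ ρ := by
        have h : ∃ w : 𝟙_ (Over (Spec (CommRingCat.of k))) ⟶ K, w ≫ ρ = z ≫ ρ := ⟨z, rfl⟩
        simp only [rep, dif_pos h]
        exact h.choose_spec
      obtain ⟨y, hy⟩ := hlift _ ((rep (z ≫ ρ))⁻¹ * z) (by rw [MonObj.mul_comp, GrpObj.inv_comp, hr, inv_mul_cancel])
      refine Set.mem_iUnion.2 ⟨z ≫ ρ, y.left (IsLocalRing.closedPoint k), ?_⟩
      have e2 : y ≫ φ (z ≫ ρ) = z := by
        show y ≫ ((toUnit Y ≫ rep (z ≫ ρ)) * c) = z
        rw [MonObj.comp_mul, hy, ← Category.assoc, Subsingleton.elim (y ≫ toUnit Y) (𝟙 _), Category.id_comp,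
          mul_inv_cancel_left]
      rw [← Scheme.Hom.comp_apply, ← Over.comp_left, e2]
      exact pointOfClosedPoint_apply K.hom x (mem_closedPoints_iff.1 hx) _
  rw [hdimK]
  -- comparison with a product of ample classes
  obtain ⟨HY, hHY⟩ := H25AbCube.exists_isAmple Y
  obtain ⟨HC, hHC⟩ := H25AbCube.exists_isAmple C
  have hbox := H8Props.Ample.isAmple_prod Y.hom C.hom hHY hHC
  have ebox : pc _ hbox.1 = ev (pc HY hHY.1) (fst Y C) + ev (pc HC hHC.1) (snd Y C) := by
    rw [pc_tensor (H11Ample.isInvertible_pullback _ hHY.1) (H11Ample.isInvertible_pullback _ hHC.1),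
      pullP_pc _ HY hHY.1, pullP_pc _ HC hHC.1]
    rfl
  obtain ⟨Φ₁, -, hΦ₁⟩ := exists_line_poly (k := k) hgD _ hbox (ev ℓ s)
  obtain ⟨d, hd0, hd⟩ := exists_chiCls_ev s
  have hΦ₂ : ∀ t : ℤ, (chiCls k (ev ℓ s + t • pc _ hsH.1) : ℚ) = (Polynomial.C (d : ℚ) * Φ).eval (t : ℚ) := fun t => by
    rw [epc, show ev ℓ s + t • ev (pc H hH.1) s = ev (ℓ + t • pc H hH.1) s from by rw [ev, ev, ev, map_add, map_zsmul],
      hd, Polynomial.eval_mul, Polynomial.eval_C, ← hΦ t]
    push_cast
    rfl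
  have hmult : Φ.rootMultiplicity 0 = Φ₁.rootMultiplicity 0 := by
    rw [← rootMultiplicity_eq hgD (ev ℓ s) hsH hbox hΦ₂ hΦ₁]
    rcases eq_or_ne Φ 0 with rfl | h0
    · simp
    · rw [Polynomial.rootMultiplicity_mul (mul_ne_zero (Polynomial.C_ne_zero.2 (Nat.cast_ne_zero.2 hd0)) h0),
        Polynomial.rootMultiplicity_C, zero_add]
  -- the indices near zero
  obtain ⟨ΦC, -, hΦC⟩ := exists_line_poly (k := k) hr HC hHC uC
  obtain ⟨pC, hpC⟩ := exists_small hr uC hHC hΦC
  have hC0 : ΦC.rootMultiplicity 0 = 0 := by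
    obtain ⟨iC, hiC⟩ := exists_isIndex huC
    refine Polynomial.rootMultiplicity_eq_zero fun h => chiCls_ne_zero hiC ?_
    have h1 := hΦC 0
    rw [zero_smul, add_zero, Int.cast_zero, h.eq_zero] at h1
    exact_mod_cast h1
  obtain ⟨p, hp⟩ := exists_small hgD (ev ℓ s) hbox hΦ₁
  obtain ⟨B₁, -, hB₁⟩ := hp 1 Nat.one_pos
  obtain ⟨B₂, -, hB₂⟩ := hpC 1 Nat.one_pos
  obtain ⟨u1, u2⟩ := hB₁ (B₁ + B₂) (Nat.le_add_right _ _)
  obtain ⟨v1, v2⟩ := hB₂ (B₁ + B₂) (Nat.le_add_left _ _)
  rw [hC0, add_zero] at v2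
  rw [one_smul] at u1 u2 v1 v2
  generalize B₁ + B₂ = b at u1 u2 v1 v2
  have hY0 := isIndex_ample hHY
  have w1 : IsIndex (b • uY + pc HY hHY.1) 0 := hY0.congr (by rw [add_sub_cancel_right]; exact additive_nsmul huY b)
  have w2 : IsIndex (b • uY - pc HY hHY.1) m := by
    have h := (hY0.le hm).2.congr (w := b • uY - pc HY hHY.1)
      (by rw [sub_neg_eq_add, sub_add_cancel]; exact additive_nsmul huY b)
    rwa [Nat.sub_zero] at h
  have hadd : ∀ (P : Over (Spec (CommRingCat.of k))) (f : Y ⊗ C ⟶ P) (a b : PC P.left),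
      ev (a + b) f = ev a f + ev b f := fun P f a b => map_add _ a b
  have hsub : ∀ (P : Over (Spec (CommRingCat.of k))) (f : Y ⊗ C ⟶ P) (a b : PC P.left),
      ev (a - b) f = ev a f - ev b f := fun P f a b => map_sub _ a b
  have hns : ∀ (P : Over (Spec (CommRingCat.of k))) (f : Y ⊗ C ⟶ P) (n : ℕ) (a : PC P.left),
      ev (n • a) f = n • ev a f := fun P f n a => map_nsmul _ n a
  have r1 := w1.prod v1
  rw [hadd, hadd, hns, hns, add_add_add_comm, ← smul_add, ← hsplit, ← ebox] at r1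
  have r2 := w2.prod v2
  rw [hsub, hsub, hns, hns, sub_add_sub_comm, ← smul_add, ← hsplit, ← ebox] at r2
  have q1 := u1.unique r1
  have q2 := u2.unique r2
  rw [hmult]
  norm_cast
  omega

end Groth.Agent.H25Index
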