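import Groth.Agent.H15Site.SpTrunc

/-!
# Extremal classes in a filtered derived object
-/

set_option linter.style.haveILetI false
set_option linter.unusedSectionVars false
set_option backward.isDefEq.respectTransparency false
universe w v u₁

open CategoryTheory CategoryTheory.Limits CategoryTheory.Triangulated CategoryTheory.Pretriangulated

namespace Groth.Agent.H25Index.Edge

variable {A : Type u₁} [Category.{v} A] [Abelian A] [HasDerivedCategory.{w} A]

open DerivedCategory Groth.Agent.H15Site.SpTrunc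

/-- The graded piece `Hom(P, H^j(X)[i])`. -/
abbrev gr (P X : DerivedCategory A) (i j : ℤ) :=
  P ⟶ ((singleFunctor A 0).obj ((homologyFunctor A j).obj X))⟦i⟧

theorem exists_triangle (X : DerivedCategory A) (a : ℤ) [X.IsGE a] :
    ∃ (Z Y : DerivedCategory A) (f : Z ⟶ X) (g : X ⟶ Y) (h : Y ⟶ Z⟦(1 : ℤ)⟧),
      Triangle.mk f g h ∈ distTriang _ ∧ Y.IsGE (a + 1) ∧
      Nonempty (Z ≅ (singleFunctor A a).obj ((homologyFunctor A a).obj X)) ∧
      ∀ j, a < j → Nonempty ((homologyFunctor A j).obj Y ≅ (homologyFunctor A j).obj X) := by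
  let T := ((t (A := A)).triangleLTGE (a + 1)).obj X
  have hT : T ∈ distTriang _ := (t (A := A)).triangleLTGE_distinguished (a + 1) X
  haveI h3 : T.obj₃.IsGE (a + 1) :=
    inferInstanceAs ((t (A := A)).IsGE (((t (A := A)).truncGE (a + 1)).obj X) (a + 1))
  haveI h1 : T.obj₁.IsLE a := by
    have : T.obj₁.IsLE (a + 1 - 1) :=
      inferInstanceAs ((t (A := A)).IsLE (((t (A := A)).truncLT (a + 1)).obj X) (a + 1 - 1))
    rwa [add_sub_cancel_right] at this
  have hiso1 : ∀ j, j ≤ a → IsIso ((homologyFunctor A j).map T.mor₁) := fun j hj => by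
    have e₁ : IsZero ((homologyFunctor A (j - 1)).obj T.obj₃) := isZero_of_isGE T.obj₃ (a + 1) (j - 1) (by lia)
    have e₂ : IsZero ((homologyFunctor A j).obj T.obj₃) := isZero_of_isGE T.obj₃ (a + 1) j (by lia)
    have := (HomologySequence.mono_homologyMap_mor₁_iff T hT (j - 1) j).2 (e₁.eq_of_src _ _)
    have := (HomologySequence.epi_homologyMap_mor₁_iff T hT j).2 (e₂.eq_of_tgt _ _)
    exact isIso_of_mono_of_epi ((homologyFunctor A j).map T.mor₁)
  haveI : T.obj₁.IsGE a := (DerivedCategory.isGE_iff _ _).2 fun j hj => by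
    haveI := hiso1 j hj.le
    exact IsZero.of_iso (isZero_of_isGE X a j hj) (asIso ((homologyFunctor A j).map T.mor₁))
  refine ⟨T.obj₁, T.obj₃, T.mor₁, T.mor₂, T.mor₃, hT, h3, ?_, fun j hj => ?_⟩
  · obtain ⟨Y, ⟨e⟩⟩ := exists_iso_singleFunctor_obj_of_isGE_of_isLE T.obj₁ a
    haveI := hiso1 a le_rfl
    exact ⟨e ≪≫ (singleFunctor A a).mapIso
      (((homologyFunctor A a).mapIso ((singleFunctorIsoCompQ A a).app Y) ≪≫
        (homologyFunctorFactors A a).app _ ≪≫
        HomologicalComplex.singleObjHomologySelfIso (ComplexShape.up ℤ) a Y).symm ≪≫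
      (homologyFunctor A a).mapIso e.symm ≪≫ asIso ((homologyFunctor A a).map T.mor₁))⟩
  · have e₁ : IsZero ((homologyFunctor A j).obj T.obj₁) := isZero_of_isLE T.obj₁ a j (by lia)
    have e₂ : IsZero ((homologyFunctor A (j + 1)).obj T.obj₁) := isZero_of_isLE T.obj₁ a (j + 1) (by lia)
    have := (HomologySequence.mono_homologyMap_mor₂_iff T hT j).2 (e₁.eq_of_src _ _)
    have := (HomologySequence.epi_homologyMap_mor₂_iff T hT j (j + 1)).2 (e₂.eq_of_tgt _ _)
    haveI := isIso_of_mono_of_epi ((homologyFunctor A j).map T.mor₂)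
    exact ⟨(asIso ((homologyFunctor A j).map T.mor₂)).symm⟩

theorem nonempty_equiv_single (P X Z : DerivedCategory A) (a n : ℤ)
    (e : Z ≅ (singleFunctor A a).obj ((homologyFunctor A a).obj X)) :
    Nonempty ((P ⟶ Z⟦n⟧) ≃ gr P X (n - a) a) := by
  let e' : Z⟦n⟧ ≅ ((singleFunctor A 0).obj ((homologyFunctor A a).obj X))⟦n - a⟧ :=
    (shiftFunctor _ n).mapIso e ≪≫
      ((singleFunctors A).shiftIso n (a - n) a (by lia)).app _ ≪≫
      (((singleFunctors A).shiftIso (n - a) (a - n) 0 (by lia)).app _).symm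
  exact ⟨(Iso.refl P).homCongr e'⟩

theorem gr_congr (P X Y : DerivedCategory A) (i j : ℤ)
    (e : (homologyFunctor A j).obj Y ≅ (homologyFunctor A j).obj X) : Nonempty (gr P Y i j ≃ gr P X i j) :=
  ⟨(Iso.refl P).homCongr ((shiftFunctor _ i).mapIso ((singleFunctor A 0).mapIso e))⟩

/-- Vanishing from the vanishing of all graded pieces of that degree. -/
theorem subsingleton_of_gr (P : DerivedCategory A) [P.IsLE 0] (n : ℤ) :
    ∀ (m : ℕ) (a : ℤ), n + 1 - a ≤ m → ∀ (X : DerivedCategory A) [X.IsGE a],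
      (∀ j, a ≤ j → j ≤ n → Subsingleton (gr P X (n - j) j)) → Subsingleton (P ⟶ X⟦n⟧) := by
  intro m
  induction m with
  | zero =>
    intro a ha X _ _
    haveI : (X⟦n⟧).IsGE 1 := by
      haveI : X.IsGE (n + 1) := (t (A := A)).isGE_of_ge X (n + 1) a (by simp at ha; lia)
      exact (t (A := A)).isGE_shift X (n + 1) n 1
    exact ⟨fun f g => by rw [(t (A := A)).zero f 0 1, (t (A := A)).zero g 0 1]⟩
  | succ m ih =>
    intro a ha X _ h
    by_cases han : n < a
    · haveI : (X⟦n⟧).IsGE 1 := by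
        haveI : X.IsGE (n + 1) := (t (A := A)).isGE_of_ge X (n + 1) a (by lia)
        exact (t (A := A)).isGE_shift X (n + 1) n 1
      exact ⟨fun f g => by rw [(t (A := A)).zero f 0 1, (t (A := A)).zero g 0 1]⟩
    obtain ⟨Z, Y, f, g, w, hT, hY, ⟨eZ⟩, hH⟩ := exists_triangle X a
    haveI := hY
    haveI : Subsingleton (P ⟶ Y⟦n⟧) := ih (a + 1) (by push_cast at ha; lia) Y fun j hj hjn => by
      obtain ⟨e⟩ := hH j (by lia)
      obtain ⟨e'⟩ := gr_congr P X Y (n - j) j e
      haveI := h j (by lia) hjn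
      exact e'.subsingleton
    haveI : Subsingleton (P ⟶ Z⟦n⟧) := by
      obtain ⟨e⟩ := nonempty_equiv_single P X Z a n eZ
      haveI := h a le_rfl (by lia)
      exact e.subsingleton
    refine ⟨fun x y => sub_eq_zero.1 ?_⟩
    obtain ⟨z, hz⟩ := Triangle.coyoneda_exact₂ _ (Triangle.shift_distinguished _ hT n) (x - y)
      (Subsingleton.elim (α := P ⟶ Y⟦n⟧) _ _)
    rw [hz, Subsingleton.elim (α := P ⟶ Z⟦n⟧) z 0]
    exact zero_comp

/-- The lowest class survives. -/
theorem nontrivial_of_lowest (P X : DerivedCategory A) [P.IsLE 0] (a b : ℤ) [X.IsGE a]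
    (h : Nontrivial (gr P X b a)) (hz : ∀ i j, a < j → i < b → Subsingleton (gr P X i j)) :
    Nontrivial (P ⟶ X⟦a + b⟧) := by
  obtain ⟨Z, Y, f, g, w, hT, hY, ⟨eZ⟩, hH⟩ := exists_triangle X a
  haveI := hY
  haveI : Subsingleton (P ⟶ Y⟦a + b - 1⟧) := subsingleton_of_gr P _ (b.toNat + 1) (a + 1) (by lia) Y
    fun j hj _ => by
      obtain ⟨e⟩ := hH j (by lia)
      obtain ⟨e'⟩ := gr_congr P X Y (a + b - 1 - j) j e
      haveI := hz (a + b - 1 - j) j (by lia) (by lia)
      exact e'.subsingleton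
  obtain ⟨e⟩ := nonempty_equiv_single P X Z a (a + b) eZ
  rw [show a + b - a = b by lia] at e
  haveI : Nontrivial (P ⟶ Z⟦a + b⟧) := e.nontrivial
  have hdist := Triangle.shift_distinguished _ (inv_rot_of_distTriang _ hT) (a + b)
  refine (Function.Injective.nontrivial (f := fun z : P ⟶ Z⟦a + b⟧ => z ≫ f⟦a + b⟧') fun z z' hz' => ?_)
  obtain ⟨y, hy⟩ := Triangle.coyoneda_exact₂ _ hdist (z - z') (by
    simp only at hz'
    show (z - z') ≫ ((a + b).negOnePow • f⟦a + b⟧') = 0
    rw [Linear.comp_units_smul, Preadditive.sub_comp, hz', sub_self, smul_zero])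
  haveI : Subsingleton (P ⟶ (Y⟦(-1 : ℤ)⟧)⟦a + b⟧) :=
    ((Iso.refl P).homCongr ((shiftFunctorAdd' (DerivedCategory A) (-1 : ℤ) (a + b) (a + b - 1) (by lia)).symm.app Y)).subsingleton
  rw [← sub_eq_zero, hy, Subsingleton.elim (α := P ⟶ (Y⟦(-1 : ℤ)⟧)⟦a + b⟧) y 0]
  exact zero_comp

/-- The highest class survives. -/
theorem nontrivial_of_highest (P : DerivedCategory A) [P.IsLE 0] (a b : ℤ) :
    ∀ (m : ℕ) (c : ℤ), a - c ≤ m → c ≤ a → ∀ (X : DerivedCategory A) [X.IsGE c] [X.IsLE a],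
      Nontrivial (gr P X b a) → (∀ i j, c ≤ j → j < a → b < i → Subsingleton (gr P X i j)) →
        Nontrivial (P ⟶ X⟦a + b⟧) := by
  intro m
  induction m with
  | zero =>
    intro c hc hca X _ _ h _
    obtain rfl : c = a := by simp at hc; lia
    refine nontrivial_of_lowest P X c b h fun i j hj _ => ?_
    have h0 : IsZero ((homologyFunctor A j).obj X) := isZero_of_isLE X c j hj
    exact ⟨fun x y => (((shiftFunctor _ i).map_isZero (Functor.map_isZero _ h0))).eq_of_tgt x y⟩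
  | succ m ih =>
    intro c hc hca X _ _ h hz
    by_cases hcase : c = a
    · exact ih c (by lia) hca X h hz
    obtain ⟨Z, Y, f, g, w, hT, hY, ⟨eZ⟩, hH⟩ := exists_triangle X c
    haveI := hY
    haveI : Y.IsLE a := (DerivedCategory.isLE_iff _ _).2 fun j hj => by
      obtain ⟨e⟩ := hH j (by lia)
      exact IsZero.of_iso (isZero_of_isLE X a j hj) e
    haveI : Nontrivial (P ⟶ Y⟦a + b⟧) := by
      refine ih (c + 1) (by push_cast at hc; lia) (by lia) Y ?_ fun i j hj hja hi => ?_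
      · obtain ⟨e⟩ := hH a (by lia)
        obtain ⟨e'⟩ := gr_congr P X Y b a e
        exact e'.nontrivial
      · obtain ⟨e⟩ := hH j (by lia)
        obtain ⟨e'⟩ := gr_congr P X Y i j e
        haveI := hz i j (by lia) hja hi
        exact e'.subsingleton
    haveI : Subsingleton (P ⟶ Z⟦a + b + 1⟧) := by
      obtain ⟨e⟩ := nonempty_equiv_single P X Z c (a + b + 1) eZ
      haveI := hz (a + b + 1 - c) c le_rfl (by lia) (by lia)
      exact e.subsingleton
    refine Function.Surjective.nontrivial (f := fun x : P ⟶ X⟦a + b⟧ => x ≫ g⟦a + b⟧') fun y => ?_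
    have hdist := Triangle.shift_distinguished _ hT (a + b)
    haveI : Subsingleton (P ⟶ (Z⟦a + b⟧)⟦(1 : ℤ)⟧) :=
      ((Iso.refl P).homCongr ((shiftFunctorAdd' (DerivedCategory A) (a + b) (1 : ℤ) (a + b + 1) rfl).symm.app Z)).subsingleton
    obtain ⟨x, hx⟩ := Triangle.coyoneda_exact₃ _ hdist y (Subsingleton.elim (α := P ⟶ (Z⟦a + b⟧)⟦(1 : ℤ)⟧) _ _)
    refine ⟨(a + b).negOnePow • x, ?_⟩
    rw [hx]
    show ((a + b).negOnePow • x) ≫ g⟦a + b⟧' = x ≫ ((a + b).negOnePow • g⟦a + b⟧')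
    rw [Linear.units_smul_comp, Linear.comp_units_smul]

end Groth.Agent.H25Index.Edge
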