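import Groth.Agent.H25Index.Edge
import Groth.Agent.H15Site.SpGroth
import Groth.Agent.H15Site.LerayDeg

/-!
# Extremal classes in the Leray filtration
-/

set_option linter.style.haveILetI false
set_option linter.unusedSectionVars false
set_option backward.isDefEq.respectTransparency false
universe u

open CategoryTheory CategoryTheory.Limits Opposite TopologicalSpace Abelian

namespace Groth.Agent.H25Index.EdgePush

open Groth.Agent Groth.Agent.H10Coh Groth.Agent.H15Site Groth.Agent.H16Derived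

attribute [local instance 10000] hasSheafifyAb hasWeakSheafifyAb hasExtAb enoughInjAb

variable {X Y : TopCat.{u}} (f : X ⟶ Y) (F : CohTop.Ab X)

theorem exists_object (instY : HasDerivedCategory.{u + 1} (CohTop.Ab Y) := HasDerivedCategory.standard _) :
    letI := instY
    ∃ K : DerivedCategory (CohTop.Ab Y), K.IsGE 0 ∧
      (∀ n : ℕ, Nonempty (((DerivedCategory.singleFunctor _ 0).obj (Zsh (⊤ : Opens Y)) ⟶ K⟦(n : ℤ)⟧) ≃
        Hn F n (⊤ : Opens X))) ∧
      (∀ i j : ℕ, Nonempty (Edge.gr ((DerivedCategory.singleFunctor _ 0).obj (Zsh (⊤ : Opens Y))) K i j ≃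
        Hn ((CohTop.Rpush f j).obj F) i (⊤ : Opens Y))) ∧
      ∀ j : ℕ, IsZero ((CohTop.Rpush f j).obj F) → IsZero ((DerivedCategory.homologyFunctor _ (j : ℤ)).obj K) := by
  letI := instY
  haveI := ClosedPushAb.push_preservesFiniteLimits f
  let G := CohTop.push f
  let R := injectiveResolution F
  let L : CochainComplex (CohTop.Ab Y) ℤ := (G.mapHomologicalComplex (ComplexShape.up ℤ)).obj R.cochainComplex
  have hL : ∀ k, Injective (L.X k) := fun k => by
    haveI : Injective (R.cochainComplex.X k) := inferInstance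
    exact ClosedPushAb.push_injective f _
  haveI : L.IsStrictlyGE 0 := by
    rw [CochainComplex.isStrictlyGE_iff]
    intro i hi
    exact G.map_isZero (CochainComplex.isZero_of_isStrictlyGE R.cochainComplex 0 i hi)
  haveI := CochainComplex.isKInjective_of_injective L 0
  have eY : ∀ q : ℕ, (DerivedCategory.homologyFunctor _ (q : ℤ)).obj (DerivedCategory.Q.obj L) ≅
      (G.rightDerived q).obj F := fun q =>
    (DerivedCategory.homologyFunctorFactors _ (q : ℤ)).app L ≪≫
      (Classical.choice (AcyclicLES.nonempty_rightDerived_iso G R.cochainComplex 0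
        (fun k => inferInstance) R.ι' q)).symm
  let φ : ∀ W : CohTop.Ab X, (Zsh (⊤ : Opens Y) ⟶ G.obj W) ≃+ (Zsh (⊤ : Opens X) ⟶ W) := fun W =>
    (sect (⊤ : Opens Y) (G.obj W)).trans (sect (⊤ : Opens X) W).symm
  have hφ : ∀ (W W' : CohTop.Ab X) (h : W ⟶ W') (g : Zsh (⊤ : Opens Y) ⟶ G.obj W),
      φ W' (g ≫ G.map h) = φ W g ≫ h := fun W W' h g =>
    (sect (⊤ : Opens X) W').injective (by
      refine ((sect (⊤ : Opens X) W').apply_symm_apply _).trans ?_
      show (h.hom.app (op (⊤ : Opens X))) (sect (⊤ : Opens Y) (G.obj W) g) =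
        (h.hom.app (op (⊤ : Opens X))) (sect (⊤ : Opens X) W (φ W g))
      exact congrArg (h.hom.app (op (⊤ : Opens X))) ((sect (⊤ : Opens X) W).apply_symm_apply _).symm)
  refine ⟨DerivedCategory.Q.obj L, inferInstance, fun n => ?_, fun i j => ?_, fun j hj => ?_⟩
  · exact ⟨((SpHom.qAddEquiv ((CochainComplex.singleFunctor _ 0).obj (Zsh (⊤ : Opens Y))) L n).trans
      ((SpHom.classAddEquiv (L' := R.cochainComplex) (fun q => φ (R.cochainComplex.X q))
        (fun q q' g => hφ _ _ (R.cochainComplex.d q q') g) n).trans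
        (R.extAddEquivCohomologyClass (X := Zsh (⊤ : Opens X)) (n := n)).symm)).toEquiv⟩
  · exact ⟨((Iso.refl _).homCongr ((shiftFunctor _ (i : ℤ)).mapIso
      ((DerivedCategory.singleFunctor _ 0).mapIso (eY j)))).trans
      (Ext.homAddEquiv (X := Zsh (⊤ : Opens Y)) (Y := (G.rightDerived j).obj F) (n := i)).symm.toEquiv⟩
  · exact IsZero.of_iso hj (eY j)

/-- Vanishing. -/
theorem subsingleton_Hn (n : ℕ)
    (h : ∀ j : ℕ, j ≤ n → Subsingleton (Hn ((CohTop.Rpush f j).obj F) (n - j) (⊤ : Opens Y))) :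
    Subsingleton (Hn F n (⊤ : Opens X)) := by
  letI := HasDerivedCategory.standard (CohTop.Ab Y)
  obtain ⟨K, hK, hn, hgr, -⟩ := exists_object f F
  haveI := hK
  obtain ⟨e⟩ := hn n
  haveI : Subsingleton ((DerivedCategory.singleFunctor _ 0).obj (Zsh (⊤ : Opens Y)) ⟶ K⟦(n : ℤ)⟧) :=
    Edge.subsingleton_of_gr _ n (n + 1) 0 (by push_cast; omega) K fun j hj hjn => by
      obtain ⟨j, rfl⟩ := Int.eq_ofNat_of_zero_le hj
      obtain ⟨e'⟩ := hgr (n - j) j
      rw [show (n : ℤ) - j = ((n - j : ℕ) : ℤ) by omega]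
      haveI := h j (by omega)
      exact e'.subsingleton
  exact e.symm.subsingleton

/-- The lowest class survives. -/
theorem nontrivial_lowest (a b : ℕ) (hlow : ∀ j < a, IsZero ((CohTop.Rpush f j).obj F))
    (h : Nontrivial (Hn ((CohTop.Rpush f a).obj F) b (⊤ : Opens Y)))
    (hz : ∀ i j : ℕ, a < j → i < b → Subsingleton (Hn ((CohTop.Rpush f j).obj F) i (⊤ : Opens Y))) :
    Nontrivial (Hn F (a + b) (⊤ : Opens X)) := by
  letI := HasDerivedCategory.standard (CohTop.Ab Y)
  obtain ⟨K, hK, hn, hgr, hzero⟩ := exists_object f F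
  haveI := hK
  haveI : K.IsGE (a : ℤ) := (DerivedCategory.isGE_iff _ _).2 fun j hj => by
    by_cases hj0 : j < 0
    · exact K.isZero_of_isGE 0 j hj0
    obtain ⟨j, rfl⟩ := Int.eq_ofNat_of_zero_le (not_lt.1 hj0)
    exact hzero j (hlow j (by omega))
  obtain ⟨e⟩ := hgr b a
  have := Edge.nontrivial_of_lowest ((DerivedCategory.singleFunctor _ 0).obj (Zsh (⊤ : Opens Y))) K a b
    e.nontrivial fun i j hj hi => by
      obtain ⟨j, rfl⟩ := Int.eq_ofNat_of_zero_le (by omega : 0 ≤ j)
      by_cases hi0 : i < 0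
      · refine ⟨fun x y => ?_⟩
        haveI : (((DerivedCategory.singleFunctor _ 0).obj ((DerivedCategory.homologyFunctor _ (j : ℤ)).obj K))⟦i⟧).IsGE 1 := by
          haveI := (SpTrunc.t (A := CohTop.Ab Y)).isGE_shift
            ((DerivedCategory.singleFunctor _ 0).obj ((DerivedCategory.homologyFunctor _ (j : ℤ)).obj K)) 0 i (-i)
          exact (SpTrunc.t (A := CohTop.Ab Y)).isGE_of_ge _ 1 (-i) (by omega)
        rw [(SpTrunc.t (A := CohTop.Ab Y)).zero x 0 1, (SpTrunc.t (A := CohTop.Ab Y)).zero y 0 1]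
      obtain ⟨i, rfl⟩ := Int.eq_ofNat_of_zero_le (not_lt.1 hi0)
      obtain ⟨e'⟩ := hgr i j
      haveI := hz i j (by omega) (by omega)
      exact e'.subsingleton
  obtain ⟨e'⟩ := hn (a + b)
  rw [show (a : ℤ) + b = ((a + b : ℕ) : ℤ) by omega] at this
  exact e'.symm.nontrivial

/-- The highest class survives. -/
theorem nontrivial_highest (a b : ℕ) (hhigh : ∀ j, a < j → IsZero ((CohTop.Rpush f j).obj F))
    (h : Nontrivial (Hn ((CohTop.Rpush f a).obj F) b (⊤ : Opens Y)))
    (hz : ∀ i j : ℕ, j < a → b < i → Subsingleton (Hn ((CohTop.Rpush f j).obj F) i (⊤ : Opens Y))) :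
    Nontrivial (Hn F (a + b) (⊤ : Opens X)) := by
  letI := HasDerivedCategory.standard (CohTop.Ab Y)
  obtain ⟨K, hK, hn, hgr, hzero⟩ := exists_object f F
  haveI := hK
  haveI : K.IsLE (a : ℤ) := (DerivedCategory.isLE_iff _ _).2 fun j hj => by
    obtain ⟨j, rfl⟩ := Int.eq_ofNat_of_zero_le (by omega : 0 ≤ j)
    exact hzero j (hhigh j (by omega))
  obtain ⟨e⟩ := hgr b a
  have := Edge.nontrivial_of_highest ((DerivedCategory.singleFunctor _ 0).obj (Zsh (⊤ : Opens Y))) a b
    a 0 (by omega) (by omega) K e.nontrivial fun i j hj hja hi => by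
      obtain ⟨j, rfl⟩ := Int.eq_ofNat_of_zero_le hj
      obtain ⟨i, rfl⟩ := Int.eq_ofNat_of_zero_le (by omega : 0 ≤ i)
      obtain ⟨e'⟩ := hgr i j
      haveI := hz i j (by omega) (by omega)
      exact e'.subsingleton
  obtain ⟨e'⟩ := hn (a + b)
  rw [show (a : ℤ) + b = ((a + b : ℕ) : ℤ) by omega] at this
  exact e'.symm.nontrivial

end Groth.Agent.H25Index.EdgePush
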