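import Groth.Agent.H10Coh.ProjFormulaFLF
import Groth.Agent.H10Coh.AffCover
import Groth.Agent.H16Derived.KFlat.FinLocFree
import Groth.Agent.LeadVan.Vanishing

/-!
# Cohomology of a module tensored with a free module
-/

set_option autoImplicit false
set_option linter.style.haveILetI false
set_option linter.unusedSectionVars false
set_option backward.isDefEq.respectTransparency false
universe u

open CategoryTheory CategoryTheory.Limits AlgebraicGeometry TopologicalSpace Opposite

noncomputable section

namespace Groth.Agent.H25Index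

open Groth.Agent.H10Coh

attribute [local instance 10000] hasSheafifyAb hasWeakSheafifyAb hasExtAb enoughInjAb

variable {X : Scheme.{u}} (N : X.Modules) (r : ℕ)

theorem subsingleton_tensor_free (i : ℕ) (h : Subsingleton (HnM N i ⊤)) :
    Subsingleton (HnM ((PF.TR N).obj (FlatMod.freeMod X r)) i ⊤) := by
  let c : Fin r → X.Modules := fun _ => Coh.structureModule X
  let T := PF.TR N ⋙ shF X
  let eO : T.obj (Coh.structureModule X) ≅ sh N := (shF X).mapIso (Tw.leftUnitIso N)
  let eF : T.obj (FlatMod.freeMod X r) ≅ T.obj (⨁ c) := T.mapIso (biproduct.isoCoproduct c).symm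
  refine Tw.subsingleton_of_sum_eq_id (P := fun _ : Fin r => sh N)
    (fun m => eF.hom ≫ T.map (biproduct.π c m) ≫ eO.hom)
    (fun m => eO.inv ≫ T.map (biproduct.ι c m) ≫ eF.inv) ?_ fun _ => h
  simp only [Category.assoc, Iso.hom_inv_id_assoc]
  rw [← Preadditive.comp_sum]
  simp only [← Category.assoc, ← T.map_comp]
  rw [← Preadditive.sum_comp, ← T.map_sum, biproduct.total, T.map_id, Category.id_comp, eF.hom_inv_id]

theorem nontrivial_tensor_free (hr : 0 < r) (i : ℕ) (h : Nontrivial (HnM N i ⊤)) :
    Nontrivial (HnM ((PF.TR N).obj (FlatMod.freeMod X r)) i ⊤) := by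
  by_contra hc
  haveI := not_nontrivial_iff_subsingleton.1 hc
  let c : Fin r → X.Modules := fun _ => Coh.structureModule X
  let T := PF.TR N ⋙ shF X
  let eO : T.obj (Coh.structureModule X) ≅ sh N := (shF X).mapIso (Tw.leftUnitIso N)
  let eF : T.obj (FlatMod.freeMod X r) ≅ T.obj (⨁ c) := T.mapIso (biproduct.isoCoproduct c).symm
  refine not_subsingleton (HnM N i ⊤) (Tw.subsingleton_of_sum_eq_id
    (P := fun _ : Fin 1 => sh ((PF.TR N).obj (FlatMod.freeMod X r)))
    (fun _ => eO.inv ≫ T.map (biproduct.ι c ⟨0, hr⟩) ≫ eF.inv)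
    (fun _ => eF.hom ≫ T.map (biproduct.π c ⟨0, hr⟩) ≫ eO.hom) ?_ fun _ => ‹_›)
  simp only [Finset.univ_unique, Finset.sum_singleton, Category.assoc, Iso.inv_hom_id_assoc]
  rw [← T.map_comp_assoc, biproduct.ι_π_self, T.map_id, Category.id_comp]
  exact eO.inv_hom_id

end Groth.Agent.H25Index
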