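import Groth.Agent.H25Index.Multiples
import Groth.Agent.H25AbCube.Degree
import Groth.Agent.H25Index.Ample

/-!
# The index is invariant under isogenies
-/

set_option autoImplicit false
set_option linter.style.haveILetI false
set_option linter.unusedSectionVars false
set_option backward.isDefEq.respectTransparency false
set_option synthInstance.maxHeartbeats 400000
set_option maxHeartbeats 1000000
universe u

open CategoryTheory CategoryTheory.Limits MonoidalCategory CartesianMonoidalCategory MonObj GrpObj AlgebraicGeometry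
  TopologicalSpace Opposite
open Groth.Agent Groth.Agent.H25AbCube Groth.Agent.H25Pic0

noncomputable section

attribute [local instance] H10Coh.enoughInjMod

namespace Groth.Agent.H25Index

variable {k : Type u} [Field k] [IsAlgClosed k] {A B : Over (Spec (CommRingCat.of k))} [GrpObj A] [IsProper A.hom]
  [GeometricallyIntegral A.hom] [GrpObj B] [IsProper B.hom] [GeometricallyIntegral B.hom]

/-- The degree of an isogeny. -/
theorem exists_degree (f : A ⟶ B) [IsFinite f.left] [Flat f.left] [Surjective f.left] :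
    ∃ d : ℕ, d ≠ 0 ∧ ∀ y, f.left.finrank y = d := by
  haveI : IsLocallyNoetherian B.left := LocallyOfFiniteType.isLocallyNoetherian B.hom
  haveI : IsIntegral B.left := GeometricallyIntegral.isIntegral_of_subsingleton B.hom
  haveI : LocallyOfFinitePresentation f.left := LocallyOfFinitePresentation.iff_locallyOfFiniteType.2 inferInstance
  haveI : PreconnectedSpace B.left := inferInstance
  refine ⟨f.left.finrank (genericPoint B.left), fun h => ?_,
    fun y => (Scheme.Hom.isLocallyConstant_finrank f.left).apply_eq_of_preconnectedSpace y _⟩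
  have := (Scheme.Hom.one_le_finrank_iff_surjective f.left).2 inferInstance (genericPoint B.left)
  simp only [Pi.one_apply] at this
  omega

theorem euler_eq_of_concentrated (L : A.left.Modules) (i : ℕ)
    (hvan : ∀ j, j ≠ i → Subsingleton (Coh.HH A.left L j)) :
    @Curv2.euler k _ A.left ⟨A.hom⟩ L = (-1) ^ i * (@hd A.left k _ ⟨A.hom⟩ L i : ℤ) := by
  letI : A.left.Over (Spec (CommRingCat.of k)) := ⟨A.hom⟩
  refine finsum_eq_single _ i fun j hj => ?_
  haveI := hvan j hj
  rw [Module.finrank_zero_of_subsingleton]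
  simp

theorem hd_pos (L : A.left.Modules) (hL : Coh.IsCoh L) (i : ℕ) (h : Nontrivial (Coh.HH A.left L i)) :
    0 < @hd A.left k _ ⟨A.hom⟩ L i := by
  letI : A.left.Over (Spec (CommRingCat.of k)) := ⟨A.hom⟩
  haveI : IsProper (A.left ↘ Spec (CommRingCat.of k)) := ‹IsProper A.hom›
  haveI := finite_HH (k := k) L hL i
  exact Module.finrank_pos

/-- Multiples by squares prime to the characteristic have the same index, and homogeneous dimensions. -/
theorem index_sq (L : A.left.Modules) (hL : PicF.IsInvertible L) (hfin : FixFinite (pc L hL))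
    (g : ℕ) (hg : topologicalKrullDim A.left = g) (i : ℕ) (hne : Nontrivial (Coh.HH A.left L i))
    (hvan : ∀ j, j ≠ i → Subsingleton (Coh.HH A.left L j)) {n : ℕ} (hn : 0 < n) (hnk : (n : k) ≠ 0) :
    (∀ j, j ≠ i → Subsingleton (Coh.HH A.left (CohB1.tensorPow L (n * n)) j)) ∧
      @hd A.left k _ ⟨A.hom⟩ (CohB1.tensorPow L (n * n)) i = n ^ (2 * g) * @hd A.left k _ ⟨A.hom⟩ L i := by
  letI : A.left.Over (Spec (CommRingCat.of k)) := ⟨A.hom⟩
  haveI : IsProper (A.left ↘ Spec (CommRingCat.of k)) := ‹IsProper A.hom›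
  haveI : IsCommMonObj A := isCommMonObj_of_av
  haveI : IsLocallyNoetherian A.left := LocallyOfFiniteType.isLocallyNoetherian A.hom
  let Lm := CohB1.tensorPow L (n * n)
  have hLm := H11Ample.isInvertible_tensorPow hL (n * n)
  have hpm : pc Lm hLm = (n * n) • pc L hL := pc_tensorPow L hL (n * n)
  obtain ⟨x, hx⟩ := exists_transl_pow hfin hn
  let φ : A ⟶ A := (𝟙 A) ^ n
  haveI := isMonHom_pow (A := A) n
  haveI : IsFinite φ.left := isFinite_pow hn
  haveI : Flat φ.left := flat_pow hn
  let w : k →+* Γ(A.left, ⊤) := (A.hom.appTop.hom).comp (Scheme.ΓSpecIso (CommRingCat.of k)).inv.hom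
  have h1 := nontrivial_HH_pullback φ.left (n ^ (2 * g)) (finrank_pow hn g hg) (w ((n ^ (2 * g) : ℕ) : k)⁻¹)
    (by rw [← map_natCast w, ← map_mul, mul_inv_cancel₀ (by rw [Nat.cast_pow]; exact pow_ne_zero _ hnk), map_one])
    L hL i hne
  have hp := H11Ample.isInvertible_pullback φ.left hL
  have hxp : pc _ hp = transl (pc Lm hLm) x := (pullP_pc _ L hL hp).trans (hx.trans (by rw [hpm]))
  obtain ⟨i', -, hvan', hne', -⟩ := exists_index Lm hLm (by rw [hpm]; exact fixFinite_nsmul hfin (Nat.mul_pos hn hn)) g hg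
  have hi : i' = i := by
    by_contra hcon
    haveI := subsingleton_HH_transl Lm _ hLm hp x hxp i (hvan' i (Ne.symm hcon))
    exact not_subsingleton (Coh.HH A.left ((Scheme.Modules.pullback φ.left).obj L) i) ‹_›
  subst hi
  refine ⟨hvan', ?_⟩
  obtain ⟨H, hH⟩ := exists_isAmple A
  have e1 := euler_pullback hH φ g hg.le (n ^ (2 * g)) (pow_ne_zero _ hn.ne') (finrank_pow hn g hg) L hL
  rw [euler_transl Lm _ hLm hp x hxp, euler_eq_of_concentrated Lm i' hvan', euler_eq_of_concentrated L i' hvan,
    mul_left_comm] at e1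
  exact_mod_cast mul_left_cancel₀ (pow_ne_zero _ (by norm_num : (-1 : ℤ) ≠ 0)) e1

/-- The index of the inverse image along an isogeny is the index. -/
theorem index_pullback (f : A ⟶ B) [IsMonHom f] [IsFinite f.left] [Flat f.left] [Surjective f.left]
    (L : B.left.Modules) (hL : PicF.IsInvertible L) (hfin : FixFinite (pc L hL))
    (i : ℕ) (hne : Nontrivial (Coh.HH B.left L i)) (hvan : ∀ j, j ≠ i → Subsingleton (Coh.HH B.left L j)) :
    FixFinite (pc _ (H11Ample.isInvertible_pullback f.left hL)) ∧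
      (∀ j, j ≠ i → Subsingleton (Coh.HH A.left ((Scheme.Modules.pullback f.left).obj L) j)) ∧
      Nontrivial (Coh.HH A.left ((Scheme.Modules.pullback f.left).obj L) i) := by
  classical
  letI : A.left.Over (Spec (CommRingCat.of k)) := ⟨A.hom⟩
  letI : B.left.Over (Spec (CommRingCat.of k)) := ⟨B.hom⟩
  haveI : IsProper (A.left ↘ Spec (CommRingCat.of k)) := ‹IsProper A.hom›
  haveI : IsProper (B.left ↘ Spec (CommRingCat.of k)) := ‹IsProper B.hom›
  haveI : IsLocallyNoetherian B.left := LocallyOfFiniteType.isLocallyNoetherian B.hom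
  haveI : CompactSpace B.left := QuasiCompact.compactSpace_of_compactSpace B.hom
  haveI : IsNoetherian B.left := {}
  haveI : IsIntegral B.left := GeometricallyIntegral.isIntegral_of_subsingleton B.hom
  haveI : IsIntegral A.left := GeometricallyIntegral.isIntegral_of_subsingleton A.hom
  obtain ⟨d, hd0, hd'⟩ := exists_degree f
  let F := (Scheme.Modules.pullback f.left).obj L
  have hF := H11Ample.isInvertible_pullback f.left hL
  have hFfin : FixFinite (pc F hF) := by
    rw [pullP_pc _ L hL]
    exact fixFinite_ev f d hd' hfin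
  refine ⟨hFfin, ?_⟩
  obtain ⟨g, hg⟩ := H25Grp.exists_nat_dim B.hom
  obtain ⟨gA, hgA⟩ := H25Grp.exists_nat_dim A.hom
  obtain ⟨i', -, hvan', hne', -⟩ := exists_index F hF hFfin gA hgA
  rcases eq_or_ne i' i with hi | hi
  · subst hi; exact ⟨hvan', hne'⟩
  exfalso
  obtain ⟨H, hH⟩ := exists_isAmple B
  let E := (Coh.push f.left).obj (Coh.structureModule A.left)
  let O := Coh.structureModule B.left
  have hEf : FlatMod.IsFinLocFree E := H29Disc.isFinLocFree_pushO f.left
  have hE : Coh.IsCoh E := H16Derived.KFlat.Stalk.isCoh_of_isFinLocFree hEf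
  have hO : Coh.IsCoh O := H11Ample.isCoh_of_isInvertible H11Ample.isInvertible_structureModule
  let ξ := genericPoint B.left
  obtain ⟨N, α, β, hN, -, hα, hβ⟩ := exists_compare hH hE hEf d ξ ((finrank_stalk_push f.left ξ).trans (hd' ξ)) hO
  have hsu : CohB1.support O = Set.univ := H25Euler.support_invertible H11Ample.isInvertible_structureModule
  have hle : ∀ M : B.left.Modules, CohB1.support M ⊆ CohB1.support O := fun M => hsu ▸ Set.subset_univ _
  have ih : ∀ M, Coh.IsCoh M → CohB1.support M ⊆ CohB1.support O → ξ ∉ CohB1.support M →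
      ∀ j, ∃ C, ∀ n, hd k ((TR (CohB1.tensorPow L n)).obj M) j ≤ C * wt g n := fun M hM _ hξ =>
    growth hH L hL g M hM (H25Euler.dim_lt_of_forall_ne (Y := B.left) (CohB1.support M)
      (H10Coh.isClosed_support M hM.2) (fun y _ => ⟨ξ, genericPoint_specializes y, hξ⟩)
      (hg.le.trans_lt (by exact_mod_cast Nat.lt_succ_self g)))
  obtain ⟨C₁, hC₁⟩ := hd_compare_twist (k := k) L hL ih α (LeadDev.isCoh_biproduct O hO) hN (hle _) (hle _) hα i
  obtain ⟨C₂, hC₂⟩ := hd_compare_twist (k := k) L hL ih β (H10Coh.TT.isCoh_tensorMod hO hE) hN (hle _) (hle _) hβ i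
  let c := hd k L i
  have hc : 0 < c := hd_pos L (H11Ample.isCoh_of_isInvertible hL) i hne
  obtain ⟨m, hm, hmb, hmk⟩ := exists_prime_gt k ((C₁ + C₂) * 2 ^ g + 1)
  have hm0 : 0 < m := hm.pos
  let n := m * m
  let P := CohB1.tensorPow L n
  have hP := H11Ample.isInvertible_tensorPow hL n
  have hB : hd k ((TR P).obj (⨁ fun _ : Fin d => O)) i = d * (m ^ (2 * g) * c) := by
    have e : (TR P).obj (⨁ fun _ : Fin d => O) ≅ ⨁ fun _ : Fin d => P :=
      (TR P).mapBiproduct _ ≪≫ biproduct.mapIso fun _ =>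
        eqToIso (H25Euler.tensorBi_flip_obj O P) ≪≫ H10Coh.Tw.leftUnitIso P
    rw [hd_congr e, hd_sum P (H11Ample.isCoh_of_isInvertible hP) d i,
      (index_sq L hL hfin g hg i hne hvan hm0 hmk).2]
  have hE0 : hd k ((TR P).obj ((TR E).obj O)) i = 0 := by
    haveI : (Coh.structureModule A.left).IsQuasicoherent :=
      (H11Ample.isCoh_of_isInvertible H11Ample.isInvertible_structureModule).1
    have hp := H11Ample.isInvertible_pullback f.left hP
    haveI := H10Coh.PF.isIso_ψ_of_isFinLocFree f.left (finLocFree_of_invertible hP) (Coh.structureModule A.left)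
    haveI : (CohB1.tensorMod (Coh.structureModule A.left) ((Scheme.Modules.pullback f.left).obj P)).IsQuasicoherent :=
      (H11Ample.isCoh_of_isInvertible (H11Ample.isInvertible_tensor H11Ample.isInvertible_structureModule hp)).1
    have e : (TR P).obj ((TR E).obj O) ≅
        (Coh.push f.left).obj (CohB1.tensorMod (Coh.structureModule A.left) ((Scheme.Modules.pullback f.left).obj P)) :=
      (TR P).mapIso (eqToIso (H25Euler.tensorBi_flip_obj O E) ≪≫ H10Coh.Tw.leftUnitIso E) ≪≫
        eqToIso (H25Euler.tensorBi_flip_obj E P) ≪≫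
          asIso (H16Derived.ProjFormula.ψ f.left (Coh.structureModule A.left) P)
    rw [hd_congr e]
    refine (H28Int.Push.finrank_HH_push k f.left (Over.w f) _ i).trans ?_
    obtain ⟨eP⟩ := H11Ample.exists_iso_pullback_tensorPow f.left hL n
    have hsq := (index_sq F hF hFfin gA hgA i' hne' hvan' hm0 hmk).1 i (Ne.symm hi)
    haveI : Subsingleton (Coh.HH A.left (CohB1.tensorMod (Coh.structureModule A.left)
        ((Scheme.Modules.pullback f.left).obj P)) i) :=
      H10Coh.subsingleton_HH_of_iso (H10Coh.Tw.leftUnitIso _ ≪≫ eP).symm i hsq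
    exact Module.finrank_zero_of_subsingleton
  have h1 := (hC₁ n).1
  have h2 := (hC₂ n).2
  rw [hB] at h1
  rw [hE0] at h2
  have h3 : d * (m ^ (2 * g) * c) ≤ (C₁ + C₂) * wt g n := by
    rw [add_mul]
    exact h1.trans ((Nat.add_le_add_right h2 _).trans (by omega))
  have h4 : m ^ (2 * g) ≤ (C₁ + C₂) * wt g n :=
    (Nat.le_mul_of_pos_right _ hc).trans ((Nat.le_mul_of_pos_left _ (Nat.pos_of_ne_zero hd0)).trans h3)
  rcases g with _ | g'
  · simp [wt] at h4
  have h5 : (n + 1) ^ g' ≤ 2 ^ g' * n ^ g' := by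
    rw [← mul_pow]; exact Nat.pow_le_pow_left (by have := Nat.mul_pos hm0 hm0; simp only [n]; omega) g'
  have h6 : m ^ (2 * (g' + 1)) = n * n ^ g' := by
    simp only [n]; rw [pow_mul, pow_succ', sq]
  have h7 : n * n ^ g' ≤ (C₁ + C₂) * 2 ^ g' * n ^ g' := by
    rw [← h6, _root_.mul_assoc]
    exact h4.trans (Nat.mul_le_mul_left _ h5)
  have h8 := Nat.le_of_mul_le_mul_right h7 (pow_pos (Nat.mul_pos hm0 hm0) g')
  have h9 : (C₁ + C₂) * 2 ^ g' ≤ (C₁ + C₂) * 2 ^ (g' + 1) :=
    Nat.mul_le_mul_left _ (Nat.pow_le_pow_right (by norm_num) (Nat.le_succ g'))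
  have h10 : m ≤ n := Nat.le_mul_of_pos_left m hm0
  omega

end Groth.Agent.H25Index
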