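import Groth.Agent.H25Index.FreeAt
import Groth.Agent.H25Euler.PushRank
import Groth.Agent.S0017
import Groth.Agent.H29Disc.Generic
import Groth.Agent.H10Coh.PushFinite
import Groth.Agent.H11Ample.RelQuasiAffine
import Groth.Agent.H25AbCube.Basic
import Mathlib.AlgebraicGeometry.Morphisms.FlatRank

/-!
# The direct image of the structure module along an isogeny
-/

set_option autoImplicit false
set_option linter.style.haveILetI false
set_option linter.unusedSectionVars false
set_option backward.isDefEq.respectTransparency false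
universe u

open CategoryTheory CategoryTheory.Limits MonoidalCategory CartesianMonoidalCategory AlgebraicGeometry
  TopologicalSpace Opposite MonObj GrpObj
open Groth.Agent

noncomputable section

namespace Groth.Agent.H25Index

/-- The stalk rank of the direct image of the structure module along a finite flat morphism. -/
theorem finrank_stalk_push {X Y : Scheme.{u}} (f : Y ⟶ X) [IsFinite f] [Flat f] (p : X) :
    Module.finrank (X.presheaf.stalk p) (((Coh.push f).obj (Coh.structureModule Y)).presheaf.stalk p) =
      f.finrank p := by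
  obtain ⟨V, hV, hyV, -⟩ := exists_isAffineOpen_mem_and_subset (X := X) (x := p) (U := ⊤) trivial
  rw [H22Alg.FiniteDegree.finrank_eq_rankAtStalk f hV ⟨_, hyV⟩]
  let x : V := ⟨p, hyV⟩
  let E := (Coh.push f).obj (Coh.structureModule Y)
  haveI : (Coh.structureModule Y).IsQuasicoherent :=
    (H11Ample.isCoh_of_isInvertible H11Ample.isInvertible_structureModule).1
  haveI hE : E.IsQuasicoherent := H10Coh.isQuasicoherent_pushforward_of_isAffineHom f _
  letI := TopCat.Presheaf.algebra_section_stalk X.presheaf x
  letI mst := Module.compHom (E.presheaf.stalk x.1) (algebraMap Γ(X, V) (X.presheaf.stalk x.1))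
  haveI := hV.isLocalization_stalk x
  haveI : IsScalarTower Γ(X, V) (X.presheaf.stalk x.1) (E.presheaf.stalk x.1) :=
    IsScalarTower.of_algebraMap_smul fun r z => rfl
  haveI := H29Fitt.isLocalizedModule_germLin E hE hV x
  show Module.finrank (X.presheaf.stalk x.1) (E.presheaf.stalk x.1) = _
  rw [H25Euler.finrank_eq_rankAtStalk_of_isLocalizedModule (hV.primeIdealOf x) (X.presheaf.stalk x.1)
    (H29Fitt.germLin E x)]
  letI := (f.app V).hom.toAlgebra
  exact congrFun (Module.rankAtStalk_eq_of_equiv ({ AddEquiv.refl Γ(E, V) with map_smul' := fun r z => rfl } :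
    Γ(E, V) ≃ₗ[Γ(X, V)] Γ(Y, f ⁻¹ᵁ V))) _

theorem free_stalk_push {X Y : Scheme.{u}} [IsLocallyNoetherian X] (f : Y ⟶ X) [IsFinite f] [Flat f] (p : X) :
    Module.Free (X.presheaf.stalk p) (((Coh.push f).obj (Coh.structureModule Y)).presheaf.stalk p) ∧
      Module.Finite (X.presheaf.stalk p) (((Coh.push f).obj (Coh.structureModule Y)).presheaf.stalk p) := by
  have hP : FlatMod.IsFinLocFree ((Coh.push f).obj (Coh.structureModule Y)) := H29Disc.isFinLocFree_pushO f
  haveI : Module.Flat (X.presheaf.stalk p) (((Coh.push f).obj (Coh.structureModule Y)).presheaf.stalk p) :=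
    H16Derived.KFlat.Stalk.isFlat_of_isFinLocFree hP p
  haveI : Module.Finite (X.presheaf.stalk p) (((Coh.push f).obj (Coh.structureModule Y)).presheaf.stalk p) :=
    H29Ref.finite_stalk _ (H16Derived.KFlat.Stalk.isCoh_of_isFinLocFree hP).2 p
  exact ⟨Module.free_of_flat_of_isLocalRing, inferInstance⟩

/-- The cohomology group of a finite sum of copies of a module. -/
theorem stalk_sum {X : Scheme.{u}} (M : X.Modules) (r : ℕ) (x : X) :
    Nonempty ((DerSch.stalkFunctor X x).obj (⨁ fun _ : Fin r => M) ≃ₗ[X.presheaf.stalk x]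
      (Fin r → (DerSch.stalkFunctor X x).obj M)) :=
  ⟨((DerSch.stalkFunctor X x).mapBiproduct (fun _ : Fin r => M) ≪≫ ModuleCat.biproductIsoPi _).toLinearEquiv⟩

variable {k : Type u} [Field k] {A B : Over (Spec (CommRingCat.of k))} [GrpObj A] [GrpObj B]

/-- Over a field a coherent module is free. -/
theorem exists_free_iso_field (R : (Spec (CommRingCat.of k)).Modules) (hR : FlatMod.IsFinLocFree R) :
    ∃ r : ℕ, Nonempty ((⨁ fun _ : Fin r => Coh.structureModule (Spec (CommRingCat.of k))) ≅ R) := by
  let S := Spec (CommRingCat.of k)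
  haveI : IsNoetherianRing (CommRingCat.of k) := inferInstanceAs (IsNoetherianRing k)
  haveI : IsLocallyNoetherian S := inferInstance
  haveI : Subsingleton S := inferInstanceAs (Subsingleton (PrimeSpectrum k))
  let x : S := IsLocalRing.closedPoint k
  haveI : Module.Flat (S.presheaf.stalk x) (R.presheaf.stalk x) :=
    H16Derived.KFlat.Stalk.isFlat_of_isFinLocFree hR x
  haveI : Module.Finite (S.presheaf.stalk x) (R.presheaf.stalk x) :=
    H29Ref.finite_stalk R (H16Derived.KFlat.Stalk.isCoh_of_isFinLocFree hR).2 x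
  haveI : Module.Free (S.presheaf.stalk x) (R.presheaf.stalk x) := Module.free_of_flat_of_isLocalRing
  obtain ⟨φ, hφ⟩ := exists_free_iso_at R x _ inferInstance inferInstance rfl (by
    refine eq_top_iff.2 fun v _ => ?_
    obtain ⟨U, hxU, s, rfl⟩ := R.presheaf.exists_germ_eq v
    have hU : U = ⊤ := Opens.ext (Set.eq_univ_of_forall fun y => by rwa [Subsingleton.elim y x])
    subst hU
    exact Submodule.subset_span ⟨s, rfl⟩)
  refine ⟨_, ⟨@asIso _ _ _ _ φ ?_⟩⟩
  have h : ∀ y : S, y ∉ CohB1.support (kernel φ) ∧ y ∉ CohB1.support (cokernel φ) := fun y => by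
    rw [Subsingleton.elim y x]
    exact H25Euler.notMem_support_kernel_cokernel φ hφ
  haveI : Mono φ := Preadditive.mono_of_isZero_kernel φ (H16Derived.KFlat.Stalk.isZero_of_stalk fun y =>
    (H25Euler.notMem_support_iff _ y).1 (h y).1)
  haveI : Epi φ := Preadditive.epi_of_isZero_cokernel φ (H16Derived.KFlat.Stalk.isZero_of_stalk fun y =>
    (H25Euler.notMem_support_iff _ y).1 (h y).2)
  exact isIso_of_mono_of_epi φ

/-- A homomorphism is a torsor under its kernel. -/
theorem isPullback_ker (f : A ⟶ B) [IsMonHom f] :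
    IsPullback (fst A (pullback f η[B]) * (snd A (pullback f η[B]) ≫ pullback.fst f η[B]))
      (fst A (pullback f η[B])) f f := by
  let K := pullback f η[B]
  let kι := pullback.fst f η[B]
  have hk : kι ≫ f = 1 := by
    rw [pullback.condition, Subsingleton.elim (pullback.snd f η[B]) (toUnit K)]
    exact rfl
  have hw : (fst A K * (snd A K ≫ kι)) ≫ f = fst A K ≫ f := by
    rw [MonObj.mul_comp, Category.assoc, hk, MonObj.comp_one, _root_.mul_one]
  refine ⟨⟨hw⟩, ⟨PullbackCone.IsLimit.mk _
    (fun s => lift s.snd (pullback.lift ((s.snd)⁻¹ * s.fst) (toUnit _) (by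
      rw [MonObj.mul_comp, GrpObj.inv_comp, s.condition, inv_mul_cancel]
      exact rfl)))
    (fun s => ?_) (fun s => lift_fst _ _) (fun s m h₁ h₂ => ?_)⟩⟩
  · rw [MonObj.comp_mul, lift_fst, lift_snd_assoc, pullback.lift_fst, mul_inv_cancel_left]
  · refine CartesianMonoidalCategory.hom_ext _ _ (h₂.trans (lift_fst _ _).symm) ?_
    rw [lift_snd]
    refine pullback.hom_ext ?_ (Subsingleton.elim _ _)
    rw [pullback.lift_fst, Category.assoc, ← h₁, MonObj.comp_mul, h₂, inv_mul_cancel_left]

/-- The pullback of the direct image of the structure module along an isogeny is free. -/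
theorem exists_pullback_push_free (f : A ⟶ B) [IsMonHom f] [IsFinite f.left] [Flat f.left] :
    ∃ r : ℕ, Nonempty ((Scheme.Modules.pullback f.left).obj ((Coh.push f.left).obj (Coh.structureModule A.left)) ≅
      ⨁ fun _ : Fin r => Coh.structureModule A.left) := by
  let K := pullback f η[B]
  have sq := (isPullback_ker f).map (Over.forget _)
  have hKfin : IsFinite K.hom := by
    have h := ((IsPullback.of_hasPullback f η[B]).map (Over.forget _))
    haveI : IsFinite (pullback.snd f η[B]).left := MorphismProperty.of_isPullback (P := @IsFinite) h ‹IsFinite f.left›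
    rw [← Over.w (pullback.snd f η[B])]
    haveI : IsIso (𝟙_ (Over (Spec (CommRingCat.of k)))).hom := inferInstanceAs (IsIso (𝟙 _))
    infer_instance
  haveI := hKfin
  have sq2 : IsPullback (snd A K).left (fst A K).left K.hom A.hom :=
    (IsPullback.of_hasPullback A.hom K.hom).flip
  have hO : ∀ Z : Scheme.{u}, Coh.IsQCoh (Coh.structureModule Z) := fun Z =>
    (H11Ample.isCoh_of_isInvertible H11Ample.isInvertible_structureModule).1
  haveI := hO
  haveI : (Coh.structureModule K.left).IsQuasicoherent := hO _
  haveI : IsLocallyNoetherian (Spec (CommRingCat.of k)) := by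
    haveI : IsNoetherianRing (CommRingCat.of k) := inferInstanceAs (IsNoetherianRing k)
    infer_instance
  obtain ⟨e₁⟩ := S0017.result f.left f.left _ _ sq (Coh.structureModule A.left)
  obtain ⟨e₂⟩ := S0017.result K.hom A.hom _ _ sq2 (Coh.structureModule K.left)
  haveI : Flat K.hom := inferInstance
  obtain ⟨r, ⟨e₃⟩⟩ := exists_free_iso_field ((Coh.push K.hom).obj (Coh.structureModule K.left))
    (H29Disc.isFinLocFree_pushO K.hom)
  obtain ⟨a⟩ := H11Ample.nonempty_pullback_structureModule_iso
    (fst A (pullback f η[B]) * (snd A (pullback f η[B]) ≫ pullback.fst f η[B])).left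
  obtain ⟨b⟩ := H11Ample.nonempty_pullback_structureModule_iso (snd A K).left
  obtain ⟨c⟩ := H11Ample.nonempty_pullback_structureModule_iso A.hom
  haveI : (Scheme.Modules.pullback A.hom).Additive :=
    (Scheme.Modules.pullbackPushforwardAdjunction A.hom).left_adjoint_additive
  exact ⟨r, ⟨e₁ ≪≫ (Coh.push (fst A K).left).mapIso (a ≪≫ b.symm) ≪≫ e₂.symm ≪≫
    (Scheme.Modules.pullback A.hom).mapIso e₃.symm ≪≫
    (Scheme.Modules.pullback A.hom).mapBiproduct _ ≪≫ biproduct.mapIso fun _ => c⟩⟩

/-- The direct image of the structure module along an isogeny is multiplied by its rank by itself. -/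
theorem exists_tensor_push_self (f : A ⟶ B) [IsMonHom f] [IsFinite f.left] [Flat f.left]
    [IsLocallyNoetherian B.left] :
    ∃ r : ℕ, Nonempty (CohB1.tensorMod ((Coh.push f.left).obj (Coh.structureModule A.left))
        ((Coh.push f.left).obj (Coh.structureModule A.left)) ≅
      ⨁ fun _ : Fin r => (Coh.push f.left).obj (Coh.structureModule A.left)) ∧
    ∀ p : B.left, f.left.finrank p ≠ 0 → f.left.finrank p = r := by
  let E := (Coh.push f.left).obj (Coh.structureModule A.left)
  obtain ⟨r, ⟨e⟩⟩ := exists_pullback_push_free f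
  have hP : FlatMod.IsFinLocFree E := H29Disc.isFinLocFree_pushO f.left
  haveI : (Coh.structureModule A.left).IsQuasicoherent :=
    (H11Ample.isCoh_of_isInvertible H11Ample.isInvertible_structureModule).1
  haveI := H10Coh.PF.isIso_ψ_of_isFinLocFree f.left hP (Coh.structureModule A.left)
  haveI : (Scheme.Modules.pushforward f.left).Additive := inferInstance
  let ψ : CohB1.tensorMod E E ≅ ⨁ fun _ : Fin r => E :=
    asIso (H16Derived.ProjFormula.ψ f.left (Coh.structureModule A.left) E) ≪≫
      (Coh.push f.left).mapIso (H10Coh.Tw.leftUnitIso _ ≪≫ e) ≪≫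
      (Scheme.Modules.pushforward f.left).mapBiproduct _
  refine ⟨r, ⟨ψ⟩, fun p hp => ?_⟩
  obtain ⟨hfree, hfin⟩ := free_stalk_push f.left p
  let S := DerSch.stalkFunctor B.left p
  haveI : Module.Free (B.left.presheaf.stalk p) (S.obj E) := hfree
  haveI : Module.Finite (B.left.presheaf.stalk p) (S.obj E) := hfin
  obtain ⟨e'⟩ := stalk_sum E r p
  have h1 := (((H16Derived.KFlat.Stalk.rightIso E p).app E).symm ≪≫ S.mapIso ψ).toLinearEquiv.trans e'
  have h2 := h1.finrank_eq
  change Module.finrank (B.left.presheaf.stalk p) (TensorProduct (B.left.presheaf.stalk p) (S.obj E) (S.obj E)) = _ at h2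
  rw [show Module.finrank (B.left.presheaf.stalk p) (TensorProduct (B.left.presheaf.stalk p) (S.obj E) (S.obj E)) =
      Module.finrank (B.left.presheaf.stalk p) (S.obj E) * Module.finrank (B.left.presheaf.stalk p) (S.obj E) from
    Module.finrank_tensorProduct, Module.finrank_pi_fintype, Finset.sum_const, Finset.card_univ,
    Fintype.card_fin, smul_eq_mul,
    show Module.finrank (B.left.presheaf.stalk p) (S.obj E) = f.left.finrank p from finrank_stalk_push f.left p] at h2
  exact Nat.eq_of_mul_eq_mul_right (Nat.pos_of_ne_zero hp) h2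

end Groth.Agent.H25Index
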