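import Groth.Agent.H25Index.Roots
import Groth.Agent.H25Index.Product
import Groth.Agent.H25Index.HHIneq
import Groth.Agent.H8Props.AmpleBatch
import Groth.Agent.H29RR.Consts
import Groth.Agent.H10Coh.SerreVanishing2

/-!
# The Euler characteristic of an exterior sum of invertible classes
-/

set_option autoImplicit false
set_option linter.style.haveILetI false
set_option linter.unusedSectionVars false
set_option backward.isDefEq.respectTransparency false
set_option synthInstance.maxHeartbeats 400000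
set_option maxHeartbeats 2000000
universe u

open CategoryTheory CategoryTheory.Limits MonoidalCategory CartesianMonoidalCategory MonObj AlgebraicGeometry
  TopologicalSpace Opposite
open Groth.Agent Groth.Agent.H25AbCube

noncomputable section

namespace Groth.Agent.H25Index

variable {k : Type u} [Field k]

theorem appTop_scalars {X Y : Scheme.{u}} (f : X ⟶ Y) (πX : X ⟶ Spec (CommRingCat.of k))
    (πY : Y ⟶ Spec (CommRingCat.of k)) (h : f ≫ πY = πX) (c : CommRingCat.of k) :
    f.appTop (πY.appTop ((Scheme.ΓSpecIso (CommRingCat.of k)).inv c)) =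
      πX.appTop ((Scheme.ΓSpecIso (CommRingCat.of k)).inv c) := by
  subst h
  rfl

/-- Sections of a direct image. -/
theorem hd_push {X Y : Scheme.{u}} (f : X ⟶ Y) (πX : X ⟶ Spec (CommRingCat.of k))
    (πY : Y ⟶ Spec (CommRingCat.of k)) (h : f ≫ πY = πX) (M : X.Modules) :
    @hd Y k _ ⟨πY⟩ ((Scheme.Modules.pushforward f).obj M) 0 = @hd X k _ ⟨πX⟩ M 0 := by
  letI : X.Over (Spec (CommRingCat.of k)) := ⟨πX⟩
  letI : Y.Over (Spec (CommRingCat.of k)) := ⟨πY⟩
  let N := (Scheme.Modules.pushforward f).obj M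
  let e : Coh.HH Y N 0 ≃+ Coh.HH X M 0 := (H10Coh.HH0Equiv N).trans (H10Coh.HH0Equiv M).symm
  have he : ∀ (c : k) x, e (c • x) = c • e x := fun c x => by
    apply (H10Coh.HH0Equiv M).injective
    show H10Coh.HH0Equiv M ((H10Coh.HH0Equiv M).symm (H10Coh.HH0Equiv N (c • x))) = _
    rw [AddEquiv.apply_symm_apply]
    refine ((H10Coh.HH0Equiv_smul N (πY.appTop ((Scheme.ΓSpecIso (CommRingCat.of k)).inv c)) x).trans ?_).trans
      (H10Coh.HH0Equiv_smul M (πX.appTop ((Scheme.ΓSpecIso (CommRingCat.of k)).inv c)) (e x)).symm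
    rw [← appTop_scalars f πX πY h c,
      show H10Coh.HH0Equiv M (e x) = H10Coh.HH0Equiv N x from AddEquiv.apply_symm_apply _ _]
    rfl
  exact ({ e with map_smul' := he } : Coh.HH Y N 0 ≃ₗ[k] Coh.HH X M 0).finrank_eq

variable [IsAlgClosed k] {A B : Over (Spec (CommRingCat.of k))} [IsProper A.hom] [IsProper B.hom]

/-- Global sections of an exterior product. -/
theorem hd_zero_product (M : A.left.Modules) (hM : PicF.IsInvertible M) (N : B.left.Modules)
    (hN : PicF.IsInvertible N) :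
    @hd (A ⊗ B).left k _ ⟨(A ⊗ B).hom⟩ (CohB1.tensorMod ((Scheme.Modules.pullback (snd A B).left).obj N)
      ((Scheme.Modules.pullback (fst A B).left).obj M)) 0 =
      @hd A.left k _ ⟨A.hom⟩ M 0 * @hd B.left k _ ⟨B.hom⟩ N 0 := by
  letI : A.left.Over (Spec (CommRingCat.of k)) := ⟨A.hom⟩
  letI : B.left.Over (Spec (CommRingCat.of k)) := ⟨B.hom⟩
  letI : (Spec (CommRingCat.of k)).Over (Spec (CommRingCat.of k)) := ⟨𝟙 _⟩
  haveI : IsProper (B.left ↘ Spec (CommRingCat.of k)) := ‹IsProper B.hom›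
  haveI : IsProper ((Spec (CommRingCat.of k)) ↘ Spec (CommRingCat.of k)) :=
    inferInstanceAs (IsProper (𝟙 (Spec (CommRingCat.of k))))
  let π := A.hom
  let π' := B.hom
  let p := (fst A B).left
  let q := (snd A B).left
  haveI : IsProper q := MorphismProperty.pullback_snd (P := @IsProper) A.hom B.hom inferInstance
  haveI : IsLocallyNoetherian B.left := LocallyOfFiniteType.isLocallyNoetherian B.hom
  haveI : Flat π' := inferInstance
  have hMc := H11Ample.isCoh_of_isInvertible hM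
  haveI : Coh.IsQCoh M := hMc.1
  haveI : M.IsQuasicoherent := hMc.1
  have hsq : IsPullback p q π π' := IsPullback.of_hasPullback π π'
  let K' := CohB1.tensorMod ((Scheme.Modules.pullback q).obj N) ((Scheme.Modules.pullback p).obj M)
  haveI : (Scheme.Modules.pushforward π).IsRightAdjoint :=
    (Scheme.Modules.pullbackPushforwardAdjunction π).isRightAdjoint
  haveI : PreservesFiniteLimits (Scheme.Modules.pushforward π) := inferInstance
  haveI : (Scheme.Modules.pushforward q).IsRightAdjoint :=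
    (Scheme.Modules.pullbackPushforwardAdjunction q).isRightAdjoint
  haveI : PreservesFiniteLimits (Scheme.Modules.pushforward q) := inferInstance
  obtain ⟨r, ⟨er⟩⟩ := H26Def.exists_iso_freeMod_of_field k _ (H10Coh.isCoh_rpush π M hMc 0)
  obtain ⟨eP⟩ := S0033.result π π' p q hsq M 0
  obtain ⟨ep⟩ := H10Coh.PF.nonempty_projectionFormula' q ((Scheme.Modules.pullback p).obj M)
    (E := N) (H23Para.isFinLocFree_of_isInvertible hN) 0
  let i₁ : (Scheme.Modules.pushforward q).obj K' ≅ (H10Coh.PF.TR N).obj (FlatMod.freeMod B.left r) :=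
    ((Scheme.Modules.pushforward q).rightDerivedZeroIsoSelf.app K').symm ≪≫
    ep.symm ≪≫ H10Coh.Tw.commIso _ _ ≪≫ (H10Coh.PF.TR N).mapIso (eP.symm ≪≫
      (Scheme.Modules.pullback π').mapIso er ≪≫ H16Derived.KFlat.Stalk.freeModPullbackIso π' r)
  let i₂ : (Scheme.Modules.pushforward q).obj K' ≅ ⨁ fun _ : Fin r => N :=
    i₁ ≪≫ (H10Coh.PF.TR N).mapIso (biproduct.isoCoproduct fun _ : Fin r => Coh.structureModule B.left).symm ≪≫
      (H10Coh.PF.TR N).mapBiproduct _ ≪≫ biproduct.mapIso fun _ => H10Coh.Tw.leftUnitIso N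
  let i₀ : (Scheme.Modules.pushforward π).obj M ≅
      ⨁ fun _ : Fin r => Coh.structureModule (Spec (CommRingCat.of k)) :=
    ((Scheme.Modules.pushforward π).rightDerivedZeroIsoSelf.app M).symm ≪≫ er ≪≫
      (biproduct.isoCoproduct fun _ : Fin r => Coh.structureModule (Spec (CommRingCat.of k))).symm
  have h1 := hd_congr (k := k) i₂ 0
  rw [hd_push q (A ⊗ B).hom π' (Over.w (snd A B)) K', hd_sum N (H11Ample.isCoh_of_isInvertible hN)] at h1
  have h2 := hd_congr (k := k) i₀ 0
  rw [hd_push π π (𝟙 _) (Category.comp_id _) M, hd_sum _ (H11Ample.isCoh_of_isInvertible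
    H11Ample.isInvertible_structureModule)] at h2
  rw [show hd k (Coh.structureModule (Spec (CommRingCat.of k))) 0 = 1 from
    H29RR.finrank_h0_structure k _, _root_.mul_one] at h2
  rw [h1, ← h2]

/-- Large twists by an ample class have only global sections. -/
theorem exists_chiCls_eq_hd {X : Over (Spec (CommRingCat.of k))} [IsProper X.hom] {H : X.left.Modules}
    (hH : CohB1.IsAmple H) (u : PC X.left) :
    letI : X.left.Over (Spec (CommRingCat.of k)) := ⟨X.hom⟩
    ∃ m₀ : ℕ, ∀ m, m₀ ≤ m → ∀ (M : X.left.Modules) (hM : PicF.IsInvertible M),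
      pc M hM = u + m • pc H hH.1 → chiCls k (u + m • pc H hH.1) = hd k M 0 := by
  letI : X.left.Over (Spec (CommRingCat.of k)) := ⟨X.hom⟩
  obtain ⟨L, hL, rfl⟩ := exists_rep u
  obtain ⟨m₀, hm₀⟩ := H10Coh.Tw.exists_vanishing_ample X.hom hH L (H11Ample.isCoh_of_isInvertible hL)
  refine ⟨m₀, fun m hm M hM e => ?_⟩
  obtain ⟨h, e'⟩ := pc_twist H L hH.1 hL m
  obtain ⟨i⟩ := (pc_eq_iff hM h).1 (e.trans e'.symm)
  rw [← e, chiCls_pc, Curv2.euler, finsum_eq_single _ 0 fun j hj => ?_]
  · rw [pow_zero, _root_.one_mul]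
    rfl
  haveI : Subsingleton (H10Coh.HnM (ShStab.twist X.left H L m) j ⊤) :=
    hm₀ m hm j (Nat.pos_of_ne_zero hj)
  haveI : Subsingleton (Coh.HH X.left M j) :=
    H10Coh.subsingleton_HH_of_iso i.symm j (H10Coh.HHEquiv _ j).toEquiv.subsingleton
  rw [Module.finrank_zero_of_subsingleton]
  simp

/-- The Euler characteristic of an exterior sum. -/
theorem chiCls_box {HA : A.left.Modules} (hA : CohB1.IsAmple HA) {HB : B.left.Modules} (hB : CohB1.IsAmple HB)
    {gA gB gP : ℕ} (hgA : topologicalKrullDim A.left = gA) (hgB : topologicalKrullDim B.left = gB)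
    (hgP : topologicalKrullDim (A ⊗ B).left = gP) (u : PC A.left) (v : PC B.left) :
    @chiCls (A ⊗ B).left k _ ⟨(A ⊗ B).hom⟩ (ev u (fst A B) + ev v (snd A B)) =
      @chiCls A.left k _ ⟨A.hom⟩ u * @chiCls B.left k _ ⟨B.hom⟩ v := by
  letI : A.left.Over (Spec (CommRingCat.of k)) := ⟨A.hom⟩
  letI : B.left.Over (Spec (CommRingCat.of k)) := ⟨B.hom⟩
  letI : (A ⊗ B).left.Over (Spec (CommRingCat.of k)) := ⟨(A ⊗ B).hom⟩
  haveI : IsProper (A.left ↘ Spec (CommRingCat.of k)) := ‹IsProper A.hom›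
  haveI : IsProper (B.left ↘ Spec (CommRingCat.of k)) := ‹IsProper B.hom›
  haveI : IsProper (A ⊗ B).hom := inferInstance
  haveI : IsProper ((A ⊗ B).left ↘ Spec (CommRingCat.of k)) := ‹IsProper (A ⊗ B).hom›
  let p := (fst A B).left
  let q := (snd A B).left
  let G := CohB1.tensorMod ((Scheme.Modules.pullback p).obj HA) ((Scheme.Modules.pullback q).obj HB)
  have hG : CohB1.IsAmple G := H8Props.Ample.isAmple_prod A.hom B.hom hA hB
  have hGc : pc G hG.1 = ev (pc HA hA.1) (fst A B) + ev (pc HB hB.1) (snd A B) := by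
    rw [pc_tensor (H11Ample.isInvertible_pullback p hA.1) (H11Ample.isInvertible_pullback q hB.1),
      pullP_pc _ HA hA.1, pullP_pc _ HB hB.1]
    rfl
  let w := ev u (fst A B) + ev v (snd A B)
  obtain ⟨P, -, hP⟩ := exists_line_poly (k := k) hgP G hG w
  obtain ⟨Q₁, -, hQ₁⟩ := exists_line_poly (k := k) hgA HA hA u
  obtain ⟨Q₂, -, hQ₂⟩ := exists_line_poly (k := k) hgB HB hB v
  obtain ⟨a, ha⟩ := exists_chiCls_eq_hd (X := A) hA u
  obtain ⟨b, hb⟩ := exists_chiCls_eq_hd (X := B) hB v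
  obtain ⟨c, hc⟩ := exists_chiCls_eq_hd (X := A ⊗ B) hG w
  have hPQ : P = Q₁ * Q₂ := by
    refine Polynomial.eq_of_infinite_eval_eq _ _ (((Set.Ici_infinite (a + b + c)).image
      (f := fun m : ℕ => (m : ℚ)) Nat.cast_injective.injOn).mono ?_)
    rintro _ ⟨m, hm, rfl⟩
    have hm' : a + b + c ≤ m := hm
    obtain ⟨M, hM, eM⟩ := exists_rep (u + m • pc HA hA.1)
    obtain ⟨N, hN, eN⟩ := exists_rep (v + m • pc HB hB.1)
    have hK := H11Ample.isInvertible_tensor (H11Ample.isInvertible_pullback q hN)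
      (H11Ample.isInvertible_pullback p hM)
    have eK : pc _ hK = w + m • pc G hG.1 := by
      rw [pc_tensor (H11Ample.isInvertible_pullback q hN) (H11Ample.isInvertible_pullback p hM),
        pullP_pc _ N hN, pullP_pc _ M hM, eM, eN, hGc]
      simp only [map_add, map_nsmul, w, ev, p, q, smul_add]
      abel
    show P.eval ((m : ℕ) : ℚ) = (Q₁ * Q₂).eval ((m : ℕ) : ℚ)
    rw [Polynomial.eval_mul, show ((m : ℕ) : ℚ) = ((m : ℤ) : ℚ) from (Int.cast_natCast m).symm, ← hP, ← hQ₁, ← hQ₂,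
      natCast_zsmul, natCast_zsmul, natCast_zsmul, hc m (by omega) _ hK eK, ha m (by omega) M hM eM,
      hb m (by omega) N hN eN, hd_zero_product M hM N hN]
    push_cast
    ring
  have h0 := congrArg (Polynomial.eval ((0 : ℤ) : ℚ)) hPQ
  rw [Polynomial.eval_mul, ← hP, ← hQ₁, ← hQ₂, zero_smul, zero_smul, zero_smul, add_zero, add_zero, add_zero] at h0
  exact_mod_cast h0

/-- The Euler characteristic of the opposite class. -/
theorem chiCls_neg [GrpObj A] [GeometricallyIntegral A.hom] {g : ℕ} (hg : topologicalKrullDim A.left = g)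
    (v : PC A.left) :
    @chiCls A.left k _ ⟨A.hom⟩ (-v) = (-1) ^ g * @chiCls A.left k _ ⟨A.hom⟩ v := by
  letI : A.left.Over (Spec (CommRingCat.of k)) := ⟨A.hom⟩
  haveI : IsProper (A.left ↘ Spec (CommRingCat.of k)) := ‹IsProper A.hom›
  obtain ⟨H, hH⟩ := exists_isAmple A
  obtain ⟨Q, hQ, hQe⟩ := exists_topForm (k := k) hg hH fun _ : Fin 1 => v
  have key : ∀ (w : PC A.left) (b : ℤ), b • v = w →
      (chiCls k w : ℚ) = MvPolynomial.eval (fun _ : Fin 1 => (b : ℚ)) Q := by
    intro w b hw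
    obtain ⟨P, hP, hPc⟩ := hQe fun _ => b
    simp only [Fin.sum_univ_one] at hP
    rw [hw] at hP
    have hPe : P = Polynomial.C (chiCls k w : ℚ) * Polynomial.X ^ g := by
      refine Polynomial.eq_of_infinite_eval_eq _ _ (((Set.Ici_infinite 1).image
        (f := fun m : ℕ => (m : ℚ)) Nat.cast_injective.injOn).mono ?_)
      rintro _ ⟨m, hm, rfl⟩
      show P.eval ((m : ℕ) : ℚ) = _
      rw [hP, chiCls_nsmul w hg hm, Polynomial.eval_mul, Polynomial.eval_C, Polynomial.eval_pow, Polynomial.eval_X]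
      push_cast
      ring
    rw [← hPc, hPe, Polynomial.coeff_C_mul_X_pow, if_pos rfl]
  have h1 := key v 1 (one_zsmul v)
  have h2 := key (-v) (-1) (neg_one_zsmul v)
  have hhom : MvPolynomial.eval (fun _ : Fin 1 => ((-1 : ℤ) : ℚ)) Q =
      (-1) ^ g * MvPolynomial.eval (fun _ : Fin 1 => ((1 : ℤ) : ℚ)) Q := by
    rw [show (fun _ : Fin 1 => ((-1 : ℤ) : ℚ)) = fun _ => (-1 : ℚ) * 1 by simp, Int.cast_one]
    simp only [MvPolynomial.eval_eq, Finset.mul_sum]
    refine Finset.sum_congr rfl fun d hd => ?_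
    rw [← hQ (MvPolynomial.mem_support_iff.1 hd)]
    simp [Finsupp.weight, Finsupp.linearCombination, Finsupp.sum, Finset.prod_pow_eq_pow_sum, mul_comm]
  rw [hhom, ← h1] at h2
  exact_mod_cast h2

end Groth.Agent.H25Index
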