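import Groth.Agent.H25Index.RootsMain

/-!
# The line through any class in an ample direction

The class need not be non-degenerate.
-/

set_option autoImplicit false
set_option linter.style.haveILetI false
set_option linter.unusedSectionVars false
set_option backward.isDefEq.respectTransparency false
set_option synthInstance.maxHeartbeats 400000
set_option maxHeartbeats 1000000
universe u

open CategoryTheory CategoryTheory.Limits MonoidalCategory CartesianMonoidalCategory AlgebraicGeometry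
  TopologicalSpace Opposite
open Groth.Agent Groth.Agent.H25AbCube Groth.Agent.H25Pic0 Groth.Agent.H25AbCube.GeomTate

noncomputable section

attribute [local instance] overOf

namespace Groth.Agent.H25Index

variable {k : Type u} [Field k] [IsAlgClosed k] {A : Over (Spec (CommRingCat.of k))} [GrpObj A]
  [IsProper A.hom] [GeometricallyIntegral A.hom]

/-- The roots along a line in an ample direction are real, and count the index at the other points. -/
theorem roots_line {g : ℕ} (hg : topologicalKrullDim A.left = g) (ℓ : PC A.left) {H : A.left.Modules}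
    (hH : CohB1.IsAmple H) {Φ : Polynomial ℚ}
    (hΦ' : ∀ t : ℤ, (chiCls k (ℓ + t • pc H hH.1) : ℚ) = Φ.eval (t : ℚ)) :
    Φ.map (algebraMap ℚ ℝ) ≠ 0 ∧ Multiset.card (Φ.map (algebraMap ℚ ℝ)).roots = g ∧
      ∀ (a : ℤ) (b : ℕ), 0 < b → (Φ.map (algebraMap ℚ ℝ)).eval ((a : ℝ) / b) ≠ 0 →
        IsIndex (cl ℓ (pc H hH.1) a b)
          (Multiset.card ((Φ.map (algebraMap ℚ ℝ)).roots.filter fun t => (a : ℝ) / b < t)) := by
  haveI : CompactSpace A.left := QuasiCompact.compactSpace_of_compactSpace A.hom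
  haveI : QuasiSeparatedSpace A.left := quasiSeparatedSpace_of_quasiSeparated A.hom
  obtain ⟨Q, hQ, hQe⟩ := exists_line_poly (k := k) hg H hH ℓ
  obtain rfl : Φ = Q := by
    refine Polynomial.eq_of_infinite_eval_eq _ _ ((Set.infinite_range_of_injective
      (f := fun t : ℤ => (t : ℚ)) Int.cast_injective).mono ?_)
    rintro _ ⟨t, rfl⟩
    show Φ.eval (t : ℚ) = Q.eval (t : ℚ)
    rw [← hΦ' t, hQe t]
  let J := jv ℓ (pc H hH.1)
  let P := Φ.map (algebraMap ℚ ℝ)
  have hcast : ∀ t : ℚ, P.eval (t : ℝ) = ((Φ.eval t : ℚ) : ℝ) := fun t => by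
    rw [show ((t : ℝ)) = algebraMap ℚ ℝ t from (eq_ratCast _ _).symm, Polynomial.eval_map_algebraMap,
      Polynomial.aeval_algebraMap_apply_eq_algebraMap_eval, eq_ratCast]
  have hspec : ∀ (a : ℤ) (j : ℕ), IsIndex (ℓ + a • pc H hH.1) j → J (a : ℚ) = j ∧ Φ.eval (a : ℚ) ≠ 0 := by
    intro a j hj
    have hc : IsIndex (cl ℓ (pc H hH.1) a 1) j := by rw [cl, one_nsmul]; exact hj
    have h0 : Φ.eval (a : ℚ) ≠ 0 := by
      rw [← hΦ']
      exact Int.cast_ne_zero.2 (chiCls_ne_zero hj)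
    have he : (a : ℚ) / ((1 : ℕ) : ℚ) = a := by simp
    have h := isIndex_jv hg hH hΦ' a Nat.one_pos (by rwa [he])
    rw [he] at h
    exact ⟨h.unique hc, h0⟩
  obtain ⟨L, hL, hLℓ⟩ := exists_rep ℓ
  obtain ⟨L', hL', hL'ℓ⟩ := exists_rep (-ℓ)
  have hample : ∀ (M : A.left.Modules) (hM : PicF.IsInvertible M), ∃ T : ℕ, ∀ n, T ≤ n →
      IsIndex (n • pc H hH.1 + pc M hM) 0 := fun M hM => by
    obtain ⟨T, -, hT⟩ := H11Ample.eventually_ample_tensor hH hM
    refine ⟨T, fun n hn => ?_⟩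
    obtain ⟨h1, e1⟩ := exists_pc_tensorPow hH.1 n
    have h := isIndex_ample (hT n hn).1
    rwa [pc_tensor h1 hM, e1] at h
  obtain ⟨T, hT⟩ := hample L hL
  have hposI : ∀ n : ℕ, T ≤ n → IsIndex (ℓ + (n : ℤ) • pc H hH.1) 0 := fun n hn => by
    rw [natCast_zsmul, add_comm, ← hLℓ]; exact hT n hn
  have hpos : ∃ T : ℕ, ∀ n : ℕ, T ≤ n → J (n : ℚ) = 0 := ⟨T, fun n hn => by
    have h := (hspec (n : ℤ) 0 (hposI n hn)).1
    rwa [Int.cast_natCast] at h⟩
  have hneg : ∃ T : ℕ, ∀ n : ℕ, T ≤ n → J (-(n : ℚ)) = g := by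
    obtain ⟨T, hT⟩ := hample L' hL'
    refine ⟨T, fun n hn => ?_⟩
    have h1 := ((hT n hn).le hg).2
    rw [hL'ℓ, neg_add, neg_neg, Nat.sub_zero, add_comm, ← natCast_zsmul, ← neg_smul] at h1
    have h := (hspec (-(n : ℤ)) g h1).1
    rwa [Int.cast_neg, Int.cast_natCast] at h
  have hneT := (hspec (T : ℤ) 0 (hposI T le_rfl)).2
  have hP : P ≠ 0 := fun h => hneT (by
    have := hcast ((T : ℤ) : ℚ)
    rw [h, Polynomial.eval_zero] at this
    exact_mod_cast this.symm)
  have hdeg : P.natDegree ≤ g := by rw [Polynomial.natDegree_map]; exact hQ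
  have hdrops := drops hg hH hΦ'
  have hcount := fun (x : ℚ) (hx : P.eval (x : ℝ) ≠ 0) => hdrops.count hP hdeg hneg hpos x hx
  obtain ⟨c1, c2, -⟩ := hcount ((T : ℤ) : ℚ) (by rw [hcast]; exact Rat.cast_ne_zero.2 hneT)
  refine ⟨hP, c1.trans c2, fun a b hb hab => ?_⟩
  have hab' : P.eval (((a : ℚ) / b : ℚ) : ℝ) ≠ 0 := by push_cast; exact hab
  obtain ⟨-, -, h3⟩ := hcount ((a : ℚ) / b) hab'
  rw [hcast] at hab'
  have h := isIndex_jv hg hH hΦ' a hb (Rat.cast_ne_zero.1 hab')
  rw [h3] at h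
  simpa using h

/-- Adding an ample class does not raise the index. -/
theorem IsIndex.le_add_ample {w : PC A.left} {i i' : ℕ} (hi : IsIndex w i) {α : A.left.Modules}
    (hα : CohB1.IsAmple α) (hi' : IsIndex (w + pc α hα.1) i') : i' ≤ i := by
  haveI : IsIntegral A.left := GeometricallyIntegral.isIntegral_of_subsingleton A.hom
  obtain ⟨g, hg⟩ := H25Grp.exists_nat_dim A.hom
  obtain ⟨Φ, -, hΦ⟩ := exists_line_poly (k := k) hg α hα w
  obtain ⟨-, -, hr⟩ := roots_line hg w hα hΦ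
  let P := Φ.map (algebraMap ℚ ℝ)
  have hev : ∀ a : ℤ, IsIndex (w + a • pc α hα.1) (if a = 0 then i else i') →
      P.eval ((a : ℝ) / ((1 : ℕ) : ℝ)) ≠ 0 := fun a ha => by
    rw [show ((a : ℝ) / ((1 : ℕ) : ℝ)) = algebraMap ℚ ℝ (a : ℚ) by simp, Polynomial.eval_map_algebraMap,
      Polynomial.aeval_algebraMap_apply_eq_algebraMap_eval, map_ne_zero, ← hΦ]
    exact Int.cast_ne_zero.2 (chiCls_ne_zero ha)
  have e0 : IsIndex (w + (0 : ℤ) • pc α hα.1) (if (0 : ℤ) = 0 then i else i') := by simpa using hi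
  have e1 : IsIndex (w + (1 : ℤ) • pc α hα.1) (if (1 : ℤ) = 0 then i else i') := by simpa using hi'
  have h0 := hr 0 1 Nat.one_pos (hev 0 e0)
  have h1 := hr 1 1 Nat.one_pos (hev 1 e1)
  rw [cl, one_nsmul, zero_smul, add_zero] at h0
  rw [cl, one_nsmul, one_smul] at h1
  rw [hi.unique h0, hi'.unique h1]
  refine Multiset.card_le_card (Multiset.monotone_filter_right _ fun t ht => ?_)
  simp only [Int.cast_zero, Int.cast_one, Nat.cast_one, div_one] at ht ⊢
  exact lt_trans one_pos ht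

/-- The indices of a class pushed a little along an ample class and against it, and the multiplicity of the
root at zero. -/
theorem exists_small {g : ℕ} (hg : topologicalKrullDim A.left = g) (ℓ : PC A.left) {H : A.left.Modules}
    (hH : CohB1.IsAmple H) {Φ : Polynomial ℚ}
    (hΦ : ∀ t : ℤ, (chiCls k (ℓ + t • pc H hH.1) : ℚ) = Φ.eval (t : ℚ)) :
    ∃ p : ℕ, ∀ N : ℕ, 0 < N → ∃ B : ℕ, 0 < B ∧ ∀ b, B ≤ b →
      IsIndex (b • ℓ + N • pc H hH.1) p ∧ IsIndex (b • ℓ - N • pc H hH.1) (p + Φ.rootMultiplicity 0) := by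
  obtain ⟨hP, -, hr⟩ := roots_line hg ℓ hH hΦ
  let P := Φ.map (algebraMap ℚ ℝ)
  let S := P.roots.toFinset.erase 0
  obtain ⟨δ, hδ, hδS⟩ : ∃ δ : ℝ, 0 < δ ∧ ∀ t ∈ S, δ ≤ |t| := by
    rcases S.eq_empty_or_nonempty with hS | hS
    · exact ⟨1, one_pos, fun t ht => absurd ht (by simp [hS])⟩
    · obtain ⟨s, hs, hmin⟩ := S.exists_min_image (fun t => |t|) hS
      exact ⟨|s|, abs_pos.2 (Finset.ne_of_mem_erase hs), hmin⟩
  have hsmall : ∀ t : ℝ, P.eval t = 0 → |t| < δ → t = 0 := fun t ht hlt => by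
    by_contra h0
    exact not_le.2 hlt (hδS t (Finset.mem_erase.2 ⟨h0, Multiset.mem_toFinset.2 ((Polynomial.mem_roots hP).2 ht)⟩))
  refine ⟨Multiset.card (P.roots.filter fun t => 0 < t), fun N hN => ?_⟩
  obtain ⟨B, hB⟩ := exists_nat_gt ((N : ℝ) / δ)
  refine ⟨B + 1, B.succ_pos, fun b hb => ?_⟩
  have hb0 : 0 < b := B.succ_pos.trans_le hb
  let ε : ℝ := (N : ℝ) / b
  have hbR : (0 : ℝ) < b := by exact_mod_cast hb0
  have hε : 0 < ε := div_pos (by exact_mod_cast hN) hbR
  have hεδ : ε < δ := by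
    rw [div_lt_iff₀ hδ] at hB
    rw [div_lt_iff₀ hbR]
    have h : (B : ℝ) + 1 ≤ b := by exact_mod_cast hb
    nlinarith
  have hne : ∀ t : ℝ, |t| = ε → P.eval t ≠ 0 := fun t ht h => by
    have := hsmall t h (ht ▸ hεδ)
    rw [this, abs_zero] at ht
    exact hε.ne ht
  have h1 := hr (N : ℤ) b hb0 (hne _ (by rw [Int.cast_natCast]; exact abs_of_pos hε))
  have h2 := hr (-(N : ℤ)) b hb0 (hne _ (by rw [Int.cast_neg, Int.cast_natCast, neg_div, abs_neg]; exact abs_of_pos hε))
  rw [cl, natCast_zsmul] at h1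
  rw [cl, neg_smul, natCast_zsmul, ← sub_eq_add_neg] at h2
  have e1 : (P.roots.filter fun t => ((N : ℤ) : ℝ) / b < t) = P.roots.filter fun t => 0 < t := by
    refine Multiset.filter_congr fun t ht => ?_
    rw [Int.cast_natCast]
    refine ⟨fun h => hε.trans h, fun h => ?_⟩
    by_contra hle
    have habs : |t| < δ := by rw [abs_of_pos h]; exact (not_lt.1 hle).trans_lt hεδ
    exact h.ne' (hsmall t (Polynomial.isRoot_of_mem_roots ht) habs)
  have e2 : (P.roots.filter fun t => ((-(N : ℤ) : ℤ) : ℝ) / b < t) = P.roots.filter fun t => 0 < t ∨ (0 : ℝ) = t := by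
    refine Multiset.filter_congr fun t ht => ?_
    rw [Int.cast_neg, Int.cast_natCast, neg_div]
    refine ⟨fun h => ?_, fun h => ?_⟩
    · rcases lt_trichotomy t 0 with h' | h' | h'
      · have habs : |t| < δ := by rw [abs_of_neg h']; exact (neg_lt.1 h).trans hεδ
        exact absurd (hsmall t (Polynomial.isRoot_of_mem_roots ht) habs) h'.ne
      · exact Or.inr h'.symm
      · exact Or.inl h'
    · have : -ε < 0 := neg_neg_of_pos hε
      rcases h with h | h
      · exact this.trans h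
      · exact h ▸ this
  rw [e1] at h1
  rw [e2] at h2
  refine ⟨h1, ?_⟩
  have hcard : Multiset.card (P.roots.filter fun t => 0 < t ∨ (0 : ℝ) = t) =
      Multiset.card (P.roots.filter fun t => 0 < t) + Φ.rootMultiplicity 0 := by
    rw [Polynomial.eq_rootMultiplicity_map (algebraMap ℚ ℝ).injective, map_zero, ← Polynomial.count_roots]
    show _ = _ + P.roots.count 0
    generalize P.roots = s
    induction s using Multiset.induction_on with
    | empty => simp
    | cons a s ih =>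
      simp only [← Multiset.countP_eq_card_filter, Multiset.countP_cons, Multiset.count_cons] at ih ⊢
      rcases lt_trichotomy a 0 with ha | ha | ha
      · rw [if_neg (not_or.2 ⟨ha.not_gt, ha.ne'⟩), if_neg ha.not_gt, if_neg ha.ne']; omega
      · rw [if_pos (Or.inr ha.symm), if_neg ha.not_gt, if_pos ha.symm]; omega
      · rw [if_pos (Or.inl ha), if_pos ha, if_neg ha.ne]; omega
  rwa [hcard] at h2

end Groth.Agent.H25Index
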