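import Groth.Agent.H25Index.Rpush
import Groth.Agent.H25Index.EdgePush
import Groth.Agent.H25Index.Free
import Groth.Agent.H25Pic0.Util
import Groth.Agent.H4TopDual.Vanish
import Groth.Agent.H19Grp.RegularSmooth
import Groth.Agent.H3CAlg.IntLocal
import Groth.Agent.H28Int.Curves
import Groth.Agent.H26Def.AdicPic

/-!
# The index theorem for non degenerate classes
-/

set_option autoImplicit false
set_option linter.style.haveILetI false
set_option linter.unusedSectionVars false
set_option backward.isDefEq.respectTransparency false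
set_option synthInstance.maxHeartbeats 400000
set_option maxHeartbeats 2000000
universe u

open CategoryTheory CategoryTheory.Limits MonoidalCategory CartesianMonoidalCategory MonObj GrpObj AlgebraicGeometry
  TopologicalSpace Opposite
open Groth.Agent Groth.Agent.H25AbCube Groth.Agent.H25Pic0

noncomputable section

attribute [local instance] H10Coh.enoughInjMod

namespace Groth.Agent.H25Index

variable {k : Type u} [Field k] [IsAlgClosed k] {A : Over (Spec (CommRingCat.of k))} [GrpObj A] [IsProper A.hom]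
  [GeometricallyIntegral A.hom]

theorem stalk_regular {g : ℕ} (hg : topologicalKrullDim A.left = g) (z : A.left) (hz : IsClosed ({z} : Set A.left)) :
    IsRegularLocalRing (A.left.presheaf.stalk z) ∧ ringKrullDim (A.left.presheaf.stalk z) = g := by
  haveI : IsIntegral A.left := GeometricallyIntegral.isIntegral_of_subsingleton A.hom
  haveI : Smooth A.hom := by
    haveI : GrpObj (Over.mk A.hom) := inferInstanceAs (GrpObj A)
    exact smooth_of_grpObj A.hom
  refine ⟨H19Grp.isRegularLocalRing_stalk_of_smooth A.hom z, ?_⟩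
  obtain ⟨d, hd, hdg⟩ := H3CAlg.IntLocal.ringKrullDim_stalk A.hom hg z (a := 0) (by
    simpa using H28Int.Curves.cdim_closed hz)
  rw [hd, show d = g by omega]

theorem eq_zero_of_all_mem {S : Set A.left} (hS : S.Finite) (hScl : ∀ z ∈ S, IsClosed ({z} : Set A.left))
    (h : ∀ y : A.left, IsClosed ({y} : Set A.left) → y ∈ S) : Subsingleton A.left := by
  haveI : IsIntegral A.left := GeometricallyIntegral.isIntegral_of_subsingleton A.hom
  haveI : JacobsonSpace A.left := LocallyOfFiniteType.jacobsonSpace A.hom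
  have hSc : IsClosed S := by rw [← Set.biUnion_of_singleton S]; exact hS.isClosed_biUnion hScl
  have huniv : (Set.univ : Set A.left) ⊆ S := by
    rw [← closure_closedPoints]
    exact hSc.closure_subset_iff.2 fun y hy => h y (mem_closedPoints_iff.1 hy)
  refine ⟨fun a b => ?_⟩
  have hg : ∀ c : A.left, c = genericPoint A.left := fun c => by
    have := (genericPoint_specializes c).mem_closure
    rwa [(hScl _ (huniv trivial)).closure_eq, Set.mem_singleton_iff] at this
  rw [hg a, hg b]

theorem subsingleton_HH_of_dim {g : ℕ} (hg : topologicalKrullDim A.left = g) (M : A.left.Modules) (n : ℕ) (hn : g < n) :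
    Subsingleton (Coh.HH A.left M n) := by
  haveI : IsLocallyNoetherian A.left := LocallyOfFiniteType.isLocallyNoetherian A.hom
  haveI : CompactSpace A.left := QuasiCompact.compactSpace_of_compactSpace A.hom
  haveI : IsNoetherian A.left := {}
  exact LeadVan.subsingleton_H_of_dim_le (X := A.left.toPresheafedSpace.carrier) g hg.le _ n hn

/-- The cohomology of the translation family is concentrated in the top degree. -/
theorem family_concentrated (L : A.left.Modules) (hL : PicF.IsInvertible L)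
    (hfin : Set.Finite {a : 𝟙_ (Over (Spec (CommRingCat.of k))) ⟶ A | transl (pc L hL) a = pc L hL})
    (g : ℕ) (hg : topologicalKrullDim A.left = g) (hA : ¬ Subsingleton A.left)
    (K : (A ⊗ A).left.Modules) (hK : PicF.IsInvertible K)
    (hκ : pc K hK = ev (pc L hL) (fst A A * snd A A) - ev (pc L hL) (fst A A)) :
    (∀ n, n ≠ g → Subsingleton (Coh.HH (A ⊗ A).left K n)) ∧ Nontrivial (Coh.HH (A ⊗ A).left K g) := by
  classical
  letI : A.left.Over (Spec (CommRingCat.of k)) := ⟨A.hom⟩
  haveI : IsIntegral A.left := GeometricallyIntegral.isIntegral_of_subsingleton A.hom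
  haveI : IsLocallyNoetherian A.left := LocallyOfFiniteType.isLocallyNoetherian A.hom
  haveI : JacobsonSpace A.left := LocallyOfFiniteType.jacobsonSpace A.hom
  haveI : CompactSpace A.left := QuasiCompact.compactSpace_of_compactSpace A.hom
  let ℓ := pc L hL
  have hKc := H11Ample.isCoh_of_isInvertible hK
  haveI : K.IsQuasicoherent := hKc.1
  let q := (snd A A).left
  haveI : IsProper q := MorphismProperty.pullback_snd (P := @IsProper) A.hom A.hom inferInstance
  haveI : Flat q := MorphismProperty.pullback_snd (P := @Flat) A.hom A.hom inferInstance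
  haveI : LocallyOfFinitePresentation q := LocallyOfFinitePresentation.iff_locallyOfFiniteType.2 inferInstance
  have hfl := H10Coh.SheafHom.isFlatOver_of_isFinLocFree q K (H23Para.isFinLocFree_of_isInvertible hK)
  have hid : ev ℓ (𝟙 A) = ℓ := pullP_id _
  have hq : ∀ t, pc _ (H11Ample.isInvertible_pullback (lift (𝟙 A) (toUnit A ≫ t)).left hK) = transl ℓ t - ℓ :=
    fun t => by
      rw [pullP_pc _ K hK, hκ, map_sub]
      show ev (ev ℓ _) _ - ev (ev ℓ _) _ = _
      rw [ev_comp, ev_comp, MonObj.comp_mul, lift_fst, lift_snd, hid]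
      rfl
  let S : Set A.left := (fun a : 𝟙_ (Over (Spec (CommRingCat.of k))) ⟶ A => a.left (IsLocalRing.closedPoint k)) ''
    {a | transl ℓ a = ℓ}
  have hS : S.Finite := hfin.image _
  have hScl : ∀ z ∈ S, IsClosed ({z} : Set A.left) := by
    rintro _ ⟨a, -, rfl⟩
    exact mem_closedPoints_iff.1 (pointEquivClosedPoint A.hom ⟨a.left, Over.w a⟩).2
  have hSc : IsClosed S := by rw [← Set.biUnion_of_singleton S]; exact hS.isClosed_biUnion hScl
  have hrank0 : ∀ z, IsClosed ({z} : Set A.left) → z ∉ S → ∀ n, CohIII.fiberRank q K n z = 0 := fun z hz hzS n => by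
    obtain ⟨t, ht⟩ := exists_point z hz
    rw [fiberRank_slice q K hK (lift (𝟙 A) (toUnit A ≫ t)).left t.left (isPullback_slice_snd t) ht n]
    haveI := subsingleton_HH _ (H11Ample.isInvertible_pullback (lift (𝟙 A) (toUnit A ≫ t)).left hK)
      (by rw [hq]; exact phi_additive ℓ t)
      (by rw [hq, ne_eq, sub_eq_zero]; exact fun h => hzS ⟨t, h, ht⟩) n
    exact Module.finrank_zero_of_subsingleton
  have hvan : ∀ z, IsClosed ({z} : Set A.left) → z ∉ S → ∀ n, Subsingleton (CohIII.fiberH q K z n) :=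
    fun z hz hzS n => H12Pic.PicCurve.subsingleton_fiberH_of_fiberRank q hK (hrank0 z hz hzS n)
  have hzero_near : ∀ (n : ℕ) (y : A.left),
      (∀ z, IsClosed ({z} : Set A.left) → y ⤳ z → ∃ w, IsClosed ({w} : Set A.left) ∧ y ⤳ w ∧
        Subsingleton (CohIII.fiberH q K w n)) → Subsingleton (((Coh.Rpush q n).obj K).presheaf.stalk y) := by
    intro n y h
    obtain ⟨z, hz, hzc⟩ := nonempty_inter_closedPoints (Z := closure ({y} : Set A.left))
      ⟨y, subset_closure rfl⟩ isClosed_closure.isLocallyClosed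
    obtain ⟨w, hwc, hyw, hw⟩ := h z (mem_closedPoints_iff.1 hzc) (specializes_iff_mem_closure.2 hz)
    obtain ⟨U, hU, h0⟩ := LeadBC.isZero_near hKc hfl w n hw
    exact subsingleton_stalk_of_restrict _ U h0 y (hyw.mem_open U.isOpen hU)
  have hsupp : ∀ n y, y ∉ S → Subsingleton (((Coh.Rpush q n).obj K).presheaf.stalk y) := fun n y hy =>
    hzero_near n y fun _ _ _ => by
      obtain ⟨z, ⟨hz, hzS⟩, hzc⟩ := nonempty_inter_closedPoints (Z := closure ({y} : Set A.left) ∩ Sᶜ)
        ⟨y, subset_closure rfl, hy⟩ (isClosed_closure.isLocallyClosed.inter hSc.isOpen_compl.isLocallyClosed)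
      exact ⟨z, mem_closedPoints_iff.1 hzc, specializes_iff_mem_closure.2 hz, hvan z (mem_closedPoints_iff.1 hzc) hzS n⟩
  have hR : ∀ n, n ≠ g → IsZero ((Coh.Rpush q n).obj K) := fun n hn => by
    rcases lt_or_gt_of_ne hn with hn | hn
    · exact isZero_rpush_of_lt q hKc hfl g (fun z hz => stalk_regular hg z hz) S hScl hS hvan n hn
    · refine isZero_of_forall_sections _ fun U => subsingleton_of_forall_eq 0 fun s =>
        H25Par.section_eq_zero (H10Coh.sh ((Coh.Rpush q n).obj K)) (fun y _ => hzero_near n y fun z hz hyz => ?_) s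
      refine ⟨z, hz, hyz, H12Pic.PicCurve.subsingleton_fiberH_of_fiberRank q hK ?_⟩
      obtain ⟨t, ht⟩ := exists_point z hz
      rw [fiberRank_slice q K hK (lift (𝟙 A) (toUnit A ≫ t)).left t.left (isPullback_slice_snd t) ht n]
      haveI := subsingleton_HH_of_dim hg ((Scheme.Modules.pullback (lift (𝟙 A) (toUnit A ≫ t)).left).obj K) n hn
      exact Module.finrank_zero_of_subsingleton
  have hH : ∀ n, Nonempty (Coh.HH (A ⊗ A).left K n ≃ Γ((Coh.Rpush q n).obj K, (⊤ : A.left.Opens))) := fun n => by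
    obtain ⟨eab⟩ := H10Coh.nonempty_toAb_rpush q K n
    have hac : ∀ a m : ℕ, Subsingleton (H10Coh.Hn ((CohTop.Rpush q.base m).obj (Coh.toAb K)) (a + 1)
        (⊤ : Opens A.left)) := fun a m => by
      obtain ⟨em⟩ := H10Coh.nonempty_toAb_rpush q K m
      haveI : Subsingleton (H10Coh.Hn (Coh.toAb ((Coh.Rpush q m).obj K)) (a + 1) (⊤ : Opens A.left)) :=
        H10Coh.subsingleton_of_flasque
        (H25Par.flasque_of_finite_support (H10Coh.sh ((Coh.Rpush q m).obj K)) hS hScl (hsupp m)) a (⊤ : Opens A.left)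
      exact subsingleton_of_forall_eq 0 fun x => by
        obtain ⟨y, rfl⟩ : ∃ y, Abelian.Ext.comp y (Abelian.Ext.mk₀ em.hom) (add_zero _) = x :=
          ⟨x.comp (Abelian.Ext.mk₀ em.inv) (add_zero _), by simp [Abelian.Ext.comp_assoc_of_second_deg_zero]⟩
        rw [Subsingleton.elim y 0, Abelian.Ext.zero_comp]
    obtain ⟨e⟩ := H15Site.LerayDeg.nonempty_equiv_sections q.base (⊤ : Opens A.left) n (Coh.toAb K) hac
    exact ⟨(H10Coh.HHEquiv K n).toEquiv.trans (e.toEquiv.trans
      (((sheafToPresheaf _ _).mapIso eab).app (op ⊤)).addCommGroupIsoToAddEquiv.toEquiv.symm)⟩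
  refine ⟨fun n hn => ?_, ?_⟩
  · obtain ⟨e⟩ := hH n
    have hid : (𝟙 ((Coh.Rpush q n).obj K)) = 0 := (hR n hn).eq_of_src _ _
    haveI : Subsingleton Γ((Coh.Rpush q n).obj K, (⊤ : A.left.Opens)) := subsingleton_of_forall_eq 0 fun z => by
      have := congr($(congr(Scheme.Modules.Hom.app $hid ⊤)) z)
      simpa using this
    exact e.subsingleton
  · by_contra hc
    haveI := not_nontrivial_iff_subsingleton.1 hc
    obtain ⟨e⟩ := hH g
    haveI : Subsingleton Γ((Coh.Rpush q g).obj K, (⊤ : A.left.Opens)) := e.symm.subsingleton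
    have hall : ∀ n, IsZero ((Coh.Rpush q n).obj K) := fun n => by
      rcases eq_or_ne n g with rfl | hn
      · exact isZero_of_forall_sections _ (sub_sections_of_flasque _
          (H25Par.flasque_of_finite_support _ hS hScl (hsupp n)) ‹_›)
      · exact hR n hn
    have hconst := LeadBC.fiberRank_eventually_const q hKc hfl
      (fun i => H16Derived.KFlat.Stalk.isFinLocFree_of_isZero (hall i)) 0
    obtain ⟨y, hyc, hyS⟩ : ∃ y, IsClosed ({y} : Set A.left) ∧ y ∉ S := by
      by_contra hne
      push Not at hne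
      exact hA (eq_zero_of_all_mem hS hScl hne)
    let o : 𝟙_ (Over (Spec (CommRingCat.of k))) ⟶ A := 1
    have h0 : CohIII.fiberRank q K 0 (o.left (IsLocalRing.closedPoint k)) = 0 :=
      (hconst.apply_eq_of_preconnectedSpace _ y).trans (hrank0 y hyc hyS 0)
    replace h0 := (fiberRank_slice q K hK (lift (𝟙 A) (toUnit A ≫ o)).left o.left (isPullback_slice_snd o)
      (y := o.left (IsLocalRing.closedPoint k)) rfl 0).symm.trans h0
    let M := (Scheme.Modules.pullback (lift (𝟙 A) (toUnit A ≫ o)).left).obj K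
    have hM := H11Ample.isInvertible_pullback (lift (𝟙 A) (toUnit A ≫ o)).left hK
    obtain ⟨φ⟩ : Nonempty (M ≅ Coh.structureModule A.left) :=
      (pc_eq_iff hM H11Ample.isInvertible_structureModule).1 (by
        rw [hq, pc_one, transl, MonObj.comp_one, _root_.mul_one, hid, sub_self])
    haveI : M.IsQuasicoherent := (H11Ample.isCoh_of_isInvertible hM).1
    haveI : IsProper (A.left ↘ Spec (CommRingCat.of k)) := ‹IsProper A.hom›
    haveI := H29RR.isNoetherian_of_proper (k := k) (X := A.left)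
    haveI : Module.Finite k (Coh.HH A.left M 0) :=
      H10Coh.finite_HH_proper k A.left M (H11Ample.isCoh_of_isInvertible hM) 0
    haveI := Module.finrank_zero_iff.1 h0
    haveI : Subsingleton Γ(M, ⊤) := (H10Coh.HH0Equiv M).symm.toEquiv.subsingleton
    have hs : Subsingleton Γ(A.left, ⊤) := by
      refine ⟨fun a b => ?_⟩
      have e : ∀ z, φ.hom.app ⊤ (φ.inv.app ⊤ z) = z := fun z =>
        congr($(congr(Scheme.Modules.Hom.app $(φ.inv_hom_id) ⊤)) z)
      exact (e a).symm.trans ((congrArg (φ.hom.app ⊤) (Subsingleton.elim _ _)).trans (e b))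
    haveI : Nonempty A.left := ⟨o.left (IsLocalRing.closedPoint k)⟩
    exact not_subsingleton Γ(A.left, ⊤) hs

/-- The cohomology of the product of a class and its inverse. -/
theorem product_concentrated (L : A.left.Modules) (hL : PicF.IsInvertible L)
    (hfin : Set.Finite {a : 𝟙_ (Over (Spec (CommRingCat.of k))) ⟶ A | transl (pc L hL) a = pc L hL})
    (g : ℕ) (hg : topologicalKrullDim A.left = g) (hA : ¬ Subsingleton A.left)
    (K' : (A ⊗ A).left.Modules) (hK' : PicF.IsInvertible K')
    (hκ : pc K' hK' = ev (pc L hL) (fst A A) - ev (pc L hL) (snd A A)) :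
    (∀ n, n ≠ g → Subsingleton (Coh.HH (A ⊗ A).left K' n)) ∧ Nontrivial (Coh.HH (A ⊗ A).left K' g) := by
  haveI : IsCommMonObj A := isCommMonObj_of_av
  let σ : A ⊗ A ≅ A ⊗ A :=
    { hom := lift (fst A A * snd A A) (fst A A)
      inv := lift (snd A A) ((snd A A)⁻¹ * fst A A)
      hom_inv_id := CartesianMonoidalCategory.hom_ext _ _
        (by rw [Category.assoc, lift_fst, lift_snd, Category.id_comp])
        (by rw [Category.assoc, lift_snd, MonObj.comp_mul, GrpObj.comp_inv, lift_fst, lift_snd, Category.id_comp,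
          inv_mul_cancel_left])
      inv_hom_id := CartesianMonoidalCategory.hom_ext _ _
        (by rw [Category.assoc, lift_fst, MonObj.comp_mul, lift_fst, lift_snd, Category.id_comp,
          mul_inv_cancel_left])
        (by rw [Category.assoc, lift_snd, lift_fst, Category.id_comp]) }
  have hP := H11Ample.isInvertible_pullback σ.hom.left hK'
  have hσ : pc _ hP = ev (pc L hL) (fst A A * snd A A) - ev (pc L hL) (fst A A) := by
    rw [pullP_pc _ K' hK', hκ, map_sub]
    show ev (ev _ _) _ - ev (ev _ _) _ = _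
    rw [ev_comp, ev_comp, lift_fst, lift_snd]
  obtain ⟨h1, h2⟩ := family_concentrated L hL hfin g hg hA _ hP hσ
  let e : (A ⊗ A).left ≅ (A ⊗ A).left := (Over.forget _).mapIso σ
  haveI : K'.IsQuasicoherent := (H11Ample.isCoh_of_isInvertible hK').1
  haveI : ((Scheme.Modules.pullback σ.hom.left).obj K').IsQuasicoherent := (H11Ample.isCoh_of_isInvertible hP).1
  refine ⟨fun n hn => H4TopDual.subsingleton_HH_of_pullback_iso e K' n (h1 n hn), ?_⟩
  by_contra hc
  haveI := not_nontrivial_iff_subsingleton.1 hc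
  refine not_subsingleton (Coh.HH (A ⊗ A).left ((Scheme.Modules.pullback σ.hom.left).obj K') g)
    (H4TopDual.subsingleton_HH_of_pullback_iso e.symm _ g ?_)
  exact H10Coh.subsingleton_HH_of_iso
    ((((Scheme.Modules.pullbackComp σ.inv.left σ.hom.left).app K') ≪≫
      (Scheme.Modules.pullbackCongr (show σ.inv.left ≫ σ.hom.left = 𝟙 _ from e.inv_hom_id)).app K' ≪≫
      (Scheme.Modules.pullbackId _).app K')).symm g ‹_›

attribute [local instance 10000] H10Coh.hasSheafifyAb H10Coh.hasWeakSheafifyAb H10Coh.hasExtAb H10Coh.enoughInjAb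

theorem nonempty_Hn_congr {T : TopCat.{u}} {F G : CohTop.Ab T} (e : F ≅ G) (n : ℕ) :
    Nonempty (H10Coh.Hn F n (⊤ : Opens T) ≃ H10Coh.Hn G n (⊤ : Opens T)) :=
  ⟨{
    toFun := fun x => x.comp (Abelian.Ext.mk₀ e.hom) (add_zero n)
    invFun := fun x => x.comp (Abelian.Ext.mk₀ e.inv) (add_zero n)
    left_inv := fun x => by simp [Abelian.Ext.comp_assoc_of_second_deg_zero]
    right_inv := fun x => by simp [Abelian.Ext.comp_assoc_of_second_deg_zero] }⟩

/-- Non degenerate classes have an index, and the opposite class has the opposite index. -/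
theorem exists_index (L : A.left.Modules) (hL : PicF.IsInvertible L)
    (hfin : Set.Finite {a : 𝟙_ (Over (Spec (CommRingCat.of k))) ⟶ A | transl (pc L hL) a = pc L hL})
    (g : ℕ) (hg : topologicalKrullDim A.left = g) :
    ∃ i ≤ g, (∀ j, j ≠ i → Subsingleton (Coh.HH A.left L j)) ∧ Nontrivial (Coh.HH A.left L i) ∧
      ∀ (N : A.left.Modules) (hN : PicF.IsInvertible N), pc N hN = - pc L hL →
        (∀ j, j ≠ g - i → Subsingleton (Coh.HH A.left N j)) ∧ Nontrivial (Coh.HH A.left N (g - i)) := by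
  classical
  have hdim := subsingleton_HH_of_dim hg
  rcases em (Subsingleton A.left) with hA | hA
  · haveI := hA
    have hg0 : g = 0 := by
      have h := topologicalKrullDim_zero_of_discreteTopology (X := A.left)
      rw [hg] at h
      have h' : g ≤ 0 := by exact_mod_cast h
      omega
    subst hg0
    refine ⟨0, le_rfl, fun j hj => hdim L j (Nat.pos_of_ne_zero hj), ?_, fun N hN _ =>
      ⟨fun j hj => hdim N j (Nat.pos_of_ne_zero hj), ?_⟩⟩
    all_goals
      haveI : IsIntegral A.left := GeometricallyIntegral.isIntegral_of_subsingleton A.hom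
      haveI : Nonempty A.left := ⟨(1 : 𝟙_ (Over (Spec (CommRingCat.of k))) ⟶ A).left (IsLocalRing.closedPoint k)⟩
      by_contra hc
      haveI := not_nontrivial_iff_subsingleton.1 hc
    · obtain ⟨φ⟩ := (pc_eq_iff hL H11Ample.isInvertible_structureModule).1
        ((eq_zero_of_subsingleton _).trans pc_one.symm)
      haveI := H10Coh.subsingleton_HH_of_iso φ 0 ‹Subsingleton (Coh.HH A.left L 0)›
      exact not_subsingleton Γ(A.left, ⊤) (H10Coh.HH0Equiv (Coh.structureModule A.left)).symm.toEquiv.subsingleton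
    · obtain ⟨φ⟩ := (pc_eq_iff hN H11Ample.isInvertible_structureModule).1
        ((eq_zero_of_subsingleton _).trans pc_one.symm)
      haveI := H10Coh.subsingleton_HH_of_iso φ 0 ‹Subsingleton (Coh.HH A.left N 0)›
      exact not_subsingleton Γ(A.left, ⊤) (H10Coh.HH0Equiv (Coh.structureModule A.left)).symm.toEquiv.subsingleton
  suffices key : ∀ (N : A.left.Modules) (hN : PicF.IsInvertible N), pc N hN = - pc L hL →
      ∃ i ≤ g, (∀ j, j ≠ i → Subsingleton (Coh.HH A.left L j)) ∧ Nontrivial (Coh.HH A.left L i) ∧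
        (∀ j, j ≠ g - i → Subsingleton (Coh.HH A.left N j)) ∧ Nontrivial (Coh.HH A.left N (g - i)) by
    obtain ⟨N₀, hN₀, hu⟩ := exists_rep (- pc L hL)
    obtain ⟨i, hi, h1, h2, -, -⟩ := key N₀ hN₀ hu
    refine ⟨i, hi, h1, h2, fun N hN hn => ?_⟩
    obtain ⟨i', hi', h1', h2', h3', h4'⟩ := key N hN hn
    obtain rfl : i' = i := by
      by_contra hne
      haveI := h1' i (Ne.symm hne)
      exact not_subsingleton (Coh.HH A.left L i) ‹_›
    exact ⟨h3', h4'⟩
  intro N hN hNL
  let π := A.hom
  let p := (fst A A).left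
  let q := (snd A A).left
  haveI : IsProper q := MorphismProperty.pullback_snd (P := @IsProper) A.hom A.hom inferInstance
  have hLc := H11Ample.isCoh_of_isInvertible hL
  haveI : Coh.IsQCoh L := hLc.1
  haveI : L.IsQuasicoherent := hLc.1
  haveI : N.IsQuasicoherent := (H11Ample.isCoh_of_isInvertible hN).1
  have hsq : IsPullback p q π π := IsPullback.of_hasPullback π π
  have hqN := H11Ample.isInvertible_pullback q hN
  have hpL := H11Ample.isInvertible_pullback p hL
  have hK' := H11Ample.isInvertible_tensor hqN hpL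
  let K' := CohB1.tensorMod ((Scheme.Modules.pullback q).obj N) ((Scheme.Modules.pullback p).obj L)
  haveI : K'.IsQuasicoherent := (H11Ample.isCoh_of_isInvertible hK').1
  obtain ⟨hP, hPg⟩ := product_concentrated L hL hfin g hg hA K' hK' (by
    rw [pc_tensor hqN hpL, pullP_pc _ N hN, pullP_pc _ L hL, hNL, map_neg, add_comm, ← sub_eq_add_neg]
    rfl)
  -- the rank of the cohomology of `L`
  have hr : ∀ j, ∃ r, Nonempty ((Coh.Rpush π j).obj L ≅ FlatMod.freeMod _ r) := fun j =>
    H26Def.exists_iso_freeMod_of_field k _ (H10Coh.isCoh_rpush π L hLc j)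
  choose r hr using hr
  have hrz : ∀ j, (r j = 0 ↔ Subsingleton (Coh.HH A.left L j)) := fun j => by
    obtain ⟨e₀⟩ := hr j
    obtain ⟨e, -⟩ := LeadBC.exists_rpushEquiv π (isAffineOpen_top (Spec (CommRingCat.of k))) L j
    constructor
    · intro h0
      rw [h0] at e₀
      have hz : IsZero ((Coh.Rpush π j).obj L) := IsZero.of_iso
        ((IsZero.iff_id_eq_zero _).2 (Sigma.hom_ext _ _ fun m => m.elim0)) e₀
      refine H4TopDual.subsingleton_HH_of_restrict_top L j (π ⁻¹ᵁ ⊤) rfl (e.toEquiv.subsingleton_congr.2 ?_)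
      have hid : (𝟙 ((Coh.Rpush π j).obj L)) = 0 := hz.eq_of_src _ _
      exact subsingleton_of_forall_eq 0 fun z => by
        have := congr($(congr(Scheme.Modules.Hom.app $hid ⊤)) z)
        simpa using this
    · intro h0
      by_contra hne
      have h1 : Subsingleton (Coh.HH (π ⁻¹ᵁ ⊤).toScheme (L.restrict (π ⁻¹ᵁ ⊤).ι) j) := by
        have hU : π ⁻¹ᵁ ⊤ = ⊤ := rfl
        rw [hU]
        exact H4TopDual.subsingleton_HH_of_pullback_iso A.left.topIso.symm _ j (H10Coh.subsingleton_HH_of_iso
          ((((Scheme.Modules.pullback A.left.topIso.inv).mapIso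
            ((Scheme.Modules.restrictFunctorIsoPullback (⊤ : A.left.Opens).ι).app L)) ≪≫
            (Scheme.Modules.pullbackComp A.left.topIso.inv (⊤ : A.left.Opens).ι).app L ≪≫
            (Scheme.Modules.pullbackCongr (show A.left.topIso.inv ≫ (⊤ : A.left.Opens).ι = 𝟙 _ from
              A.left.topIso.inv_hom_id)).app L ≪≫ (Scheme.Modules.pullbackId _).app L)).symm j h0)
      have hz := isZero_of_sections _ (e.toEquiv.subsingleton_congr.1 h1)
      have hz' : IsZero (FlatMod.freeMod (Spec (CommRingCat.of k)) (r j)) := IsZero.of_iso hz e₀.symm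
      haveI : Nonempty (Spec (CommRingCat.of k)) := ⟨IsLocalRing.closedPoint k⟩
      let c : Fin (r j) → (Spec (CommRingCat.of k)).Modules := fun _ => Coh.structureModule _
      have hO : IsZero (Coh.structureModule (Spec (CommRingCat.of k))) := by
        rw [IsZero.iff_id_eq_zero, ← biproduct.ι_π_self c ⟨0, Nat.pos_of_ne_zero hne⟩,
          (IsZero.of_iso hz' (biproduct.isoCoproduct c)).eq_of_tgt (biproduct.ι c _) 0, zero_comp]
      have hid : (𝟙 (Coh.structureModule (Spec (CommRingCat.of k)))) = 0 := hO.eq_of_src _ _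
      have h10 : (1 : Γ(Spec (CommRingCat.of k), ⊤)) = 0 := by
        have := congr($(congr(Scheme.Modules.Hom.app $hid ⊤)) (1 : Γ(Spec (CommRingCat.of k), ⊤)))
        exact this
      exact one_ne_zero h10
  -- the higher direct images of the product
  have hrp : ∀ j, Nonempty ((Coh.RpushAb q j).obj (Coh.toAb K') ≅
      H10Coh.sh ((H10Coh.PF.TR N).obj (FlatMod.freeMod A.left (r j)))) := fun j => by
    obtain ⟨eP⟩ := S0033.result π π p q hsq L j
    obtain ⟨ep⟩ := H10Coh.PF.nonempty_projectionFormula' q ((Scheme.Modules.pullback p).obj L)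
      (E := N) (H23Para.isFinLocFree_of_isInvertible hN) j
    obtain ⟨eab⟩ := H10Coh.nonempty_toAb_rpush q K' j
    let i₁ : (Coh.Rpush q j).obj K' ≅ (H10Coh.PF.TR N).obj (FlatMod.freeMod A.left (r j)) :=
      ep.symm ≪≫ H10Coh.Tw.commIso _ _ ≪≫ (H10Coh.PF.TR N).mapIso (eP.symm ≪≫
        (Scheme.Modules.pullback π).mapIso (hr j).some ≪≫ H16Derived.KFlat.Stalk.freeModPullbackIso π (r j))
    exact ⟨eab.symm ≪≫ (H10Coh.shF _).mapIso i₁⟩
  have hRzero : ∀ j, r j = 0 → IsZero ((Coh.RpushAb q j).obj (Coh.toAb K')) := fun j h0 => by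
    obtain ⟨e⟩ := hrp j
    refine IsZero.of_iso (((H10Coh.PF.TR N ⋙ H10Coh.shF _).map_isZero ?_)) e
    rw [h0]
    exact (IsZero.iff_id_eq_zero _).2 (Sigma.hom_ext _ _ fun m => m.elim0)
  have hgr : ∀ i j, Subsingleton (Coh.HH A.left N i) →
      Subsingleton (H10Coh.Hn ((CohTop.Rpush q.base j).obj (Coh.toAb K')) i (⊤ : Opens A.left)) := fun i j h => by
    obtain ⟨e⟩ := hrp j
    obtain ⟨e'⟩ := nonempty_Hn_congr e i
    haveI := h
    haveI : Subsingleton (H10Coh.HnM ((H10Coh.PF.TR N).obj (FlatMod.freeMod A.left (r j))) i ⊤) :=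
      subsingleton_tensor_free N (r j) i (H10Coh.HHEquiv N i).symm.toEquiv.subsingleton
    haveI : Subsingleton (H10Coh.Hn (H10Coh.sh ((H10Coh.PF.TR N).obj (FlatMod.freeMod A.left (r j)))) i
      (⊤ : Opens A.left)) := ‹Subsingleton (H10Coh.HnM _ i ⊤)›
    exact @Equiv.subsingleton _ _ e' (by assumption)
  have hgr1 : ∀ i j, r j ≠ 0 → Nontrivial (Coh.HH A.left N i) →
      Nontrivial (H10Coh.Hn ((CohTop.Rpush q.base j).obj (Coh.toAb K')) i (⊤ : Opens A.left)) := fun i j h0 h => by
    obtain ⟨e⟩ := hrp j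
    obtain ⟨e'⟩ := nonempty_Hn_congr e i
    haveI := h
    haveI : Nontrivial (H10Coh.HnM ((H10Coh.PF.TR N).obj (FlatMod.freeMod A.left (r j))) i ⊤) :=
      nontrivial_tensor_free N (r j) (Nat.pos_of_ne_zero h0) i (H10Coh.HHEquiv N i).symm.toEquiv.nontrivial
    haveI : Nontrivial (H10Coh.Hn (H10Coh.sh ((H10Coh.PF.TR N).obj (FlatMod.freeMod A.left (r j)))) i
      (⊤ : Opens A.left)) := ‹Nontrivial (H10Coh.HnM _ i ⊤)›
    exact @Equiv.nontrivial _ _ e' (by assumption)
  have hnon : ¬ Subsingleton (Coh.HH (A ⊗ A).left K' g) := not_subsingleton_iff_nontrivial.2 hPg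
  have hexL : ∃ j, r j ≠ 0 := by
    by_contra hne
    push Not at hne
    refine hnon ?_
    haveI := EdgePush.subsingleton_Hn q.base (Coh.toAb K') g fun j _ => ⟨fun x y => by
      rw [← Abelian.Ext.comp_mk₀_id x, ← Abelian.Ext.comp_mk₀_id y,
        (show IsZero ((CohTop.Rpush q.base j).obj (Coh.toAb K')) from hRzero j (hne j)).eq_of_src (𝟙 _) 0]
      simp⟩
    haveI : Subsingleton (H10Coh.HnM K' g ⊤) :=
      ‹Subsingleton (H10Coh.Hn (Coh.toAb K') g (⊤ : Opens (A ⊗ A).left))›
    exact (H10Coh.HHEquiv K' g).toEquiv.subsingleton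
  have hexN : ∃ i, Nontrivial (Coh.HH A.left N i) := by
    by_contra hne
    push Not at hne
    refine hnon ?_
    haveI := EdgePush.subsingleton_Hn q.base (Coh.toAb K') g fun j _ => hgr _ j (hne _)
    haveI : Subsingleton (H10Coh.HnM K' g ⊤) :=
      ‹Subsingleton (H10Coh.Hn (Coh.toAb K') g (⊤ : Opens (A ⊗ A).left))›
    exact (H10Coh.HHEquiv K' g).toEquiv.subsingleton
  have hLb : ∀ j, r j ≠ 0 → j ≤ g := fun j hj => le_of_not_gt fun h => hj ((hrz j).2 (hdim L j h))
  have hNb : ∀ i, Nontrivial (Coh.HH A.left N i) → i ≤ g := fun i hi => le_of_not_gt fun h =>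
    haveI := hi
    not_subsingleton _ (hdim N i h)
  -- extremal degrees
  let a := Nat.find hexL
  let b := Nat.find hexN
  let a' := Nat.findGreatest (fun j => r j ≠ 0) g
  let b' := Nat.findGreatest (fun i => Nontrivial (Coh.HH A.left N i)) g
  have ha := Nat.find_spec hexL
  have hb := Nat.find_spec hexN
  have ha' : r a' ≠ 0 := Nat.findGreatest_spec (P := fun j => r j ≠ 0) (hLb a ha) ha
  have hb' : Nontrivial (Coh.HH A.left N b') :=
    Nat.findGreatest_spec (P := fun i => Nontrivial (Coh.HH A.left N i)) (hNb b hb) hb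
  have haa : ∀ j, r j ≠ 0 → a ≤ j ∧ j ≤ a' := fun j hj => ⟨Nat.find_min' hexL hj, Nat.le_findGreatest (hLb j hj) hj⟩
  have hbb : ∀ i, Nontrivial (Coh.HH A.left N i) → b ≤ i ∧ i ≤ b' := fun i hi =>
    ⟨Nat.find_min' hexN hi, Nat.le_findGreatest (hNb i hi) hi⟩
  have hN0 : ∀ i, (i < b ∨ b' < i) → Subsingleton (Coh.HH A.left N i) := fun i hi =>
    not_nontrivial_iff_subsingleton.1 fun h => by obtain ⟨h1, h2⟩ := hbb i h; omega
  have hlow : a + b = g := by
    by_contra hne
    have h := EdgePush.nontrivial_lowest q.base (Coh.toAb K') a b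
      (fun j hj => hRzero j (by_contra fun h => absurd (haa j h).1 (not_le.2 hj)))
      (hgr1 b a ha hb) (fun i j _ hi => hgr i j (hN0 i (Or.inl hi)))
    haveI := hP _ hne
    haveI : Subsingleton (H10Coh.HnM K' (a + b) ⊤) := (H10Coh.HHEquiv K' (a + b)).symm.toEquiv.subsingleton
    haveI : Nontrivial (H10Coh.HnM K' (a + b) ⊤) := h
    exact not_subsingleton (H10Coh.HnM K' (a + b) ⊤) ‹_›
  have hhigh : a' + b' = g := by
    by_contra hne
    have h := EdgePush.nontrivial_highest q.base (Coh.toAb K') a' b'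
      (fun j hj => hRzero j (by_contra fun h => absurd (haa j h).2 (not_le.2 hj)))
      (hgr1 b' a' ha' hb') (fun i j _ hi => hgr i j (hN0 i (Or.inr hi)))
    haveI := hP _ hne
    haveI : Subsingleton (H10Coh.HnM K' (a' + b') ⊤) := (H10Coh.HHEquiv K' (a' + b')).symm.toEquiv.subsingleton
    haveI : Nontrivial (H10Coh.HnM K' (a' + b') ⊤) := h
    exact not_subsingleton (H10Coh.HnM K' (a' + b') ⊤) ‹_›
  obtain ⟨hbb1, -⟩ := hbb b' hb'
  obtain ⟨haa1, -⟩ := haa a' ha'
  refine ⟨a, by omega, fun j hj => ?_, ?_, fun i hi => hN0 i (by omega), ?_⟩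
  · exact (hrz j).1 (by_contra fun h => by obtain ⟨h1, h2⟩ := haa j h; omega)
  · exact not_subsingleton_iff_nontrivial.1 fun h => ha ((hrz a).2 h)
  · rw [show g - a = b by omega]; exact hb

end Groth.Agent.H25Index
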