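import Groth.Agent.H25Index.Line
import Groth.Agent.H25Index.EulerIsogeny

/-!
# The multiplicity of the root at zero does not depend on the ample class
-/

set_option autoImplicit false
set_option linter.style.haveILetI false
set_option linter.unusedSectionVars false
set_option backward.isDefEq.respectTransparency false
set_option synthInstance.maxHeartbeats 400000
set_option maxHeartbeats 1000000
universe u

open CategoryTheory CategoryTheory.Limits MonoidalCategory CartesianMonoidalCategory AlgebraicGeometry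
  TopologicalSpace Opposite
open Groth.Agent Groth.Agent.H25AbCube Groth.Agent.H25Pic0 Groth.Agent.H25AbCube.GeomTate

noncomputable section

attribute [local instance] overOf

namespace Groth.Agent.H25Index

variable {k : Type u} [Field k] [IsAlgClosed k] {A B : Over (Spec (CommRingCat.of k))} [GrpObj A]
  [IsProper A.hom] [GeometricallyIntegral A.hom] [GrpObj B] [IsProper B.hom] [GeometricallyIntegral B.hom]

/-- A multiple of an ample class dominates any class. -/
theorem exists_dominate (η : A.left.Modules) (hη : CohB1.IsAmple η) (w : PC A.left) :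
    ∃ N : ℕ, 0 < N ∧ ∃ (α : A.left.Modules) (hα : CohB1.IsAmple α), pc α hα.1 = N • pc η hη.1 - w := by
  haveI : CompactSpace A.left := QuasiCompact.compactSpace_of_compactSpace A.hom
  haveI : QuasiSeparatedSpace A.left := quasiSeparatedSpace_of_quasiSeparated A.hom
  obtain ⟨W, hW, e⟩ := exists_rep (-w)
  obtain ⟨N, hN, hT⟩ := H11Ample.eventually_ample_tensor hη hW
  obtain ⟨h1, e1⟩ := exists_pc_tensorPow hη.1 N
  refine ⟨N, hN, _, (hT N le_rfl).1, ?_⟩
  rw [pc_tensor h1 hW, e1, e, ← sub_eq_add_neg]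

/-- The multiplicity of the root at zero does not depend on the ample class. -/
theorem rootMultiplicity_eq {g : ℕ} (hg : topologicalKrullDim A.left = g) (ℓ : PC A.left)
    {H H' : A.left.Modules} (hH : CohB1.IsAmple H) (hH' : CohB1.IsAmple H') {Φ Φ' : Polynomial ℚ}
    (hΦ : ∀ t : ℤ, (chiCls k (ℓ + t • pc H hH.1) : ℚ) = Φ.eval (t : ℚ))
    (hΦ' : ∀ t : ℤ, (chiCls k (ℓ + t • pc H' hH'.1) : ℚ) = Φ'.eval (t : ℚ)) :
    Φ.rootMultiplicity 0 = Φ'.rootMultiplicity 0 := by
  obtain ⟨p, hp⟩ := exists_small hg ℓ hH hΦ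
  obtain ⟨p', hp'⟩ := exists_small hg ℓ hH' hΦ'
  obtain ⟨N, hN, α, hα, eα⟩ := exists_dominate H hH (pc H' hH'.1)
  obtain ⟨M, hM, β, hβ, eβ⟩ := exists_dominate H' hH' (pc H hH.1)
  obtain ⟨B₁, -, h₁⟩ := hp N hN
  obtain ⟨B₂, -, h₂⟩ := hp' 1 Nat.one_pos
  obtain ⟨B₃, -, h₃⟩ := hp' M hM
  obtain ⟨B₄, -, h₄⟩ := hp 1 Nat.one_pos
  let b := B₁ + B₂ + B₃ + B₄
  obtain ⟨u1, u2⟩ := h₁ b (by omega)
  obtain ⟨v1, v2⟩ := h₂ b (by omega)
  obtain ⟨x1, x2⟩ := h₃ b (by omega)
  obtain ⟨y1, y2⟩ := h₄ b (by omega)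
  rw [one_smul] at v1 v2 y1 y2
  have a1 : p ≤ p' := v1.le_add_ample hα (by rwa [eα, show b • ℓ + pc H' hH'.1 + (N • pc H hH.1 - pc H' hH'.1) =
    b • ℓ + N • pc H hH.1 by abel])
  have a2 : p' + Φ'.rootMultiplicity 0 ≤ p + Φ.rootMultiplicity 0 := u2.le_add_ample hα (by
    rwa [eα, show b • ℓ - N • pc H hH.1 + (N • pc H hH.1 - pc H' hH'.1) = b • ℓ - pc H' hH'.1 by abel])
  have a3 : p' ≤ p := y1.le_add_ample hβ (by rwa [eβ, show b • ℓ + pc H hH.1 + (M • pc H' hH'.1 - pc H hH.1) =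
    b • ℓ + M • pc H' hH'.1 by abel])
  have a4 : p + Φ.rootMultiplicity 0 ≤ p' + Φ'.rootMultiplicity 0 := x2.le_add_ample hβ (by
    rwa [eβ, show b • ℓ - M • pc H' hH'.1 + (M • pc H' hH'.1 - pc H hH.1) = b • ℓ - pc H hH.1 by abel])
  omega

/-- An isogeny multiplies the Euler characteristic of a class by a nonzero number. -/
theorem exists_chiCls_ev (f : A ⟶ B) [IsMonHom f] [IsFinite f.left] [Flat f.left] [Surjective f.left] :
    ∃ d : ℕ, d ≠ 0 ∧ ∀ w : PC B.left, chiCls k (ev w f) = d * chiCls k w := by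
  haveI : IsIntegral B.left := GeometricallyIntegral.isIntegral_of_subsingleton B.hom
  obtain ⟨d, hd0, hd⟩ := exists_degree f
  obtain ⟨g, hg⟩ := H25Grp.exists_nat_dim B.hom
  obtain ⟨H, hH⟩ := H25AbCube.exists_isAmple B
  refine ⟨d, hd0, fun w => ?_⟩
  obtain ⟨M, hM, rfl⟩ := exists_rep w
  rw [chiCls_pc, show ev (pc M hM) f = pc _ (H11Ample.isInvertible_pullback f.left hM) from (pullP_pc _ M hM _).symm,
    chiCls_pc]
  exact euler_pullback hH f g hg.le d hd0 hd M hM

end Groth.Agent.H25Index
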