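import Groth.Agent.H25Index.AllMultiples
import Groth.Agent.H25Index.BaseChange

/-!
# Powers of nondegenerate modules
-/

set_option autoImplicit false
set_option linter.style.haveILetI false
set_option linter.unusedSectionVars false
set_option backward.isDefEq.respectTransparency false
set_option synthInstance.maxHeartbeats 400000
set_option maxHeartbeats 1000000
universe u

open CategoryTheory CategoryTheory.Limits MonoidalCategory CartesianMonoidalCategory MonObj GrpObj AlgebraicGeometry
  TopologicalSpace Opposite
open Groth.Agent Groth.Agent.H25AbCube Groth.Agent.H25Pic0 Groth.Agent.H25AbCube.GeomTate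

noncomputable section

attribute [local instance] Functor.grpObjObj

namespace Groth.Agent.H25Index

/-- Positive powers over an arbitrary field. -/
theorem concentrated_tensorPow {k : Type u} [Field k] {X : Over (Spec (CommRingCat.of k))} [GrpObj X]
    [IsProper X.hom] [GeometricallyIntegral X.hom] (L : X.left.Modules) (hL : PicF.IsInvertible L) (i : ℕ)
    (hvan : ∀ j, j ≠ i → Subsingleton (Coh.HH X.left L j)) (hne : Nontrivial (Coh.HH X.left L i))
    (m : ℕ) (hm : 0 < m) :
    (∀ j, j ≠ i → Subsingleton (Coh.HH X.left (CohB1.tensorPow L m) j)) ∧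
      Nontrivial (Coh.HH X.left (CohB1.tensorPow L m) i) := by
  obtain ⟨h1, h2, h3⟩ := gM_concentrated L hL i hvan hne
  have hP := H11Ample.isInvertible_tensorPow hL m
  have hP' := H11Ample.isInvertible_pullback (gp X) hP
  obtain ⟨h4, h5⟩ := ((IsIndex.mk' h3 h1 h2).nsmul hm).2 (gM (CohB1.tensorPow L m)) hP'
    (by rw [pullP_pc _ _ hP, pc_tensorPow L hL m, map_nsmul, pullP_pc _ L hL])
  exact ⟨fun j hj => (subsingleton_gM_iff _ hP j).1 (h4 j hj), (nontrivial_gM_iff _ hP i).1 h5⟩

end Groth.Agent.H25Index
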