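import Groth.Agent.H25Index.RootsMain
import Groth.Agent.H10Coh.AffineAmple

/-!
# The index does not increase under restriction
-/

set_option autoImplicit false
set_option linter.style.haveILetI false
set_option linter.unusedSectionVars false
set_option backward.isDefEq.respectTransparency false
set_option synthInstance.maxHeartbeats 400000
set_option maxHeartbeats 1000000
universe u

open CategoryTheory CategoryTheory.Limits MonoidalCategory CartesianMonoidalCategory AlgebraicGeometry
  TopologicalSpace Opposite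
open Groth.Agent Groth.Agent.H25AbCube Groth.Agent.H25Pic0 Groth.Agent.H25AbCube.GeomTate

noncomputable section

attribute [local instance] overOf Functor.grpObjObj

namespace Groth.Agent.H25Index

variable {k : Type u} [Field k] [IsAlgClosed k] {A B : Over (Spec (CommRingCat.of k))} [GrpObj A] [IsProper A.hom]
  [GeometricallyIntegral A.hom] [GrpObj B] [IsProper B.hom] [GeometricallyIntegral B.hom]

theorem hh_congr (G G' : A.left.Modules) (e : G ≅ G') (w : PC A.left) (j : ℕ) : hh k G w j = hh k G' w j :=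
  hd_congr ((TR (rep w)).mapIso e) j

/-- Small perturbations do not change the index. -/
theorem isIndex_perturb {w : PC A.left} {i : ℕ} (hi : IsIndex w i) {H : A.left.Modules} (hH : CohB1.IsAmple H)
    (c : ℤ) : ∃ n₀, ∀ n : ℕ, n₀ ≤ n → IsIndex (cl w (pc H hH.1) c n) i := by
  haveI : CompactSpace A.left := QuasiCompact.compactSpace_of_compactSpace A.hom
  haveI : QuasiSeparatedSpace A.left := quasiSeparatedSpace_of_quasiSeparated A.hom
  haveI : IsIntegral A.left := GeometricallyIntegral.isIntegral_of_subsingleton A.hom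
  obtain ⟨g, hg⟩ := H25Grp.exists_nat_dim A.hom
  obtain ⟨Φ, -, hΦ⟩ := exists_line_poly (k := k) hg H hH w
  obtain ⟨-, -, hcount, hall⟩ := roots_isAlgClosed hg hi hH (Φ := Φ) fun n => by
    rw [← natCast_zsmul, hΦ n, Int.cast_natCast]
  have h0 : Φ.eval 0 ≠ 0 := by
    have := hΦ 0
    rw [zero_smul, add_zero, Int.cast_zero] at this
    rw [← this]
    exact Int.cast_ne_zero.2 (chiCls_ne_zero hi)
  let P := Φ.map (algebraMap ℚ ℝ)
  have hP : P ≠ 0 := Polynomial.map_ne_zero fun h => h0 (by rw [h, Polynomial.eval_zero])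
  have hnroot : (0 : ℝ) ∉ P.roots := fun h => h0 (by
    have h' := Polynomial.isRoot_of_mem_roots h
    rw [Polynomial.IsRoot.def, ← map_zero (algebraMap ℚ ℝ), Polynomial.eval_map_algebraMap,
      Polynomial.aeval_algebraMap_apply_eq_algebraMap_eval, map_zero] at h'
    exact (map_eq_zero _).1 h')
  obtain ⟨ε, hε, hεr⟩ : ∃ ε : ℝ, 0 < ε ∧ ∀ t ∈ P.roots, ε ≤ |t| := by
    refine Multiset.induction_on P.roots (fun _ => ⟨1, one_pos, fun t ht => absurd ht (Multiset.notMem_zero t)⟩)
      (fun a s ih h => ?_) hnroot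
    obtain ⟨ε, hε, hεs⟩ := ih fun h' => h (Multiset.mem_cons_of_mem h')
    refine ⟨min ε |a|, lt_min hε (abs_pos.2 fun e => h (e ▸ Multiset.mem_cons_self a s)), fun t ht => ?_⟩
    rcases Multiset.mem_cons.1 ht with rfl | ht
    exacts [min_le_right _ _, (min_le_left _ _).trans (hεs t ht)]
  obtain ⟨n₀, hn₀⟩ := exists_nat_gt (|(c : ℝ)| / ε)
  refine ⟨n₀ + 1, fun n hn => ?_⟩
  have hn' : (n₀ : ℝ) < n := Nat.cast_lt.2 hn
  have hn0 : (0 : ℝ) < n := lt_of_le_of_lt (Nat.cast_nonneg _) hn'
  have hsmall : |(c : ℝ) / n| < ε := by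
    rw [abs_div, abs_of_pos hn0, div_lt_iff₀ hn0]
    rw [div_lt_iff₀ hε] at hn₀
    nlinarith
  have hne : Φ.eval ((c : ℚ) / n) ≠ 0 := fun h => by
    have hmem : (c : ℝ) / n ∈ P.roots := by
      rw [Polynomial.mem_roots hP, Polynomial.IsRoot.def,
        show ((c : ℝ) / n) = algebraMap ℚ ℝ ((c : ℚ) / n) by rw [eq_ratCast]; push_cast; rfl,
        Polynomial.eval_map_algebraMap, Polynomial.aeval_algebraMap_apply_eq_algebraMap_eval, h, map_zero]
    exact absurd (hεr _ hmem) (not_le.2 hsmall)
  have h := hall c n (Nat.succ_le_iff.1 ((Nat.succ_le_succ (Nat.zero_le n₀)).trans hn)) hne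
  have hcard : Multiset.card (P.roots.filter fun t => (c : ℝ) / n < t) =
      Multiset.card (P.roots.filter fun t => 0 < t) := by
    refine congrArg Multiset.card (Multiset.filter_congr fun t ht => ?_)
    have h1 := hεr t ht
    rw [abs_lt] at hsmall
    constructor <;> intro h2
    · rcases le_or_gt t 0 with h3 | h3
      · rw [abs_of_nonpos h3] at h1; linarith
      · exact h3
    · rw [abs_of_pos h2] at h1; linarith
  rwa [hcard, ← hcount] at h

/-- Above the index, twists of any coherent module by high multiples have no cohomology. -/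
theorem hh_eventually_zero {w : PC A.left} {i : ℕ} (hi : IsIndex w i) (F : A.left.Modules) (hF : Coh.IsCoh F)
    {q : ℕ} (hq : i < q) : ∃ n₀, ∀ n : ℕ, n₀ ≤ n → hh k F (n • w) q = 0 := by
  haveI : IsLocallyNoetherian A.left := LocallyOfFiniteType.isLocallyNoetherian A.hom
  haveI : CompactSpace A.left := QuasiCompact.compactSpace_of_compactSpace A.hom
  haveI : QuasiSeparatedSpace A.left := quasiSeparatedSpace_of_quasiSeparated A.hom
  haveI : IsIntegral A.left := GeometricallyIntegral.isIntegral_of_subsingleton A.hom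
  obtain ⟨g, hg⟩ := H25Grp.exists_nat_dim A.hom
  obtain ⟨H, hH⟩ := exists_isAmple A
  suffices ∀ (j : ℕ) (F : A.left.Modules), Coh.IsCoh F → ∀ q, i < q → g + 1 ≤ q + j →
      ∃ n₀, ∀ n : ℕ, n₀ ≤ n → hh k F (n • w) q = 0 from this (g + 1) F hF q hq (Nat.le_add_left _ _)
  intro j
  induction j with
  | zero =>
    intro F _ q _ hgq
    refine ⟨0, fun n _ => ?_⟩
    haveI := subsingleton_HH_of_dim hg ((TR (rep (n • w))).obj F) q (by omega)
    exact Module.finrank_zero_of_subsingleton
  | succ j ih =>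
    intro F hF q hq hgq
    obtain ⟨m, r, ψ, -, hψ⟩ := H10Coh.Tw.exists_epi_sigma hH hF 0
    have hm := H11Ample.isInvertible_tensorPow hH.1 m
    have hO := H11Ample.isCoh_of_isInvertible (H11Ample.isInvertible_structureModule (X := A.left))
    have hsum : Coh.IsCoh (∐ fun _ : Fin r => Coh.structureModule A.left) :=
      H16Derived.KFlat.Stalk.isCoh_of_isFinLocFree (H16Derived.KFlat.Stalk.isFinLocFree_sigma _ fun _ =>
        H28Pinch.isFinLocFree_of_isInvertible H11Ample.isInvertible_structureModule)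
    have hFm := H11Ample.isCoh_tensor hF hm
    have hK := H10Coh.isCoh_kernel ψ hsum hFm.1
    let u : PC A.left := -(m • pc H hH.1)
    obtain ⟨n₁, hn₁⟩ := isIndex_perturb hi hH (-(m : ℤ))
    obtain ⟨n₂, hn₂⟩ := ih (CohB1.tensorMod (kernel ψ) (rep u)) (H11Ample.isCoh_tensor hK (isInvertible_rep u))
      (q + 1) (by omega) (by omega)
    refine ⟨max n₁ n₂, fun n hn => ?_⟩
    have hS : (ShortComplex.mk (kernel.ι ψ) ψ (kernel.condition ψ)).ShortExact :=
      { exact := ShortComplex.exact_kernel ψ }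
    have h := (hh_shortExact (k := k) hS hK hsum hFm (u + n • w) q).2.2
    dsimp only at h
    rw [hh_tensor F _ hm, (exists_pc_tensorPow hH.1 m).choose_spec] at h
    rw [show m • pc H hH.1 + (u + n • w) = n • w by simp only [u]; abel] at h
    have hK0 : hh k (kernel ψ) (u + n • w) (q + 1) = 0 := by
      rw [← hn₂ n ((le_max_right _ _).trans hn), hh_tensor _ _ (isInvertible_rep u), pc_rep]
    have hsum0 : hh k (∐ fun _ : Fin r => Coh.structureModule A.left) (u + n • w) q = 0 := by
      rw [hh_congr _ _ (biproduct.isoCoproduct _).symm, hh]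
      have e : (TR (rep (u + n • w))).obj (⨁ fun _ : Fin r => Coh.structureModule A.left) ≅
          ⨁ fun _ : Fin r => (TR (rep (u + n • w))).obj (Coh.structureModule A.left) :=
        (TR (rep (u + n • w))).mapBiproduct _ ≪≫ biproduct.mapIso fun _ => Iso.refl _
      rw [hd_congr e q,
        hd_sum ((TR (rep (u + n • w))).obj (Coh.structureModule A.left))
          (H10Coh.TT.isCoh_tensorMod hO (H11Ample.isCoh_of_isInvertible (isInvertible_rep _))) r q]
      have hj := hn₁ n ((le_max_left _ _).trans hn)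
      rw [show cl w (pc H hH.1) (-(m : ℤ)) n = u + n • w by
        simp only [cl, u, neg_smul, natCast_zsmul]; abel] at hj
      rw [show hd k ((TR (rep (u + n • w))).obj (Coh.structureModule A.left)) q = 0 from
        (chiCls_eq_of_isIndex hj).2 q hq.ne', mul_zero]
    omega

/-- The index of a restriction is at most the index. -/
theorem IsIndex.le_of_finite {w : PC A.left} {i : ℕ} (hi : IsIndex w i) (f : B ⟶ A) [IsFinite f.left] {j : ℕ}
    (hj : IsIndex (ev w f) j) : j ≤ i := by
  by_contra hlt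
  rw [not_le] at hlt
  haveI : IsLocallyNoetherian A.left := LocallyOfFiniteType.isLocallyNoetherian A.hom
  let O := Coh.structureModule B.left
  have hO := H11Ample.isCoh_of_isInvertible (H11Ample.isInvertible_structureModule (X := B.left))
  let F := (Coh.push f.left).obj O
  have hF : Coh.IsCoh F := H10Coh.isCoh_push_of_isFinite f.left _ hO
  obtain ⟨n₀, hn₀⟩ := hh_eventually_zero hi F hF hlt
  have hn := hn₀ (n₀ + 1) n₀.le_succ
  let n := n₀ + 1
  let P := rep (n • w)
  have hP := isInvertible_rep (n • w)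
  have hp := H11Ample.isInvertible_pullback f.left hP
  haveI : O.IsQuasicoherent := hO.1
  haveI := H10Coh.PF.isIso_ψ_of_isFinLocFree f.left (finLocFree_of_invertible hP) O
  haveI : (CohB1.tensorMod O ((Scheme.Modules.pullback f.left).obj P)).IsQuasicoherent :=
    (H11Ample.isCoh_of_isInvertible (H11Ample.isInvertible_tensor H11Ample.isInvertible_structureModule hp)).1
  have e1 : hh k F (n • w) j = hd k (CohB1.tensorMod O ((Scheme.Modules.pullback f.left).obj P)) j := by
    rw [hh, hd_congr (eqToIso (H25Euler.tensorBi_flip_obj F P) ≪≫ asIso (H16Derived.ProjFormula.ψ f.left O P)) j]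
    exact H28Int.Push.finrank_HH_push k f.left (Over.w f) (CohB1.tensorMod O ((Scheme.Modules.pullback f.left).obj P)) j
  have hc : pc _ hp = n • ev w f := by
    rw [pullP_pc _ P hP, pc_rep]
    exact map_nsmul _ _ _
  obtain ⟨-, h2⟩ := (hj.nsmul n₀.succ_pos).2 _ hp hc
  have h3 := hd_pos _ (H11Ample.isCoh_of_isInvertible hp) j h2
  rw [← hd_congr (H10Coh.Tw.leftUnitIso _) j, ← e1, hn] at h3
  exact lt_irrefl 0 h3

/-- Subadditivity of the index. -/
theorem IsIndex.le_add {u v : PC A.left} {a b i : ℕ} (hu : IsIndex u a) (hv : IsIndex v b) (h : IsIndex (u + v) i) :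
    i ≤ a + b := by
  haveI : GeometricallyIntegral (A ⊗ A).hom := H25Rig.geometricallyIntegral_tensor A A
  haveI : IsProper (A ⊗ A).hom := inferInstance
  let δ : A ⟶ A ⊗ A := lift (𝟙 A) (𝟙 A)
  haveI : IsProper ((fst A A).left ≫ A.hom) := by rw [Over.w]; infer_instance
  haveI : IsProper (fst A A).left := IsProper.of_comp (fst A A).left A.hom
  haveI : IsClosedImmersion (δ.left ≫ (fst A A).left) := by
    rw [← Over.comp_left, lift_fst, Over.id_left]; infer_instance
  haveI : IsClosedImmersion δ.left := IsClosedImmersion.of_comp δ.left (fst A A).left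
  haveI : IsFinite δ.left := inferInstance
  refine (hu.prod hv).le_of_finite δ ?_
  have e : ev (ev u (fst A A) + ev v (snd A A)) δ = u + v := by
    refine (map_add _ _ _).trans (congrArg₂ (· + ·) ?_ ?_)
    · exact (ev_comp u _ _).trans ((congrArg (ev u) (lift_fst _ _)).trans (pullP_id _))
    · exact (ev_comp v _ _).trans ((congrArg (ev v) (lift_snd _ _)).trans (pullP_id _))
  rwa [e]

/-- Subadditivity over an arbitrary field. -/
theorem concentrated_le_add {k : Type u} [Field k] {X : Over (Spec (CommRingCat.of k))} [GrpObj X] [IsProper X.hom]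
    [GeometricallyIntegral X.hom] (L₁ L₂ M : X.left.Modules) (hL₁ : PicF.IsInvertible L₁)
    (hL₂ : PicF.IsInvertible L₂) (hM : Nonempty (M ≅ CohB1.tensorMod L₁ L₂)) (i₁ i₂ i : ℕ)
    (h₁ : ∀ j, j ≠ i₁ → Subsingleton (Coh.HH X.left L₁ j)) (h₁' : Nontrivial (Coh.HH X.left L₁ i₁))
    (h₂ : ∀ j, j ≠ i₂ → Subsingleton (Coh.HH X.left L₂ j)) (h₂' : Nontrivial (Coh.HH X.left L₂ i₂))
    (h : ∀ j, j ≠ i → Subsingleton (Coh.HH X.left M j)) (h' : Nontrivial (Coh.HH X.left M i)) :
    i ≤ i₁ + i₂ := by
  obtain ⟨e⟩ := hM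
  have hT := H11Ample.isInvertible_tensor hL₁ hL₂
  have hT₁ : ∀ j, j ≠ i → Subsingleton (Coh.HH X.left (CohB1.tensorMod L₁ L₂) j) := fun j hj =>
    H10Coh.subsingleton_HH_of_iso e j (h j hj)
  have hT₂ : Nontrivial (Coh.HH X.left (CohB1.tensorMod L₁ L₂) i) := not_subsingleton_iff_nontrivial.1 fun hs =>
    not_subsingleton_iff_nontrivial.2 h' (H10Coh.subsingleton_HH_of_iso e.symm i hs)
  obtain ⟨a1, a2, a3⟩ := gM_concentrated L₁ hL₁ i₁ h₁ h₁'
  obtain ⟨b1, b2, b3⟩ := gM_concentrated L₂ hL₂ i₂ h₂ h₂'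
  obtain ⟨c1, c2, c3⟩ := gM_concentrated _ hT i hT₁ hT₂
  have hc := IsIndex.mk' c3 c1 c2
  rw [pullP_pc _ _ hT, pc_tensor hL₁ hL₂, map_add, ← pullP_pc _ L₁ hL₁ (H11Ample.isInvertible_pullback _ hL₁),
    ← pullP_pc _ L₂ hL₂ (H11Ample.isInvertible_pullback _ hL₂)] at hc
  exact (IsIndex.mk' a3 a1 a2).le_add (IsIndex.mk' b3 b1 b2) hc

end Groth.Agent.H25Index
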