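import Groth.Agent.H25Index.Roots
import Groth.Agent.H25Index.Powers
import Groth.Agent.H11Ample.AmpleOn

/-!
# All roots of the Hilbert polynomial are real and count the index
-/

set_option autoImplicit false
set_option linter.style.haveILetI false
set_option linter.unusedSectionVars false
set_option backward.isDefEq.respectTransparency false
set_option synthInstance.maxHeartbeats 400000
set_option maxHeartbeats 1000000
universe u

open CategoryTheory CategoryTheory.Limits MonoidalCategory CartesianMonoidalCategory AlgebraicGeometry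
  TopologicalSpace Opposite
open Groth.Agent Groth.Agent.H25AbCube Groth.Agent.H25Pic0 Groth.Agent.H25AbCube.GeomTate

noncomputable section

attribute [local instance] overOf Functor.grpObjObj

namespace Groth.Agent.H25Index

/-- The roots of the Hilbert polynomial over an algebraically closed field. -/
theorem roots_isAlgClosed {k : Type u} [Field k] [IsAlgClosed k] {A : Over (Spec (CommRingCat.of k))} [GrpObj A]
    [IsProper A.hom] [GeometricallyIntegral A.hom] {g : ℕ} (hg : topologicalKrullDim A.left = g) {ℓ : PC A.left}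
    {i : ℕ} (hi : IsIndex ℓ i) {H : A.left.Modules} (hH : CohB1.IsAmple H) {Φ : Polynomial ℚ}
    (hΦ : ∀ n : ℕ, (chiCls k (ℓ + n • pc H hH.1) : ℚ) = Φ.eval (n : ℚ)) :
    Multiset.card (Φ.map (algebraMap ℚ ℝ)).roots = Φ.natDegree ∧ Φ.natDegree = g ∧
      i = Multiset.card ((Φ.map (algebraMap ℚ ℝ)).roots.filter fun t => 0 < t) ∧
      ∀ (a : ℤ) (b : ℕ), 0 < b → Φ.eval ((a : ℚ) / b) ≠ 0 →
        IsIndex (cl ℓ (pc H hH.1) a b)
          (Multiset.card ((Φ.map (algebraMap ℚ ℝ)).roots.filter fun t => (a : ℝ) / b < t)) := by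
  haveI : CompactSpace A.left := QuasiCompact.compactSpace_of_compactSpace A.hom
  haveI : QuasiSeparatedSpace A.left := quasiSeparatedSpace_of_quasiSeparated A.hom
  obtain ⟨Q, hQ, hQe⟩ := exists_line_poly (k := k) hg H hH ℓ
  obtain rfl : Φ = Q := by
    refine Polynomial.eq_of_infinite_eval_eq _ _ ((Set.infinite_range_of_injective
      (f := fun n : ℕ => (n : ℚ)) Nat.cast_injective).mono ?_)
    rintro _ ⟨n, rfl⟩
    show Φ.eval (n : ℚ) = Q.eval (n : ℚ)
    have h := hQe (n : ℤ)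
    rw [natCast_zsmul, Int.cast_natCast] at h
    rw [← hΦ n, h]
  have hΦ' := hQe
  let J := jv ℓ (pc H hH.1)
  let P := Φ.map (algebraMap ℚ ℝ)
  have hspec : ∀ (a : ℤ) (j : ℕ), IsIndex (ℓ + a • pc H hH.1) j → J (a : ℚ) = j ∧ Φ.eval (a : ℚ) ≠ 0 := by
    intro a j hj
    have hc : IsIndex (cl ℓ (pc H hH.1) a 1) j := by rw [cl, one_nsmul]; exact hj
    have h0 : Φ.eval (a : ℚ) ≠ 0 := by
      rw [← hΦ']
      exact Int.cast_ne_zero.2 (chiCls_ne_zero hj)
    have he : (a : ℚ) / ((1 : ℕ) : ℚ) = a := by simp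
    have h := isIndex_jv hg hH hΦ' a Nat.one_pos (by rwa [he])
    rw [he] at h
    exact ⟨h.unique hc, h0⟩
  obtain ⟨hJ0, hne0⟩ := hspec 0 i (by rw [zero_smul, add_zero]; exact hi)
  have hcast : ∀ t : ℚ, P.eval (t : ℝ) = ((Φ.eval t : ℚ) : ℝ) := fun t => by
    rw [show ((t : ℝ)) = algebraMap ℚ ℝ t from (eq_ratCast _ _).symm, Polynomial.eval_map_algebraMap,
      Polynomial.aeval_algebraMap_apply_eq_algebraMap_eval, eq_ratCast]
  have hP : P ≠ 0 := fun h => hne0 (by
    have := hcast ((0 : ℤ) : ℚ)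
    rw [h, Polynomial.eval_zero] at this
    exact_mod_cast this.symm)
  obtain ⟨L, hL, hLℓ⟩ := exists_rep ℓ
  obtain ⟨L', hL', hL'ℓ⟩ := exists_rep (-ℓ)
  have hample : ∀ (M : A.left.Modules) (hM : PicF.IsInvertible M), ∃ T : ℕ, ∀ n, T ≤ n →
      IsIndex (n • pc H hH.1 + pc M hM) 0 := fun M hM => by
    obtain ⟨T, -, hT⟩ := H11Ample.eventually_ample_tensor hH hM
    refine ⟨T, fun n hn => ?_⟩
    obtain ⟨h1, e1⟩ := exists_pc_tensorPow hH.1 n
    have h := isIndex_ample (hT n hn).1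
    rwa [pc_tensor h1 hM, e1] at h
  have hpos : ∃ T : ℕ, ∀ n : ℕ, T ≤ n → J (n : ℚ) = 0 := by
    obtain ⟨T, hT⟩ := hample L hL
    refine ⟨T, fun n hn => ?_⟩
    have h := (hspec (n : ℤ) 0 (by rw [natCast_zsmul, add_comm, ← hLℓ]; exact hT n hn)).1
    rwa [Int.cast_natCast] at h
  have hneg : ∃ T : ℕ, ∀ n : ℕ, T ≤ n → J (-(n : ℚ)) = g := by
    obtain ⟨T, hT⟩ := hample L' hL'
    refine ⟨T, fun n hn => ?_⟩
    have h1 := ((hT n hn).le hg).2
    rw [hL'ℓ, neg_add, neg_neg, Nat.sub_zero, add_comm, ← natCast_zsmul, ← neg_smul] at h1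
    have h := (hspec (-(n : ℤ)) g h1).1
    rwa [Int.cast_neg, Int.cast_natCast] at h
  have hdeg : P.natDegree ≤ g := by rw [Polynomial.natDegree_map]; exact hQ
  have hdrops := drops hg hH hΦ'
  have hcount := fun (x : ℚ) (hx : P.eval (x : ℝ) ≠ 0) => hdrops.count hP hdeg hneg hpos x hx
  obtain ⟨c1, c2, c3⟩ := hcount ((0 : ℤ) : ℚ) (by rw [hcast]; exact Rat.cast_ne_zero.2 hne0)
  rw [Polynomial.natDegree_map] at c1 c2
  refine ⟨c1, c2, ?_, fun a b hb hab => ?_⟩
  · refine hJ0.symm.trans (c3.trans ?_)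
    simp
  · obtain ⟨-, -, h3⟩ := hcount ((a : ℚ) / b) (by rw [hcast]; exact Rat.cast_ne_zero.2 hab)
    have h := isIndex_jv hg hH hΦ' a hb hab
    rw [h3] at h
    simpa using h

/-- The roots of the Hilbert polynomial over an arbitrary field. -/
theorem roots_concentrated {k : Type u} [Field k] {X : Over (Spec (CommRingCat.of k))} [GrpObj X] [IsProper X.hom]
    [GeometricallyIntegral X.hom] (L : X.left.Modules) (hL : PicF.IsInvertible L) (i : ℕ)
    (hvan : ∀ j, j ≠ i → Subsingleton (Coh.HH X.left L j)) (hne : Nontrivial (Coh.HH X.left L i))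
    (H : X.left.Modules) (hH : CohB1.IsAmple H) (Φ : Polynomial ℚ)
    (hΦ : ∀ n : ℕ, Φ.eval (n : ℚ) =
      (@Curv2.euler k _ X.left ⟨X.hom⟩ (CohB1.tensorMod L (CohB1.tensorPow H n)) : ℚ)) :
    Multiset.card (Φ.map (algebraMap ℚ ℝ)).roots = Φ.natDegree ∧
      i = Multiset.card ((Φ.map (algebraMap ℚ ℝ)).roots.filter fun t => 0 < t) := by
  haveI : IsCommMonObj X := isCommMonObj_of_av
  haveI : IsAffineHom (gp X) := MorphismProperty.pullback_fst _ _ (inferInstanceAs (IsAffineHom (σ k (Kbar k))))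
  haveI : IsIntegral X.left := GeometricallyIntegral.isIntegral_of_subsingleton X.hom
  obtain ⟨h1, h2, h3⟩ := gM_concentrated L hL i hvan hne
  have hH' : CohB1.IsAmple (gM H) := H11Ample.isAmple_pullback_of_isAffineHom (gp X) hH
  obtain ⟨g, hg⟩ := H25Grp.exists_nat_dim X.hom
  have hK : topologicalKrullDim (gX X).left = g := dim_bc (Ω := Kbar k) X hg
  obtain ⟨r1, -, r3, -⟩ := roots_isAlgClosed hK (IsIndex.mk' h3 h1 h2) hH' (Φ := Φ) fun n => by
    have hP := H11Ample.isInvertible_tensorPow hH.1 n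
    have hT := H11Ample.isInvertible_tensor hL hP
    have hT' := H11Ample.isInvertible_pullback (gp X) hT
    rw [hΦ n, ← euler_gM _ (H11Ample.isCoh_of_isInvertible hT), ← chiCls_pc (k := Kbar k) _ hT',
      pullP_pc _ _ hT, pc_tensor hL hP, pc_tensorPow H hH.1 n, map_add, map_nsmul, pullP_pc _ L hL,
      pullP_pc _ H hH.1]
  exact ⟨r1, r3⟩

end Groth.Agent.H25Index
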