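import Groth.Agent.H25Index.RootsMain
import Groth.Agent.H11Tilde.Local

/-!
# Two non-degenerate bundles on a line through an ample class
-/

set_option autoImplicit false
set_option linter.style.haveILetI false
set_option linter.unusedSectionVars false
set_option backward.isDefEq.respectTransparency false
set_option synthInstance.maxHeartbeats 400000
set_option maxHeartbeats 1000000
universe u

open CategoryTheory CategoryTheory.Limits MonoidalCategory CartesianMonoidalCategory AlgebraicGeometry
  TopologicalSpace Opposite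
open Groth.Agent Groth.Agent.H25AbCube Groth.Agent.H25Pic0 Groth.Agent.H25AbCube.GeomTate

noncomputable section

attribute [local instance] overOf Functor.grpObjObj

namespace Groth.Agent.H25Index

/-- The indices at the two ends of a segment count the roots to the right. -/
theorem roots_two {k : Type u} [Field k] {X : Over (Spec (CommRingCat.of k))} [GrpObj X] [IsProper X.hom]
    [GeometricallyIntegral X.hom] (L H M : X.left.Modules) (hL : PicF.IsInvertible L) (hH : CohB1.IsAmple H)
    (hM : Nonempty (M ≅ CohB1.tensorMod L H)) (i i' : ℕ)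
    (hvan : ∀ j, j ≠ i → Subsingleton (Coh.HH X.left L j)) (hne : Nontrivial (Coh.HH X.left L i))
    (hvan' : ∀ j, j ≠ i' → Subsingleton (Coh.HH X.left M j)) (hne' : Nontrivial (Coh.HH X.left M i'))
    (Φ : Polynomial ℚ)
    (hΦ : ∀ n : ℕ, Φ.eval (n : ℚ) =
      (@Curv2.euler k _ X.left ⟨X.hom⟩ (CohB1.tensorMod L (CohB1.tensorPow H n)) : ℚ)) :
    i = Multiset.card ((Φ.map (algebraMap ℚ ℝ)).roots.filter fun t => 0 < t) ∧
      i' = Multiset.card ((Φ.map (algebraMap ℚ ℝ)).roots.filter fun t => 1 < t) := by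
  haveI : IsCommMonObj X := isCommMonObj_of_av
  haveI : IsAffineHom (gp X) := MorphismProperty.pullback_fst _ _ (inferInstanceAs (IsAffineHom (σ k (Kbar k))))
  haveI : IsIntegral X.left := GeometricallyIntegral.isIntegral_of_subsingleton X.hom
  have hLH := H11Ample.isInvertible_tensor hL hH.1
  have hMi : PicF.IsInvertible M := H11Tilde.isInvertible_of_iso hM.some.symm hLH
  obtain ⟨h1, h2, h3⟩ := gM_concentrated L hL i hvan hne
  obtain ⟨k1, k2, k3⟩ := gM_concentrated M hMi i' hvan' hne'
  have hH' : CohB1.IsAmple (gM H) := H11Ample.isAmple_pullback_of_isAffineHom (gp X) hH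
  obtain ⟨g, hg⟩ := H25Grp.exists_nat_dim X.hom
  have hK : topologicalKrullDim (gX X).left = g := dim_bc (Ω := Kbar k) X hg
  have hEe : ∀ n : ℕ, (chiCls (Kbar k) (pc (gM L) (H11Ample.isInvertible_pullback (gp X) hL) +
      n • pc (gM H) hH'.1) : ℚ) = Φ.eval (n : ℚ) := fun n => by
    have hP := H11Ample.isInvertible_tensorPow hH.1 n
    have hT := H11Ample.isInvertible_tensor hL hP
    have hT' := H11Ample.isInvertible_pullback (gp X) hT
    rw [hΦ n, ← euler_gM _ (H11Ample.isCoh_of_isInvertible hT), ← chiCls_pc (k := Kbar k) _ hT',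
      pullP_pc _ _ hT, pc_tensor hL hP, pc_tensorPow H hH.1 n, map_add, map_nsmul, pullP_pc _ L hL,
      pullP_pc _ H hH.1]
  obtain ⟨-, -, r3, r4⟩ := roots_isAlgClosed hK (IsIndex.mk' h3 h1 h2) hH' (Φ := Φ) hEe
  refine ⟨r3, ?_⟩
  have he : pc (gM M) (H11Ample.isInvertible_pullback (gp X) hMi) =
      pc (gM L) (H11Ample.isInvertible_pullback (gp X) hL) + pc (gM H) hH'.1 := by
    rw [pullP_pc _ M hMi, pullP_pc _ L hL, pullP_pc _ H hH.1, ← map_add, ← pc_tensor hL hH.1 hLH,
      (pc_eq_iff hMi hLH).2 hM]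
  have hI := IsIndex.mk' k3 k1 k2
  rw [he] at hI
  have hne1 : Φ.eval (((1 : ℤ) : ℚ) / ((1 : ℕ) : ℚ)) ≠ 0 := by
    have h := hEe 1
    rw [one_nsmul] at h
    simp only [Int.cast_one, Nat.cast_one, div_one] at h ⊢
    rw [← h]
    exact Int.cast_ne_zero.2 (chiCls_ne_zero hI)
  have h := r4 1 1 Nat.one_pos hne1
  rw [cl, one_nsmul, one_smul] at h
  have := hI.unique h
  simpa using this

end Groth.Agent.H25Index
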