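import Groth.Agent.H25Index.Acyclic
import Groth.Agent.LeadBC.Grauert
import Groth.Agent.H25Pic0.Surj
import Groth.Agent.H23Para.RS.Normal

/-!
# Higher direct images with fibres acyclic outside finitely many closed points
-/

set_option autoImplicit false
set_option linter.style.haveILetI false
set_option linter.unusedSectionVars false
set_option backward.isDefEq.respectTransparency false
set_option maxHeartbeats 1000000
universe u

open AlgebraicGeometry CategoryTheory CategoryTheory.Limits TopologicalSpace Opposite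
open Groth.Agent Groth.Agent.LeadBC Groth.Agent.H06FlatCx

noncomputable section

namespace Groth.Agent.H25Index

/-- Below the dimension of the base the higher direct images vanish. -/
theorem isZero_rpush_of_lt {P T : Scheme.{u}} (f : P ⟶ T) [IsProper f] [IsLocallyNoetherian T] [JacobsonSpace T]
    [HasInjectiveResolutions P.Modules] {F : P.Modules} (hF : Coh.IsCoh F) (hfl : FlatMod.IsFlatOver f F) (g : ℕ)
    (hreg : ∀ z : T, IsClosed ({z} : Set T) →
      IsRegularLocalRing (T.presheaf.stalk z) ∧ ringKrullDim (T.presheaf.stalk z) = g)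
    (S : Set T) (hScl : ∀ z ∈ S, IsClosed ({z} : Set T)) (hS : S.Finite)
    (hvan : ∀ z : T, IsClosed ({z} : Set T) → z ∉ S → ∀ n, Subsingleton (CohIII.fiberH f F z n))
    (n : ℕ) (hn : n < g) : IsZero ((Coh.Rpush f n).obj F) := by
  haveI : F.IsQuasicoherent := hF.1
  refine H25Pic0.isZero_of_forall_sections _ fun U => subsingleton_of_forall_eq 0 fun s =>
    H25Par.section_eq_zero (H10Coh.sh ((Coh.Rpush f n).obj F)) (fun y _ => ?_) s
  obtain ⟨V, hV, hy, -⟩ := LeadBC.affine_around y (U := ⊤) trivial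
  obtain ⟨ι, hι, W, hW, ⟨m⟩⟩ := exists_chart_model (f := f) (hV := hV) hF hfl
  haveI : (chartF f hV F).IsQuasicoherent := H29Fitt.isQCoh_pullback _ F hF.1
  haveI : IsNoetherianRing Γ(T, V) := IsLocallyNoetherian.component_noetherian ⟨V, hV⟩
  let A := Γ(T, V)
  obtain ⟨L, hL, hLz, -, hT⟩ := m.exists_amplitude hW 0 m.N
    (fun p hp => m.bound _ inferInstance p hp.le) fun y p hp => absurd hp (Nat.not_lt_zero p)
  have heq : ∀ p : ℕ, Nonempty (H0 L ((p : ℤ) - 1) p ((p : ℤ) + 1) ≃ₗ[A]
      H0 m.P ((m.N : ℤ) - p + 1) ((m.N : ℤ) - p) ((m.N : ℤ) - p - 1)) := fun p => by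
    obtain ⟨e⟩ := hT p (ModuleCat.of A A)
    haveI := (m.finite_flat ((m.N : ℤ) - p - 1)).2
    haveI := (hL ((p : ℤ) + 1)).2
    exact ⟨((tSelfEquiv L (CochainComplex.prev ℤ p) (CochainComplex.next ℤ p)).trans e.symm).trans
      (tSelfEquiv m.P (down_prev _) (down_next _)).symm⟩
  -- the homology is supported at closed points
  have hann : ∀ (p : ℕ) (z : T) (hz : z ∈ V), IsClosed ({z} : Set T) → z ∉ S →
      ∃ a ∉ (hV.primeIdealOf ⟨z, hz⟩).asIdeal,
        ∀ x : H0 L ((p : ℤ) - 1) p ((p : ℤ) + 1), a • x = 0 := fun p z hz hzc hzS => by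
    obtain ⟨-, -, h3⟩ := local_of_dRank_zero m.P m.finite_flat _ _
      (m.subsingleton_chart_point hW z hz p (hvan z hzc hzS p))
    obtain ⟨a, ha, hkill⟩ := exists_smul_h0_eq_zero m.P m.finite_flat _ _ h3
    obtain ⟨e⟩ := heq p
    exact ⟨a, ha, fun x => e.injective (by rw [map_smul, hkill, map_zero])⟩
  have hpt : ∀ q : PrimeSpectrum A, ∃ hq : hV.fromSpec q ∈ V, hV.primeIdealOf ⟨_, hq⟩ = q := fun q => by
    have hq : hV.fromSpec q ∈ V := by
      show hV.fromSpec q ∈ (V : Set T)
      rw [← hV.range_fromSpec]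
      exact ⟨q, rfl⟩
    exact ⟨hq, hV.fromSpec.isOpenEmbedding.injective (hV.fromSpec_primeIdealOf ⟨_, hq⟩)⟩
  have hSc : IsClosed S := by rw [← Set.biUnion_of_singleton S]; exact hS.isClosed_biUnion hScl
  have hmax : ∀ (z : T) (hz : z ∈ V), IsClosed ({z} : Set T) → (hV.primeIdealOf ⟨z, hz⟩).asIdeal.IsMaximal :=
    fun z hz hzc => hV.primeIdealOf_isMaximal_of_isClosed ⟨z, hz⟩ hzc
  have hsupp : ∀ (p : ℕ) (q : PrimeSpectrum A),
      q ∈ Module.support A (H0 L ((p : ℤ) - 1) p ((p : ℤ) + 1)) → q.asIdeal.IsMaximal := by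
    intro p q hq
    by_contra hnm
    obtain ⟨hqV, hqe⟩ := hpt q
    obtain ⟨z, ⟨⟨hcl, hzS⟩, hzV⟩, hzc⟩ := nonempty_inter_closedPoints
      (Z := closure ({hV.fromSpec q} : Set T) ∩ Sᶜ ∩ (V : Set T))
      ⟨hV.fromSpec q, ⟨subset_closure rfl, fun h => hnm (by
        have := hmax _ hqV (hScl _ h)
        rwa [hqe] at this)⟩, hqV⟩
      ((isClosed_closure.isLocallyClosed.inter hSc.isOpen_compl.isLocallyClosed).inter V.isOpen.isLocallyClosed)
    obtain ⟨a, ha, hkill⟩ := hann p z hzV (mem_closedPoints_iff.1 hzc) hzS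
    have hs : q ⤳ hV.primeIdealOf ⟨z, hzV⟩ := by
      rw [← hV.fromSpec.isOpenEmbedding.isInducing.specializes_iff, hV.fromSpec_primeIdealOf]
      exact specializes_iff_mem_closure.2 hcl
    have hle : q.asIdeal ≤ (hV.primeIdealOf ⟨z, hzV⟩).asIdeal := (PrimeSpectrum.le_iff_specializes _ _).2 hs
    haveI := (hL (p : ℤ)).1
    haveI : Module.Finite A (H0 L ((p : ℤ) - 1) p ((p : ℤ) + 1)) := finite_h0 L _ _ _
    rw [Module.support_eq_zeroLocus, PrimeSpectrum.mem_zeroLocus] at hq
    exact ha (hle (hq (Module.mem_annihilator.2 hkill)))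
  haveI : Subsingleton (H0 L ((n : ℤ) - 1) n ((n : ℤ) + 1)) := by
    refine Module.support_eq_empty_iff (R := A).1 (Set.eq_empty_iff_forall_notMem.2 fun x hx => ?_)
    haveI := hsupp n x hx
    obtain ⟨hxV, hxe⟩ := hpt x
    let z := hV.fromSpec x
    have hzc : IsClosed ({z} : Set T) := by
      have hloc : IsClosed ({⟨z, hxV⟩} : Set (V : Set T)) := by
        have hcl := (PrimeSpectrum.isClosed_singleton_iff_isMaximal x).2 inferInstance
        have hc : Continuous (fun w : (V : Set T) => hV.primeIdealOf w) :=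
          (hV.isoSpec.hom.continuous : Continuous _)
        convert hcl.preimage hc
        ext w
        simp only [Set.mem_singleton_iff, Set.mem_preimage]
        exact ⟨fun h => by rw [h]; exact hxe, fun h => Subtype.ext ((hV.fromSpec_primeIdealOf w).symm.trans
          (congrArg (fun q : PrimeSpectrum A => hV.fromSpec q) h))⟩
      obtain ⟨w, hw1, hw2⟩ := nonempty_inter_closedPoints (Z := closure ({z} : Set T) ∩ (V : Set T))
        ⟨z, subset_closure rfl, hxV⟩ (isClosed_closure.isLocallyClosed.inter V.isOpen.isLocallyClosed)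
      have hzw : (⟨z, hxV⟩ : (V : Set T)) ⤳ ⟨w, hw1.2⟩ :=
        (subtype_specializes_iff _ _).2 (specializes_iff_mem_closure.2 hw1.1)
      have hwz : w = z := congrArg Subtype.val (Set.mem_singleton_iff.1 (hzw.mem_closed hloc rfl))
      exact hwz ▸ mem_closedPoints_iff.1 hw2
    obtain ⟨hr, hd⟩ := hreg z hzc
    letI := TopCat.Presheaf.algebra_section_stalk T.presheaf (⟨z, hxV⟩ : V)
    haveI : IsLocalization.AtPrime (T.presheaf.stalk z) x.asIdeal := by
      have := hV.isLocalization_stalk ⟨z, hxV⟩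
      rwa [hxe] at this
    let e := (IsLocalization.algEquiv x.asIdeal.primeCompl (T.presheaf.stalk z)
      (Localization.AtPrime x.asIdeal)).toRingEquiv
    haveI := hr
    haveI : IsRegularLocalRing (Localization.AtPrime x.asIdeal) := H23Para.RS.isRegularLocalRing_of_ringEquiv e
    have h0 := subTensor_h0_of_lt L hL (fun i hi => hLz i (Or.inl (by omega))) x.asIdeal g
      ((ringKrullDim_eq_of_ringEquiv e).symm.trans hd) hsupp n hn
    haveI : Subsingleton (TensorProduct A (Localization.AtPrime x.asIdeal) (H0 L ((n : ℤ) - 1) n ((n : ℤ) + 1))) := h0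
    exact (Module.notMem_support_iff.2 (LocalizedModule.equivTensorProduct x.asIdeal.primeCompl
      (H0 L ((n : ℤ) - 1) n ((n : ℤ) + 1))).toEquiv.subsingleton) hx
  obtain ⟨e⟩ := heq n
  obtain ⟨e'⟩ := m.exists_sections_equiv hW n
  haveI : Subsingleton Γ((Coh.Rpush f n).obj F, V) := (e.trans e').toEquiv.symm.subsingleton
  have hz0 := isZero_restrict_basicOpen _ (H10Coh.isQuasicoherent_rpush f F n) hV (1 : Γ(T, V))
    fun z => Subsingleton.elim _ _
  exact H25Pic0.subsingleton_stalk_of_restrict _ _ hz0 y ((T.mem_basicOpen _ y hy).2 (by simp))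

end Groth.Agent.H25Index
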