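import Groth.Agent.H25Index.Cut

/-!
# Growth of twists in two directions, and chains of cuts
-/

set_option autoImplicit false
set_option linter.style.haveILetI false
set_option linter.unusedSectionVars false
set_option backward.isDefEq.respectTransparency false
set_option maxHeartbeats 1000000
universe u

open CategoryTheory CategoryTheory.Limits MonoidalCategory AlgebraicGeometry TopologicalSpace Opposite
open Groth.Agent Groth.Agent.H25AbCube

noncomputable section

namespace Groth.Agent.H25Index

variable {k : Type u} [Field k] {X : Scheme.{u}} [X.Over (Spec (CommRingCat.of k))]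
  [IsProper (X ↘ Spec (CommRingCat.of k))] [IsNoetherian X]

theorem dim_support_mono {M N : X.Modules} (h : CohB1.support M ⊆ CohB1.support N) :
    topologicalKrullDim (CohB1.support M) ≤ topologicalKrullDim (CohB1.support N) :=
  Topology.IsInducing.topologicalKrullDim_le (f := Set.inclusion h) (Topology.IsEmbedding.inclusion h).isInducing

/-- Twists in two directions grow at most like the dimension of the support. -/
theorem hh_growth {H : X.Modules} (hH : CohB1.IsAmple H) (v : PC X) :
    ∀ (d : ℕ) (G : X.Modules), Coh.IsCoh G → topologicalKrullDim (CohB1.support G) < (d : WithBot ℕ∞) →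
      ∀ j, ∃ C, ∀ a c : ℕ, hh k G (a • pc H hH.1 + c • v) j ≤ C * wt d (a + c) := by
  have hpow : ∀ (G : X.Modules) (w : PC X) (n j : ℕ),
      hh k G (n • w) j = hd k ((TR (CohB1.tensorPow (rep w) n)).obj G) j := fun G w n j => by
    obtain ⟨h', e⟩ := exists_pc_tensorPow (isInvertible_rep w) n
    exact hh_eq G _ _ h' (by rw [e, pc_rep]) j
  intro d
  induction d with
  | zero =>
    intro G hG hd j
    refine ⟨0, fun a c => ?_⟩
    obtain ⟨C, hC⟩ := growth (k := k) hH _ (isInvertible_rep (a • pc H hH.1 + c • v)) 0 G hG hd j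
    have h := hC 1
    rw [← hpow, one_nsmul] at h
    rw [zero_mul]
    simpa [wt] using h
  | succ d ih =>
    intro G hG hd j
    obtain ⟨b, G', hb, hG', hd', hcut⟩ := exists_hh_cut (k := k) hH hG hd
    obtain ⟨C₁, hC₁⟩ := ih G' hG' hd' j
    have hbase : ∀ r : ℕ, ∃ C, ∀ c, hh k G (r • pc H hH.1 + c • v) j ≤ C * wt (d + 1) (r + c) := fun r => by
      have hP := H11Ample.isInvertible_tensorPow hH.1 r
      obtain ⟨C, hC⟩ := growth (k := k) hH _ (isInvertible_rep v) (d + 1) (CohB1.tensorMod G (CohB1.tensorPow H r))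
        (H11Ample.isCoh_tensor hG hP)
        ((dim_support_mono (H25Euler.support_tensor_subset G _)).trans_lt hd) j
      refine ⟨C, fun c => ?_⟩
      have h := hC c
      rw [← hpow, hh_tensor G _ hP, (exists_pc_tensorPow hH.1 r).choose_spec] at h
      exact h.trans (Nat.mul_le_mul_left _ (wt_mono _ (Nat.le_add_left c r)))
    choose C hC using hbase
    let M := ∑ r ∈ Finset.range b, C r
    have hM : ∀ a c, hh k G (a • pc H hH.1 + c • v) j ≤ M * wt (d + 1) (a + c) + a * C₁ * wt d (a + c) := by
      intro a
      induction a using Nat.strong_induction_on with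
      | _ a iha =>
        intro c
        rcases lt_or_ge a b with h | h
        · exact ((hC a c).trans (Nat.mul_le_mul_right _ (Finset.single_le_sum (f := C) (fun _ _ => Nat.zero_le _)
            (Finset.mem_range.2 h)))).trans (Nat.le_add_right _ _)
        · obtain ⟨m, rfl⟩ := Nat.exists_eq_add_of_le' h
          have h1 := (hcut (m • pc H hH.1 + c • v) j).1
          rw [show m • pc H hH.1 + c • v + b • pc H hH.1 = (m + b) • pc H hH.1 + c • v by rw [add_nsmul]; abel]
            at h1
          have h2 := iha m (by omega) c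
          have h3 := hC₁ m c
          have h4 : (m + 1) * (C₁ * wt d (m + c)) ≤ (m + b) * (C₁ * wt d (m + b + c)) :=
            Nat.mul_le_mul (by omega) (Nat.mul_le_mul_left _ (wt_mono d (by omega)))
          have h5 : M * wt (d + 1) (m + c) ≤ M * wt (d + 1) (m + b + c) :=
            Nat.mul_le_mul_left _ (wt_mono _ (by omega))
          nlinarith
    refine ⟨M + C₁, fun a c => (hM a c).trans ?_⟩
    have h1 := succ_mul_wt d (a + c)
    have h2 : a * wt d (a + c) ≤ (a + c + 1) * wt d (a + c) := Nat.mul_le_mul_right _ (by omega)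
    nlinarith

/-- Cohomology in a degree above the cohomology of all the further twists comes from a module
supported in lower dimension. -/
theorem exists_chain {H : X.Modules} (hH : CohB1.IsAmple H) (d : ℕ) : ∀ (l : ℕ) (G : X.Modules), Coh.IsCoh G →
    topologicalKrullDim (CohB1.support G) < ((d + l : ℕ) : WithBot ℕ∞) →
    ∃ (G' : X.Modules) (R : ℕ), Coh.IsCoh G' ∧ topologicalKrullDim (CohB1.support G') < (d : WithBot ℕ∞) ∧
      ∀ (w : PC X) (p p₀ : ℕ),
        (∀ r, 1 ≤ r → r ≤ R → ∀ q, p₀ ≤ q → hh k G (w + r • pc H hH.1) q = 0) → p₀ + l ≤ p + 1 →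
        hh k G w p ≤ hh k G' w (p - l) := by
  intro l
  induction l with
  | zero => exact fun G hG hd => ⟨G, 0, hG, hd, fun w p p₀ _ _ => le_rfl⟩
  | succ l ih =>
    intro G hG hd
    obtain ⟨b, G₁, hb, hG₁, hd₁, hcut⟩ := exists_hh_cut (k := k) hH hG (d := d + l) hd
    obtain ⟨G', R, hG', hd', hR⟩ := ih G₁ hG₁ hd₁
    refine ⟨G', R + b, hG', hd', fun w p p₀ hz hp => ?_⟩
    have hz₁ : ∀ r, 1 ≤ r → r ≤ R → ∀ q, p₀ ≤ q → hh k G₁ (w + r • pc H hH.1) q = 0 := fun r h1 h2 q hq => by
      have h := (hcut (w + r • pc H hH.1) q).2.2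
      rw [add_assoc, ← add_nsmul, hz (r + b) (by omega) (by omega) q hq, hz r h1 (by omega) (q + 1) (by omega)] at h
      omega
    have h := (hcut w p).2.1
    rw [hz b hb (by omega) p (by omega), zero_add] at h
    rw [show p - (l + 1) = p - 1 - l by omega]
    exact h.trans (hR w (p - 1) p₀ hz₁ (by omega))

end Groth.Agent.H25Index
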